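import Cfsg.Agent.Lib.ConjFunctor.Orbit

/-!
# Control of weak closure: from local to global, relative to a subgroup
-/

set_option autoImplicit false
set_option linter.style.haveILetI false
set_option linter.unusedSectionVars false

namespace Cfsg.Agent.ConjFunctor

open Subgroup
open scoped commutatorElement

variable {G : Type*} [Group G] [Finite G] {p : ℕ} [hp : Fact p.Prime]

/-- A conjugate of `U` by an element of `H`, fully normalized in `T` relative to `H`, carrying
`N_T(U)` along. -/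
theorem exists_fn_conj_rel {H T U : Subgroup G} (hT : IsSylIn p T H) (hU : U ≤ T) :
    ∃ h ∈ H, cj h U ≤ T ∧ cj h (nS T U) ≤ nS T (cj h U) ∧
      IsSylIn p (nS T (cj h U)) (H ⊓ normalizer ((cj h U : Subgroup G) : Set G)) := by
  obtain ⟨Q, hQ, hle⟩ := exists_isSylIn_ge (p := p)
    (inf_le_inf_right (normalizer (U : Set G)) hT.1 : nS T U ≤ _) hT.2.1.to_inf_left
  obtain ⟨h, hh, hhQ⟩ := exists_conj_le_of_isSylIn hT (hQ.1.trans inf_le_left) hQ.2.1
  have hn : cj h (nS T U) ≤ nS T (cj h U) := le_inf ((cj_le_cj.mpr hle).trans hhQ)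
    (by rw [← cj_normalizer]; exact cj_le_cj.mpr inf_le_right)
  refine ⟨h, hh, (cj_le_cj.mpr (le_nS hU)).trans (hn.trans inf_le_left), hn, ?_⟩
  have h1 := isSylIn_map hQ h
  rw [cj_inf, cj_eq_of_mem hh, cj_normalizer] at h1
  refine ⟨inf_le_inf_right _ hT.1, hT.2.1.to_inf_left, fun hd => h1.2.2 (hd.trans ?_)⟩
  exact relIndex_dvd_of_le_left _ (le_inf hhQ (h1.1.trans inf_le_right))

/-- Alperin's theorem inside a subgroup `H`, as an induction principle. -/
theorem alperin_rel {H T : Subgroup G} (hT : IsSylIn p T H) {R : Set G → G → Prop}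
    (h1 : ∀ A, R A 1) (hmul : ∀ A c d, R A c → R (cS c A) d → R A (d * c))
    (hstep : ∀ U : Subgroup G, U ≤ T → IsSylIn p (nS T U) (H ⊓ normalizer (U : Set G)) →
      ∀ B : Set G, B ⊆ (U : Set G) → ∀ x ∈ H ⊓ normalizer (U : Set G), R B x)
    {A : Set G} {g : G} (hg : g ∈ H) (hA : A ⊆ (T : Set G)) (hgA : cS g A ⊆ (T : Set G)) :
    R A g := by
  let S₀ : Sylow p ↥H := (hT.2.1.comap_subtype (K := H)).toSylow hT.2.2
  have hS₀ : ((S₀ : Subgroup ↥H) : Set ↥H) = H.subtype ⁻¹' (T : Set G) := rfl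
  have himg : ∀ (c : ↥H) (B : Set ↥H), H.subtype '' (cS c B) = cS (c : G) (H.subtype '' B) := by
    intro c B
    rw [cS, cS, Set.image_image, Set.image_image]
    rfl
  have hst := alperin_fn S₀ (H.subtype ⁻¹' A) ⟨g, hg⟩ (fun a ha => hA ha)
    (by rintro _ ⟨a, ha, rfl⟩; exact hgA ⟨a, ha, rfl⟩)
  have key := hst.induction_rel (R := fun B c => R (H.subtype '' B) (c : G)) (fun B => h1 _)
    (fun B c d hc hd => hmul _ _ _ hc (himg c B ▸ hd)) fun U hU B hB x hx => by
      have hUT : U.map H.subtype ≤ T := by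
        rintro _ ⟨u, hu, rfl⟩
        exact hU.1 hu
      refine hstep _ hUT ?_ _ ?_ x ?_
      · have h2 := isSylIn_map_injective H.subtype H.subtype_injective (hU.sylIn S₀.2)
        rw [map_inf_normalizer_of_injective _ H.subtype_injective,
          map_normalizer_of_injective _ H.subtype_injective, range_subtype] at h2
        have h3 : (S₀ : Subgroup ↥H).map H.subtype = T := by
          show (T.subgroupOf H).map H.subtype = T
          rw [subgroupOf_map_subtype, inf_eq_left.mpr hT.1]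
        rwa [h3] at h2
      · exact Set.image_mono hB
      · have h2 : (x : G) ∈ (normalizer (U : Set ↥H)).map H.subtype := mem_map_of_mem _ hx
        rwa [map_normalizer_of_injective _ H.subtype_injective, range_subtype] at h2
  have e : H.subtype '' (H.subtype ⁻¹' A) = A :=
    Set.image_preimage_eq_of_subset fun a ha => ⟨⟨a, hT.1 (hA ha)⟩, rfl⟩
  rwa [e] at key

/-- Weak closure of a central set `B`, measured by the subgroup `N`, follows from the case in
which `B` lies in `O_p`. The hypothesis `Adm` is passed down to normalizers. -/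
theorem weakClosure_induction (W : Subgroup G → Subgroup G) (hW : Cfsg.IsConjugacyFunctor p W)
    (hWZ : ∀ P : Subgroup G, IsPGroup p P → P ⊓ centralizer ((P : Subgroup G) : Set G) ≤ W P)
    (B : Set G) (N : Subgroup G) (hNB : ∀ n ∈ N, cS n B = B) (hne : ∃ b ∈ B, b ≠ 1)
    (Adm : Subgroup G → Prop)
    (hAdm : ∀ T U : Subgroup G, Adm T → U ≤ T → B ⊆ (U : Set G) → Adm (nS T U))
    (core : ∀ H T : Subgroup G, IsSylIn p T H →
      B ⊆ ((T ⊓ centralizer (T : Set G) : Subgroup G) : Set G) → Adm T →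
      B ⊆ (Cfsg.pCoreOf p H : Set G) → H ⊓ normalizer ((W T : Subgroup G) : Set G) ≤ N →
      (∀ K, T ≤ K → K ≤ H → K ≠ H → K ≤ N) → H ≤ N) :
    ∀ H T : Subgroup G, IsSylIn p T H →
      B ⊆ ((T ⊓ centralizer (T : Set G) : Subgroup G) : Set G) → Adm T →
      H ⊓ normalizer ((W T : Subgroup G) : Set G) ≤ N →
      ∀ g ∈ H, cS g B ⊆ (T : Set G) → g ∈ N := by
  suffices main : ∀ n, ∀ H T : Subgroup G, Nat.card H ≤ n → IsSylIn p T H →
      B ⊆ ((T ⊓ centralizer (T : Set G) : Subgroup G) : Set G) → Adm T →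
      H ⊓ normalizer ((W T : Subgroup G) : Set G) ≤ N →
      ∀ g ∈ H, cS g B ⊆ (T : Set G) → g ∈ N by
    exact fun H T => main _ H T le_rfl
  intro n
  induction n with
  | zero =>
    intro H T hn
    have : 0 < Nat.card H := Nat.card_pos
    omega
  | succ n ih =>
    intro H T hn hT hB hA hN₀ g hg hgB
    have loc : ∀ U : Subgroup G, U ≤ T → IsSylIn p (nS T U) (H ⊓ normalizer (U : Set G)) →
        B ⊆ (U : Set G) →
        H ⊓ normalizer (U : Set G) ⊓ normalizer ((W (nS T U) : Subgroup G) : Set G) ≤ N →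
        H ⊓ normalizer (U : Set G) ≤ N := by
      intro U hUT hsyl hBU h0
      by_cases hU : H ⊓ normalizer (U : Set G) = H
      · rw [hU] at h0 hsyl ⊢
        have hTe : nS T U = T := eq_of_isSylIn_of_le hT
          (by
            refine le_inf le_rfl ?_
            exact hT.1.trans (inf_eq_left.mp hU))
          (inf_le_left.trans hT.1) hT.2.1.to_inf_left
        rw [hTe] at h0
        refine core H T hT hB hA (fun b hb => ?_) h0 fun K hTK hKH hne k hk => ?_
        · exact LocalEvenA.le_pCoreOf (hUT.trans hT.1) (inf_eq_left.mp hU) (hT.2.1.to_le hUT)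
            (hBU hb)
        · refine ih K T ?_ (isSylIn_of_le hT hTK hKH) hB hA ((inf_le_inf_right _ hKH).trans h0)
            k hk ?_
          · have := card_lt_of_lt' (lt_of_le_of_ne hKH hne)
            omega
          · exact (cS_subset_of_mem (inf_eq_left.mp hU (hKH hk)) hBU).trans fun x hx => hUT hx
      · intro k hk
        refine ih (H ⊓ normalizer (U : Set G)) (nS T U) ?_ hsyl ?_ (hAdm T U hA hUT hBU) h0 k hk
          ((cS_subset_of_mem hk.2 hBU).trans (le_nS hUT))
        · have := card_lt_of_lt' (lt_of_le_of_ne inf_le_left hU)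
          omega
        · intro b hb
          refine ⟨⟨(hB hb).1, le_normalizer (hBU hb)⟩, mem_centralizer_iff.mpr fun y hy => ?_⟩
          exact mem_centralizer_iff.mp (hB hb).2 y hy.1
    suffices H' : ∀ m, ∀ U : Subgroup G, U ≤ T →
        IsSylIn p (nS T U) (H ⊓ normalizer (U : Set G)) → B ⊆ (U : Set G) →
        Nat.card T ≤ Nat.card (nS T U : Subgroup G) + m → H ⊓ normalizer (U : Set G) ≤ N by
      refine alperin_rel hT (R := fun A c => A = B → c ∈ N) (fun _ _ => N.one_mem)
        (fun A c d hc hd e => N.mul_mem (hd (by rw [e, hNB c (hc e)])) (hc e))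
        (fun U hUT hsyl C hC x hx e => ?_) hg (fun b hb => (hB hb).1) hgB rfl
      exact H' _ U hUT hsyl (e ▸ hC) (Nat.le_add_left _ _) hx
    intro m
    induction m with
    | zero =>
      intro U hUT hsyl hBU hm
      refine loc U hUT hsyl hBU ?_
      rw [show nS T U = T from eq_of_le_of_card_ge inf_le_left (by simpa using hm)]
      exact (inf_le_inf_right _ inf_le_left).trans hN₀
    | succ m ihm =>
      intro U hUT hsyl hBU hm
      refine loc U hUT hsyl hBU ?_
      set S₁ := nS T U with hS₁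
      by_cases hfix : S₁ = T
      · rw [hfix]
        exact (inf_le_inf_right _ inf_le_left).trans hN₀
      have hS₁p : IsPGroup p S₁ := hT.2.1.to_inf_left
      set V := W S₁
      have hVS₁ : V ≤ S₁ := functor_le hW hS₁p
      have hBS₁ : B ⊆ (S₁ : Set G) := hBU.trans (le_nS hUT)
      have hBV : B ⊆ (V : Set G) := fun b hb => hWZ S₁ hS₁p
        ⟨hBS₁ hb, mem_centralizer_iff.mpr fun y hy => mem_centralizer_iff.mp (hB hb).2 y hy.1⟩
      have hlt : Nat.card S₁ < Nat.card (nS T V : Subgroup G) := by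
        refine card_lt_of_lt' (lt_of_lt_of_le (lt_nS hT.2.1 inf_le_left hfix) ?_)
        exact inf_le_inf_left _ (normalizer_le_functor hW hS₁p)
      obtain ⟨a, ha, haT, hn2, hsyl'⟩ := exists_fn_conj_rel hT (hVS₁.trans inf_le_left)
      have haN : a ∈ N := by
        refine alperin_rel hT
          (R := fun C c => Nat.card S₁ < C.ncard → B ⊆ C → c ∈ N) (fun _ _ _ => N.one_mem)
          (fun C c d hc hd hC hBC => N.mul_mem (hd ?_ ?_) (hc hC hBC)) ?_ ha
          (A := ((nS T V : Subgroup G) : Set G)) (fun x hx => hx.1)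
          (by rw [← coe_cj]; exact fun x hx => (hn2 hx).1)
          (hlt.trans_le (Nat.card_coe_set_eq _).le) (hBV.trans (le_nS (hVS₁.trans inf_le_left)))
        · exact (Set.ncard_image_of_injective C (f := fun a => c * a * c⁻¹)
            (MulAut.conj c).injective).symm ▸ hC
        · rw [← hNB c (hc hC hBC)]
          exact mem_cS_mono hBC
        · intro U' hU'T hsyl'' C hC x hx hcardC hBC
          refine ihm U' hU'T hsyl'' (hBC.trans hC) ?_ hx
          have h3 : Nat.card S₁ < Nat.card U' :=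
            hcardC.trans_le (Set.ncard_le_ncard hC (Set.toFinite _))
          have h4 := card_le_of_le (le_nS hU'T)
          omega
      have hU' : H ⊓ normalizer ((cj a V : Subgroup G) : Set G) ≤ N := by
        refine ihm (cj a V) haT hsyl' ?_ ?_
        · rw [← hNB a haN, coe_cj]
          exact mem_cS_mono hBV
        · have := card_le_of_le hn2
          rw [cj_card] at this
          omega
      intro y hy
      have h5 : a * y * a⁻¹ ∈ N := hU' ⟨H.mul_mem (H.mul_mem ha hy.1.1) (H.inv_mem ha),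
        by rw [← cj_normalizer]; exact conj_mem_cj hy.2⟩
      have h6 := N.mul_mem (N.mul_mem (N.inv_mem haN) h5) haN
      simpa [mul_assoc] using h6

section cores

variable {X : Type*} [Group X] [Finite X]

/-- The core of Glauberman's weak closure theorem for elements. -/
theorem central_of_orbit (S : Sylow p X) (x : X) (hxS : x ∈ (S : Subgroup X))
    (hxc : x ∈ centralizer ((S : Subgroup X) : Set X)) (hxQ : x ∈ Cfsg.pCore p X)
    (hK : ∀ K : Subgroup X, K ≠ ⊤ → (S : Subgroup X) ≤ K → ∀ k ∈ K, k * x = x * k)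
    (g : X) (hgS : g ∈ (S : Subgroup X)) (hgQ : g ∉ Cfsg.pCore p X)
    (hg : ∀ U V : Subgroup X, Cfsg.IsChiefFactor U V → U ≤ Cfsg.pCore p X ⊓
      centralizer ((Cfsg.pCore p X : Subgroup X) : Set X) → ∀ u ∈ U, (del g)^[p - 1] u ∈ V)
    (y : X) : y * x = x * y := by
  classical
  haveI := LocalEvenA.pCore_normal' p X
  set Q := Cfsg.pCore p X with hQ
  set Z := Q ⊓ centralizer ((Q : Subgroup X) : Set X) with hZdef
  set Y₀ := normalClosure (Set.range fun t : X => t * x * t⁻¹ * x⁻¹)
  have hxZ : x ∈ Z := ⟨hxQ, mem_centralizer_iff.mpr fun w hw =>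
    mem_centralizer_iff.mp hxc w (pCore_le_sylow S hw)⟩
  have hY₀Z : Y₀ ≤ Z := normalClosure_le_normal (by
    rintro _ ⟨t, rfl⟩
    exact Z.mul_mem ((inferInstance : Z.Normal).conj_mem x hxZ t) (Z.inv_mem hxZ))
  have hmemY : ∀ t : X, t * x * t⁻¹ * x⁻¹ ∈ Y₀ := fun t => subset_normalClosure ⟨t, rfl⟩
  by_cases hne : Y₀ = ⊥
  · have := hmemY y
    rw [hne, mem_bot, mul_inv_eq_one, mul_inv_eq_iff_eq_mul] at this
    exact this
  exfalso
  obtain ⟨V, hUV⟩ := exists_chief_below normalClosure_normal hne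
  haveI := hUV.2.1
  haveI := hUV.2.2.1
  have hYp : IsPGroup p Y₀ := (LocalEvenA.pCore_isPGroup' p X).to_le fun w hw => (hY₀Z hw).1
  haveI : IsMulCommutative (↥Y₀ ⧸ V.subgroupOf Y₀) := by
    refine Normal.quotient_commutative_iff_commutator_le.mpr ?_
    rw [← map_le_map_iff_of_injective Y₀.subtype_injective, map_subtype_commutator,
      subgroupOf_map_subtype]
    exact le_inf (chief_commutator_self hUV hYp) (commutator_le_self _)
  open scoped IsMulCommutative in
  letI : CommGroup (↥Y₀ ⧸ V.subgroupOf Y₀) := inferInstance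
  haveI : Fintype (X ⧸ (S : Subgroup X)) := Fintype.ofFinite _
  let F : X → Additive (↥Y₀ ⧸ V.subgroupOf Y₀) := fun t =>
    Additive.ofMul (QuotientGroup.mk ⟨t * x * t⁻¹ * x⁻¹, hmemY t⟩)
  have hF : ∀ t : X, ∀ s ∈ (S : Subgroup X), F (t * s) = F t := by
    intro t s hs
    refine congrArg Additive.ofMul (congrArg QuotientGroup.mk (Subtype.ext ?_))
    show t * s * x * (t * s)⁻¹ * x⁻¹ = t * x * t⁻¹ * x⁻¹
    rw [mul_assoc t, mem_centralizer_iff.mp hxc s hs]
    group
  let f : X ⧸ (S : Subgroup X) → Additive (↥Y₀ ⧸ V.subgroupOf Y₀) := fun q => F q.out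
  have hrep : ∀ t : X, f (t : X ⧸ (S : Subgroup X)) = F t := by
    intro t
    obtain ⟨s, hs⟩ := QuotientGroup.mk_out_eq_mul (S : Subgroup X) t
    show F _ = F t
    rw [hs, hF t s s.2]
  obtain ⟨M, hM, hSM, hMt⟩ := exists_proper_of_conjugates S hgS hgQ
  set gens : Set X := {w | w ∈ (S : Subgroup X) ∧ ∃ s, s * g * s⁻¹ = w}
  set R := closure gens
  have hRS : R ≤ (S : Subgroup X) := (closure_le _).mpr fun w hw => hw.1
  have h0 : ∀ w ∈ R.subtype ⁻¹' gens, ∀ o : X ⧸ (S : Subgroup X),
      ∑ i ∈ Finset.range p, f (w ^ i • o) = 0 := by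
    intro w hw o
    induction o using QuotientGroup.induction_on with
    | H t =>
      obtain ⟨s, hs⟩ := hw.2
      have hdel : ∀ u ∈ Y₀, (del (w : X))^[p - 1] u ∈ V := by
        intro u hu
        have h1 := hg Y₀ V hUV hY₀Z (s⁻¹ * u * s)
          (by simpa using hUV.2.1.conj_mem u hu s⁻¹)
        have h2 := hUV.2.2.1.conj_mem _ h1 s
        rw [← iterate_del_conj] at h2
        rw [show (w : X) = s * g * s⁻¹ from hs.symm]
        simpa [mul_assoc] using h2
      have h3 := congrArg Additive.ofMul (prod_conj_eq_one hUV hYp (w : X) hdel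
        (QuotientGroup.mk' (V.subgroupOf Y₀))
        (fun u hu => (QuotientGroup.eq_one_iff u).mpr (mem_subgroupOf.mpr hu))
        ⟨t * x * t⁻¹ * x⁻¹, hmemY t⟩)
      rw [ofMul_prod] at h3
      refine (Finset.sum_congr rfl fun i _ => ?_).trans h3
      have e : f (w ^ i • (t : X ⧸ (S : Subgroup X))) = F ((w : X) ^ i * t) := hrep _
      rw [e]
      refine congrArg Additive.ofMul (congrArg QuotientGroup.mk (Subtype.ext ?_))
      show (w : X) ^ i * t * x * ((w : X) ^ i * t)⁻¹ * x⁻¹ =
        (w : X) ^ i * (t * x * t⁻¹ * x⁻¹) * ((w : X) ^ i)⁻¹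
      have hc : ((w : X) ^ i)⁻¹ * x⁻¹ = x⁻¹ * ((w : X) ^ i)⁻¹ := by
        rw [← mul_inv_rev, ← mul_inv_rev]
        exact congrArg (·⁻¹)
          (mem_centralizer_iff.mp hxc _ ((S : Subgroup X).pow_mem hw.1 i)).symm
      simp only [mul_assoc, mul_inv_rev, hc]
  have hsum := sum_eq_sum_fixed (S.2.to_le hRS) (R.subtype ⁻¹' gens)
    closure_closure_coe_preimage f h0
  have hfx : ∀ o ∈ (Finset.univ.filter
      (· ∈ MulAction.fixedPoints (↥R) (X ⧸ (S : Subgroup X)))), f o = 0 := by
    intro o ho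
    induction o using QuotientGroup.induction_on with
    | H t =>
      have htM : t ∈ M := hMt t fun w hw1 hw2 => by
        have h1 : ((w * t : X) : X ⧸ (S : Subgroup X)) = t :=
          (Finset.mem_filter.mp ho).2 ⟨w, subset_closure ⟨hw1, hw2⟩⟩
        simpa [mul_assoc] using (S : Subgroup X).inv_mem (QuotientGroup.eq.mp h1)
      rw [hrep]
      refine congrArg Additive.ofMul ((QuotientGroup.eq_one_iff _).mpr (mem_subgroupOf.mpr ?_))
      show t * x * t⁻¹ * x⁻¹ ∈ V
      rw [hK M hM hSM t htM, mul_inv_cancel_right, mul_inv_cancel]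
      exact one_mem _
  rw [Finset.sum_eq_zero hfx] at hsum
  -- translating the sum
  apply hUV.1.not_ge
  refine normalClosure_le_normal ?_
  rintro _ ⟨z, rfl⟩
  let τ : (↥Y₀ ⧸ V.subgroupOf Y₀) →* (↥Y₀ ⧸ V.subgroupOf Y₀) :=
    QuotientGroup.map _ _ (MulAut.conjNormal z).toMonoidHom fun v hv => by
      rw [mem_comap, mem_subgroupOf]
      show ((MulAut.conjNormal z v : ↥Y₀) : X) ∈ V
      rw [MulAut.conjNormal_apply]
      exact ‹V.Normal›.conj_mem _ (mem_subgroupOf.mp hv) z
  have hz : ∀ o : X ⧸ (S : Subgroup X), f (z • o) = MonoidHom.toAdditive τ (f o) + F z := by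
    intro o
    induction o using QuotientGroup.induction_on with
    | H t =>
      rw [hrep]
      refine (hrep (z * t)).trans ?_
      show Additive.ofMul _ = Additive.ofMul _
      refine congrArg Additive.ofMul ((congrArg QuotientGroup.mk (Subtype.ext ?_)).trans
        (QuotientGroup.mk_mul _ _ _))
      show z * t * x * (z * t)⁻¹ * x⁻¹ =
        ((MulAut.conjNormal z ⟨t * x * t⁻¹ * x⁻¹, hmemY t⟩ : ↥Y₀) : X) * (z * x * z⁻¹ * x⁻¹)
      rw [MulAut.conjNormal_apply]
      group
  have h4 : ∑ o, f (z • o) = 0 :=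
    (Equiv.sum_comp (MulAction.toPerm z) f).trans hsum
  rw [Finset.sum_congr rfl fun o _ => hz o, Finset.sum_add_distrib, ← map_sum, hsum, map_zero,
    zero_add, Finset.sum_const, Finset.card_univ] at h4
  obtain ⟨k, hk⟩ := (hYp.to_quotient (V.subgroupOf Y₀)) (Additive.toMul (F z))
  have h5 : Additive.toMul (F z) = 1 := Components.eq_one_of_pow_prime_pow_of_coprime
    ((hp.out.coprime_iff_not_dvd.mpr S.not_dvd_index).symm) hk (by
      have := congrArg Additive.toMul h4
      rw [index, Nat.card_eq_fintype_card]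
      exact this)
  exact mem_subgroupOf.mp ((QuotientGroup.eq_one_iff _).mp h5)

end cores

end Cfsg.Agent.ConjFunctor

namespace Cfsg.Agent.ConjFunctor

open Subgroup
open scoped commutatorElement Pointwise

/-- The core of the weak closure theorem for `p`-th powers of central elements. -/
theorem stabilized_of_quadratic {X : Type*} [Group X] [Finite X] {p : ℕ} [hp : Fact p.Prime]
    (S : Sylow p X) (B : Set X) (N : Subgroup X) (hCN : centralizer B ≤ N)
    (hB : ∀ b ∈ B, ∃ z ∈ (S : Subgroup X) ⊓ centralizer ((S : Subgroup X) : Set X), z ^ p = b)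
    (hBQ : B ⊆ (Cfsg.pCore p X : Set X))
    (hK : ∀ K : Subgroup X, K ≠ ⊤ → (S : Subgroup X) ≤ K → K ≤ N)
    (g : X) (hgS : g ∈ (S : Subgroup X)) (hgQ : g ∉ Cfsg.pCore p X)
    (hg : ⁅⁅Cfsg.pCore p X ⊓ centralizer ((Cfsg.pCore p X : Subgroup X) : Set X), zpowers g⁆,
      zpowers g⁆ = ⊥) : (⊤ : Subgroup X) ≤ N := by
  haveI := LocalEvenA.pCore_normal' p X
  set Q := Cfsg.pCore p X with hQdef
  set C := centralizer ((Q : Subgroup X) : Set X) with hCdef
  set V := Q ⊓ C with hVdef
  set U₀ := (S : Subgroup X) ⊓ (Q ⊔ C) with hU₀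
  have hSN₀ : (S : Subgroup X) ≤ normalizer (U₀ : Set X) := by
    intro s hs
    refine mem_normalizer_iff.mpr fun x => ?_
    rw [hU₀, mem_inf, mem_inf]
    refine and_congr (mem_normalizer_iff.mp (le_normalizer hs) x) ?_
    exact mem_normalizer_iff.mp (by rw [normalizer_eq_top]; trivial) x
  by_cases hN₀ : normalizer (U₀ : Set X) = ⊤
  swap
  · rw [← centralizer_sup_normalizer S, sup_le_iff]
    exact ⟨(centralizer_le hBQ).trans hCN, hK _ hN₀ hSN₀⟩
  have hU₀Q : U₀ ≤ Q := le_pCore_of_normalizer S.2.to_inf_left hN₀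
  have hQS : Q ≤ (S : Subgroup X) := pCore_le_sylow S
  have hzV : ∀ z ∈ (S : Subgroup X) ⊓ centralizer ((S : Subgroup X) : Set X), z ∈ V := by
    intro z hz
    have hzC : z ∈ C := centralizer_le hQS hz.2
    exact ⟨hU₀Q ⟨hz.1, mem_sup_right hzC⟩, hzC⟩
  set P := closure ((fun v : X => v ^ p) '' (V : Set X)) with hP
  haveI : P.Normal := ⟨fun x hx t => by
    induction hx using closure_induction with
    | mem y hy =>
      obtain ⟨v, hv, rfl⟩ := hy
      refine subset_closure ⟨t * v * t⁻¹, (inferInstance : V.Normal).conj_mem v hv t, ?_⟩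
      exact conj_pow
    | one => simp
    | mul a b _ _ iha ihb =>
      rw [show t * (a * b) * t⁻¹ = t * a * t⁻¹ * (t * b * t⁻¹) by group]
      exact mul_mem iha ihb
    | inv a _ iha =>
      rw [show t * a⁻¹ * t⁻¹ = (t * a * t⁻¹)⁻¹ by group]
      exact inv_mem iha⟩
  have hBP : B ⊆ (P : Set X) := fun b hb => by
    obtain ⟨z, hz, rfl⟩ := hB b hb
    exact subset_closure ⟨z, hzV z hz, rfl⟩
  -- the last power of `g` outside `Q`
  obtain ⟨j, hj, hj'⟩ : ∃ j, g ^ p ^ j ∉ Q ∧ g ^ p ^ (j + 1) ∈ Q := by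
    obtain ⟨k, hk⟩ := S.2 ⟨g, hgS⟩
    have hk' : g ^ p ^ k = 1 := by simpa using congrArg Subtype.val hk
    by_contra hcon
    push Not at hcon
    have : ∀ j, g ^ p ^ j ∉ Q := by
      intro j
      induction j with
      | zero => simpa using hgQ
      | succ j ih => exact hcon j ih
    exact this k (hk' ▸ Q.one_mem)
  have hgP : g ^ p ^ j ∈ centralizer (P : Set X) := by
    rw [hP, centralizer_closure, mem_centralizer_iff]
    rintro _ ⟨v, hv, rfl⟩
    set w := g * v * g⁻¹ * v⁻¹ with hw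
    have hwV : w ∈ V :=
      V.mul_mem ((inferInstance : V.Normal).conj_mem v hv g) (V.inv_mem hv)
    have hcomm : g * w = w * g := by
      have h1 : w ∈ ⁅V, zpowers g⁆ := del_mem_commutator (g := g) hv (mem_zpowers g)
      have h2 := commutator_mem_commutator h1 (mem_zpowers g)
      rw [hg, mem_bot, commutatorElement_eq_one_iff_mul_comm] at h2
      exact h2.symm
    have hconj : ∀ n : ℕ, g ^ n * v * (g ^ n)⁻¹ = w ^ n * v := by
      intro n
      induction n with
      | zero => simp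
      | succ n ih =>
        have h3 : g * w ^ n * g⁻¹ = w ^ n := by
          rw [(show Commute g w from hcomm).pow_right n |>.eq, mul_inv_cancel_right]
        calc g ^ (n + 1) * v * (g ^ (n + 1))⁻¹ = g * (g ^ n * v * (g ^ n)⁻¹) * g⁻¹ := by
              rw [pow_succ']; group
          _ = (g * w ^ n * g⁻¹) * (g * v * g⁻¹) := by rw [ih]; group
          _ = w ^ (n + 1) * v := by rw [h3, hw, pow_succ]; group
    have hVc : ∀ a ∈ V, ∀ b ∈ V, Commute a b := fun a ha b hb =>
      mem_centralizer_iff.mp hb.2 a ha.1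
    have h4 : w ^ p ^ (j + 1) = 1 := by
      have h5 : g ^ p ^ (j + 1) * v * (g ^ p ^ (j + 1))⁻¹ = v := by
        rw [mem_centralizer_iff.mp hv.2 _ hj', mul_inv_cancel_right]
      rw [hconj] at h5
      exact mul_eq_right.mp h5
    have h6 : g ^ p ^ j * v ^ p * (g ^ p ^ j)⁻¹ = v ^ p := by
      rw [← conj_pow, hconj, (hVc _ (V.pow_mem hwV _) _ hv).mul_pow, ← pow_mul, ← pow_succ, h4,
        one_mul]
    exact (mul_inv_eq_iff_eq_mul.mp h6).symm
  set K := centralizer (P : Set X) with hKdef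
  have hKN : K ≤ N := (centralizer_le hBP).trans hCN
  obtain ⟨T, hT⟩ := LocalEvenA.exists_sylow_subgroupOf_normal S K
  have hfr := Sylow.normalizer_sup_eq_top T
  rw [hT, subgroupOf_map_subtype] at hfr
  rw [← hfr, sup_le_iff]
  refine ⟨hK _ (fun h => hj ?_) ?_, hKN⟩
  · exact le_pCore_of_normalizer S.2.to_inf_left h ⟨(S : Subgroup X).pow_mem hgS _, hgP⟩
  · intro s hs
    refine mem_normalizer_iff.mpr fun x => ?_
    rw [mem_inf, mem_inf]
    refine and_congr (mem_normalizer_iff.mp (le_normalizer hs) x) ?_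
    exact mem_normalizer_iff.mp (by rw [normalizer_eq_top]; trivial) x

end Cfsg.Agent.ConjFunctor

namespace Cfsg.Agent.ConjFunctor

open Subgroup
open scoped commutatorElement

section relative

variable {G : Type*} [Group G] [Finite G] {p : ℕ} [hp : Fact p.Prime]

/-- The Sylow subgroup of `↥H` given by one of `H`. -/
theorem exists_sylow_of_isSylIn {H T : Subgroup G} (hT : IsSylIn p T H) :
    ∃ S : Sylow p ↥H, (S : Subgroup ↥H) = T.subgroupOf H :=
  ⟨(hT.2.1.comap_subtype (K := H)).toSylow hT.2.2, rfl⟩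

theorem mem_pCoreOf_iff {H : Subgroup G} (x : ↥H) :
    (x : G) ∈ Cfsg.pCoreOf p H ↔ x ∈ Cfsg.pCore p ↥H :=
  mem_map_iff_mem H.subtype_injective

theorem map_subtype_le_center_pCoreOf {H : Subgroup G} {U : Subgroup ↥H}
    (hU : U ≤ Cfsg.pCore p ↥H ⊓ centralizer ((Cfsg.pCore p ↥H : Subgroup ↥H) : Set ↥H)) :
    U.map H.subtype ≤
      Cfsg.pCoreOf p H ⊓ centralizer ((Cfsg.pCoreOf p H : Subgroup G) : Set G) := by
  rintro _ ⟨u, hu, rfl⟩
  refine ⟨(mem_pCoreOf_iff u).mpr (hU hu).1, mem_centralizer_iff.mpr ?_⟩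
  rintro _ ⟨w, hw, rfl⟩
  exact congrArg Subtype.val (mem_centralizer_iff.mp (hU hu).2 w hw)

theorem map_proper {H T : Subgroup G} (hT : T ≤ H) {S : Subgroup ↥H}
    (hS : S = T.subgroupOf H) {K : Subgroup ↥H} (hK : K ≠ ⊤) (hSK : S ≤ K) :
    T ≤ K.map H.subtype ∧ K.map H.subtype ≤ H ∧ K.map H.subtype ≠ H := by
  refine ⟨fun t ht => ⟨⟨t, hT ht⟩, hSK (by rw [hS]; exact ht), rfl⟩, map_subtype_le K, fun h => ?_⟩
  exact hK (eq_top_of_card_eq K (by rw [← card_map_of_injective H.subtype_injective, h]))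

end relative

end Cfsg.Agent.ConjFunctor
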