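import Cfsg.Agent.Lib.ConjFunctor.LocalCases

/-!
# p-stability of groups with a normal subgroup of p-group index and p-group derived subgroup
-/

set_option autoImplicit false
set_option linter.style.haveILetI false
set_option linter.unusedSectionVars false
set_option linter.unusedVariables false

namespace Cfsg.Agent.ConjFunctor

open Subgroup Cfsg
open scoped commutatorElement

/-- A normal subgroup with `p`-group quotient and `p`-group derived subgroup. -/
def AbelianUpToP (p : ℕ) (X : Type*) [Group X] : Prop :=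
  ∃ M : Subgroup X, M.Normal ∧ (∀ x : X, ∃ k : ℕ, x ^ p ^ k ∈ M) ∧ IsPGroup p ↥⁅M, M⁆

theorem AbelianUpToP.of_injective {X Y : Type*} [Group X] [Group Y] {p : ℕ} (f : Y →* X)
    (hf : Function.Injective f) (h : AbelianUpToP p X) : AbelianUpToP p Y := by
  obtain ⟨M, hM, hMx, hMM⟩ := h
  refine ⟨M.comap f, hM.comap f, fun y => ?_, ?_⟩
  · obtain ⟨k, hk⟩ := hMx (f y)
    exact ⟨k, by rw [mem_comap, map_pow]; exact hk⟩
  · refine IsPGroup.to_le (hMM.comap_of_injective f hf) ?_
    rw [← map_le_iff_le_comap, map_commutator]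
    exact commutator_mono (map_comap_le _ _) (map_comap_le _ _)

theorem AbelianUpToP.of_surjective {X Y : Type*} [Group X] [Group Y] {p : ℕ} (f : X →* Y)
    (hf : Function.Surjective f) (h : AbelianUpToP p X) : AbelianUpToP p Y := by
  obtain ⟨M, hM, hMx, hMM⟩ := h
  refine ⟨M.map f, hM.map f hf, fun y => ?_, ?_⟩
  · obtain ⟨x, rfl⟩ := hf y
    obtain ⟨k, hk⟩ := hMx x
    exact ⟨k, by rw [← map_pow]; exact mem_map_of_mem f hk⟩
  · rw [← map_commutator]
    exact hMM.map f

variable {L : Type*} [Group L] [Finite L] {p : ℕ} [hp : Fact p.Prime]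

/-- A normal subgroup inside `M T`, with `M` trivial on a chief factor and `T` a `p`-group over it,
is trivial on the factor. -/
theorem le_factorKer_of_le_mul {U V M T N : Subgroup L} (hUV : IsChiefFactor U V) [M.Normal]
    [V.Normal] [N.Normal] (hM : M ≤ factorKer U V) (hT : IsPGroup p T) (hUT : U ≤ T)
    (hN : N ≤ M ⊔ T) : N ≤ factorKer U V := by
  haveI := hUV.2.1
  rw [← commutator_le_iff_factorKer]
  rcases hUV.2.2.2 (V ⊔ ⁅U, N⁆) inferInstance le_sup_left
      (sup_le hUV.1.le (commutator_le_left _ _)) with e | e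
  · exact sup_eq_left.mp e
  exfalso
  haveI : Group.IsNilpotent T := hT.isNilpotent
  refine hUV.1.not_ge (Transfer.le_of_le_sup_commutator hUT
    (by rw [normalizer_eq_top]; exact le_top) (e.ge.trans (sup_le le_sup_left ?_)))
  rw [Subgroup.commutator_comm, commutator_le]
  intro x hx u hu
  obtain ⟨m, hm, t, ht, rfl⟩ :=
    (Basics.mem_sup_of_le_normalizer (N := M) (H := T) le_normalizer_of_normal).mp (hN hx)
  have h1 : ⁅t, u⁆ ∈ ⁅U, T⁆ := by
    rw [Subgroup.commutator_comm]; exact commutator_mem_commutator ht hu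
  have h2 : ⁅t, u⁆ ∈ U := commutator_le_left U T h1
  rw [show ⁅m * t, u⁆ = ⁅m, ⁅t, u⁆⁆ * ⁅t, u⁆ * ⁅m, u⁆ by
    simp only [commutatorElement_def]; group]
  exact mul_mem (mul_mem (mem_sup_left (mem_factorKer.mp (hM hm) _ h2)) (mem_sup_right h1))
    (mem_sup_left (mem_factorKer.mp (hM hm) _ hu))

/-- A normal `p`-subgroup is trivial on chief factors inside `p`-groups. -/
theorem le_factorKer_of_isPGroup {U V N : Subgroup L} (hUV : IsChiefFactor U V) [V.Normal]
    [N.Normal] (hU : IsPGroup p U) (hN : IsPGroup p N) : N ≤ factorKer U V := by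
  haveI := hUV.2.1
  exact le_factorKer_of_le_mul hUV (M := ⊥) bot_le (hN.to_sup_of_normal_right hU : IsPGroup p ↥(N ⊔ U : Subgroup L))
    le_sup_right (le_sup_left.trans le_sup_right)

set_option maxHeartbeats 800000 in
/-- In such a group a quadratic element is trivial on every chief factor inside a `p`-group. -/
theorem mem_factorKer_of_quadratic (hodd : p ≠ 2) (hL : AbelianUpToP p L) {U V : Subgroup L}
    [V.Normal] (hUV : IsChiefFactor U V) (hU : IsPGroup p U) {g : L}
    (hg : ⁅⁅U, zpowers g⁆, zpowers g⁆ ≤ V) : g ∈ factorKer U V := by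
  haveI := hUV.2.1
  obtain ⟨a, b, ha, hb, hab, ⟨k, hk⟩, hbc⟩ := Transfer.exists_pPart_mul (p := p) g
  have hsub : ∀ x ∈ zpowers g, ⁅⁅U, zpowers x⁆, zpowers x⁆ ≤ V := fun x hx =>
    (commutator_mono (commutator_mono le_rfl (zpowers_le.mpr hx)) (zpowers_le.mpr hx)).trans hg
  rw [← hab]
  refine mul_mem ?_ ?_
  · set D := factorKer U V
    obtain ⟨M, hM, hMx, hMM⟩ := hL
    haveI := hM
    have hMD : ⁅M, M⁆ ≤ D := le_factorKer_of_isPGroup hUV hU hMM
    obtain ⟨T, hT⟩ := exists_isSylIn (p := p) M
    have hTn : T.Normal := by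
      obtain ⟨P, hP⟩ : ∃ P : Sylow p ↥M, (P : Subgroup ↥M) = T.subgroupOf M :=
        ⟨(hT.2.1.comap_subtype (K := M)).toSylow hT.2.2, rfl⟩
      haveI : (⁅M, M⁆.subgroupOf M).Normal := inferInstance
      have hc : ⁅M, M⁆ ≤ T := by
        have h1 := (hMM.comap_subtype (K := M)).le_sylow_of_normal P
        rw [hP] at h1
        intro x hx
        exact h1 (show (⟨x, commutator_le_self M hx⟩ : ↥M) ∈ ⁅M, M⁆.subgroupOf M from hx)
      haveI hTM : (P : Subgroup ↥M).Normal := by
        rw [hP]
        refine ⟨fun t ht m => ?_⟩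
        have e : ((m * t * m⁻¹ : ↥M) : L) = ⁅(m : L), (t : L)⁆ * (t : L) := by
          simp [commutatorElement_def, mul_assoc]
        show ((m * t * m⁻¹ : ↥M) : L) ∈ T
        rw [e]
        exact mul_mem (hc (commutator_mem_commutator m.2 t.2)) ht
      have := P.characteristic_of_normal hTM
      rw [show T = (P : Subgroup ↥M).map M.subtype by
        rw [hP, subgroupOf_map_subtype, inf_eq_left.mpr hT.1]]
      infer_instance
    have hTD : T ≤ D := le_factorKer_of_isPGroup hUV hU hT.2.1
    have hMo : ∀ m ∈ M, ∃ n : ℕ, n.Coprime p ∧ m ^ n ∈ D := by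
      intro m hm
      refine ⟨T.relIndex M, (hp.out.coprime_iff_not_dvd.mpr hT.2.2).symm, hTD ?_⟩
      haveI : (T.subgroupOf M).Normal := hTn.comap M.subtype
      exact Subgroup.pow_index_mem (T.subgroupOf M) ⟨m, hm⟩
    have hcom := factor_commute hUV hU (g := a) (fun u hu => ?_) hMD hMo
    · set N := factorKer M D with hN
      have haN : a ∈ N := mem_factorKer.mpr hcom
      have hap : IsPGroup p (zpowers a) :=
        IsPGroup.of_card_dvd_pow (n := k) (by rwa [Nat.card_zpowers])
      obtain ⟨S, hS⟩ := (hU.to_sup_of_normal_left hap : IsPGroup p ↥(U ⊔ zpowers a : Subgroup L))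
        |>.exists_le_sylow
      have hSM : M ⊔ (S : Subgroup L) = ⊤ := by
        rw [← index_eq_one]
        obtain ⟨j, hj⟩ : ∃ j, M.index = p ^ j := IsPGroup.iff_card.mp
          (show IsPGroup p (L ⧸ M) by
            intro y
            obtain ⟨x, rfl⟩ := QuotientGroup.mk_surjective y
            obtain ⟨i, hi⟩ := hMx x
            exact ⟨i, by rwa [← QuotientGroup.mk_pow, QuotientGroup.eq_one_iff]⟩)
        exact Nat.eq_one_of_dvd_coprimes
          (((hp.out.coprime_iff_not_dvd.mpr S.not_dvd_index).pow_left j))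
          (hj ▸ index_dvd_of_le le_sup_left) (index_dvd_of_le le_sup_right)
      set N₂ := ((S : Subgroup L) ⊓ N) ⊔ D with hN₂
      have hN2n : N₂.Normal := by
        rw [← normalizer_eq_top_iff, ← top_le_iff, ← hSM]
        refine sup_le (fun m hm => ?_) ?_
        · refine cj_eq_iff.mp (eq_of_le_of_card_ge ?_ (cj_card m _).ge)
          rw [hN₂, cj, Subgroup.map_sup]
          refine sup_le ?_ ((le_of_eq (cj_eq_iff.mpr (by
            rw [normalizer_eq_top]; exact mem_top m))).trans le_sup_right)
          rintro _ ⟨z, hz, rfl⟩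
          show m * z * m⁻¹ ∈ _
          have h1 : m * z * m⁻¹ * z⁻¹ ∈ D := by
            have := inv_mem (mem_factorKer.mp hz.2 m hm)
            rwa [commutatorElement_inv, commutatorElement_def] at this
          rw [← inv_mul_cancel_right (m * z * m⁻¹) z]
          exact mul_mem (mem_sup_right h1) (mem_sup_left hz)
        · intro s hs
          refine cj_eq_iff.mp (eq_of_le_of_card_ge ?_ (cj_card s _).ge)
          rw [hN₂, cj, Subgroup.map_sup]
          refine sup_le_sup (le_of_eq (cj_eq_iff.mpr ?_))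
            (le_of_eq (cj_eq_iff.mpr (by rw [normalizer_eq_top]; exact mem_top s)))
          exact le_normalizer_inf' le_normalizer (by rw [normalizer_eq_top]; exact le_top) hs
      have hle : N₂ ≤ D := by
        refine le_factorKer_of_le_mul hUV (M := D) le_rfl S.2 (le_sup_left.trans hS) ?_
        exact sup_le (inf_le_left.trans le_sup_right) le_sup_left
      exact hle (mem_sup_left ⟨hS (mem_sup_right (mem_zpowers a)), haN⟩)
    · have h2 := hsub a ha
      refine iterCommutator_antitone (U := U) (K := zpowers a) (m := 2) (n := p - 1) ?_ h2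
        (iterate_del_mem_iterCommutator hu (mem_zpowers a) _)
      have := hp.out.two_le
      omega
  · refine mem_factorKer.mpr fun u hu => ?_
    have hq := hsub b hb
    have h1 : ⁅b, u⁆ ∈ ⁅U, zpowers b⁆ := by
      rw [Subgroup.commutator_comm]; exact commutator_mem_commutator (mem_zpowers b) hu
    have h2 : ⁅b, ⁅b, u⁆⁆ ∈ V := hq (by
      rw [Subgroup.commutator_comm]; exact commutator_mem_commutator (mem_zpowers b) h1)
    set q := QuotientGroup.mk' V
    have e : q ⁅b, u⁆ = 1 := by
      have hc : Commute (q b) (q ⁅b, u⁆) := by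
        rw [← commutatorElement_eq_one_iff_commute, ← map_commutatorElement]
        exact (QuotientGroup.eq_one_iff _).mpr h2
      have hUp := hU.map q
      have hcu : Commute (q b) (q u) := by
        have hbu : (q u)⁻¹ * (q b * q u * (q b)⁻¹) = (q u)⁻¹ * q ⁅b, u⁆ * q u := by
          rw [map_commutatorElement, commutatorElement_def]; group
        have hU' : q ⁅b, u⁆ ∈ U.map q := mem_map_of_mem q (commutator_le_left _ _ h1)
        have hcomm : Commute (q u) (q ⁅b, u⁆) := by
          rw [← commutatorElement_eq_one_iff_commute, ← map_commutatorElement]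
          exact (QuotientGroup.eq_one_iff _).mpr (chief_commutator_self hUV hU
            (commutator_mem_commutator hu (commutator_le_left _ _ h1)))
        rw [show (q u)⁻¹ * q ⁅b, u⁆ * q u = q ⁅b, u⁆ by
          rw [mul_assoc, ← hcomm.eq, inv_mul_cancel_left]] at hbu
        refine LocalEvenA.comm_of_coprime_chain (p := p) (hbc.coprime_dvd_left (orderOf_map_dvd q b))
          ?_ ?_
        · rw [hbu]
          obtain ⟨n, hn⟩ := hUp ⟨_, hU'⟩
          exact ⟨n, congrArg Subtype.val hn⟩
        · rw [hbu]; exact hc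
      rw [map_commutatorElement, commutatorElement_eq_one_iff_commute]
      exact hcu
    exact (QuotientGroup.eq_one_iff _).mp e

/-- Such groups are `p`-stable. -/
theorem isNormalizerPStable_of_abelianUpToP {X : Type*} [Group X] [Finite X] (hodd : p ≠ 2)
    (hX : AbelianUpToP p X) : IsNormalizerPStable p X := by
  intro P hP g hg hcom
  set H := normalizer (P : Set X)
  have hH : AbelianUpToP p ↥H := hX.of_injective H.subtype H.subtype_injective
  haveI hPn : (P.subgroupOf H).Normal := normal_in_normalizer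
  have hP' : IsPGroup p (P.subgroupOf H) := hP.comap_subtype
  have hcom' : ⁅⁅P.subgroupOf H, zpowers (⟨g, hg⟩ : ↥H)⁆, zpowers (⟨g, hg⟩ : ↥H)⁆ = ⊥ := by
    rw [← map_eq_bot_iff_of_injective _ H.subtype_injective, map_commutator, map_commutator,
      MonoidHom.map_zpowers, subgroupOf_map_subtype, inf_eq_left.mpr le_normalizer]
    exact hcom
  set K : Subgroup ↥H :=
    { carrier := {x | ∀ U V : Subgroup ↥H, IsChiefFactor U V → U ≤ P.subgroupOf H →
        ∀ u ∈ U, ⁅x, u⁆ ∈ V}
      one_mem' := fun U V _ _ u _ => by rw [commutatorElement_one_left]; exact one_mem V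
      mul_mem' := fun {a b} ha hb U V hUV hU => by
        haveI := hUV.2.2.1
        exact mem_factorKer.mp
          (mul_mem (mem_factorKer.mpr (ha U V hUV hU)) (mem_factorKer.mpr (hb U V hUV hU)))
      inv_mem' := fun {a} ha U V hUV hU => by
        haveI := hUV.2.2.1
        exact mem_factorKer.mp (inv_mem (mem_factorKer.mpr (ha U V hUV hU))) } with hK
  haveI hKn : K.Normal := ⟨fun x hx t U V hUV hU => by
    haveI := hUV.2.1
    haveI := hUV.2.2.1
    exact mem_factorKer.mp
      ((factorKer_normal U V).conj_mem x (mem_factorKer.mpr (hx U V hUV hU)) t)⟩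
  set q := QuotientGroup.mk' ((centralizer (P : Set X)).subgroupOf H)
  have hKp : IsPGroup p (K.map q) := by
    rintro ⟨_, x, hx, rfl⟩
    refine ⟨(orderOf x).factorization p, Subtype.ext ?_⟩
    rw [SubgroupClass.coe_pow, OneMemClass.coe_one]
    show q x ^ _ = 1
    rw [← map_pow, QuotientGroup.mk'_apply, QuotientGroup.eq_one_iff, mem_subgroupOf]
    set y := x ^ p ^ (orderOf x).factorization p
    have hy : (orderOf y).Coprime p := by
      rw [orderOf_pow' x (pow_ne_zero _ hp.out.ne_zero),
        Nat.gcd_eq_right (Nat.ordProj_dvd (orderOf x) p)]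
      exact (hp.out.coprime_iff_not_dvd.mpr
        (Nat.not_dvd_ordCompl hp.out (orderOf_pos x).ne')).symm
    have hfix := commute_of_factors hP' hy (fun U V hUV hU => K.pow_mem hx _ U V hUV hU)
      inferInstance le_rfl
    refine mem_centralizer_iff.mpr fun z hz => ?_
    exact congrArg Subtype.val (hfix ⟨z, le_normalizer hz⟩ hz).eq.symm
  refine LocalEvenA.le_pCore_of_normal
    (Normal.map hKn q (QuotientGroup.mk'_surjective _)) hKp (mem_map_of_mem q ?_)
  intro U V hUV hU u hu
  haveI := hUV.2.1
  haveI := hUV.2.2.1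
  refine mem_factorKer.mp (mem_factorKer_of_quadratic hodd hH hUV (hP'.to_le hU) ?_) u hu
  exact (commutator_mono (commutator_mono hU le_rfl) le_rfl).trans (hcom'.le.trans bot_le)

end Cfsg.Agent.ConjFunctor
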