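import Cfsg.Agent.Lib.ConjFunctor.Induced
import Cfsg.Agent.Lib.Transfer.Abelian
import Cfsg.Agent.Lib.Components.PPrimeCore

/-!
# Induction over sections, and structure of a group with a nontrivial p-core
-/

set_option autoImplicit false
set_option linter.style.haveILetI false
set_option linter.unusedSectionVars false

namespace Cfsg.Agent.ConjFunctor

open Subgroup

universe u

/-- The literal section attached to a homomorphism from a subgroup. -/
theorem exists_section_iso {G : Type u} [Group G] (K : Subgroup G) {X : Type u} [Group X]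
    (f : ↥K →* X) (hf : Function.Surjective f) :
    ∃ (R : Subgroup G) (hR : (R.subgroupOf K).Normal), Nonempty (↥K ⧸ R.subgroupOf K ≃* X) := by
  have e : (f.ker.map K.subtype).subgroupOf K = f.ker :=
    comap_map_eq_self_of_injective K.subtype_injective _
  refine ⟨f.ker.map K.subtype, e.symm ▸ (inferInstance : f.ker.Normal), ?_⟩
  haveI : ((f.ker.map K.subtype).subgroupOf K).Normal := e.symm ▸ (inferInstance : f.ker.Normal)
  exact ⟨(QuotientGroup.quotientMulEquivOfEq e).trans
    (QuotientGroup.quotientKerEquivOfSurjective f hf)⟩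

/-- Strong induction over the sections of `G`. -/
theorem section_induction {G : Type u} [Group G] [Finite G]
    (P : ∀ (X : Type u) [Group X], Prop)
    (hinv : ∀ (X Y : Type u) [Group X] [Group Y] [Finite X], X ≃* Y → P X → P Y)
    (hstep : ∀ (K R : Subgroup G) [hR : (R.subgroupOf K).Normal],
      (∀ M : Subgroup (↥K ⧸ R.subgroupOf K), M ≠ ⊤ → P ↥M) →
      (∀ (N : Subgroup (↥K ⧸ R.subgroupOf K)) [N.Normal], N ≠ ⊥ →
        P ((↥K ⧸ R.subgroupOf K) ⧸ N)) →
      P (↥K ⧸ R.subgroupOf K)) :
    (∀ (K R : Subgroup G) [hR : (R.subgroupOf K).Normal], P (↥K ⧸ R.subgroupOf K)) ∧ P G := by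
  have main : ∀ n, ∀ (K R : Subgroup G) [hR : (R.subgroupOf K).Normal],
      Nat.card (↥K ⧸ R.subgroupOf K) ≤ n → P (↥K ⧸ R.subgroupOf K) := by
    intro n
    induction n with
    | zero =>
      intro K R hR hn
      have : 0 < Nat.card (↥K ⧸ R.subgroupOf K) := Nat.card_pos
      omega
    | succ n ih =>
      intro K R hR hn
      have small : ∀ (Y : Type u) [Group Y] [Finite Y] (M : Subgroup (↥K ⧸ R.subgroupOf K))
          (f : ↥M →* Y), Function.Surjective f →
          Nat.card Y < Nat.card (↥K ⧸ R.subgroupOf K) → P Y := by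
        intro Y _ _ M f hf hlt
        let q := QuotientGroup.mk' (R.subgroupOf K)
        let M₁ : Subgroup ↥K := M.comap q
        let K' : Subgroup G := M₁.map K.subtype
        let e₁ : ↥M₁ ≃* ↥K' := M₁.equivMapOfInjective K.subtype K.subtype_injective
        let g : ↥K' →* Y :=
          (f.comp ((q.comp M₁.subtype).codRestrict M fun x => x.2)).comp e₁.symm.toMonoidHom
        have hg : Function.Surjective g := by
          intro y
          obtain ⟨m, rfl⟩ := hf y
          obtain ⟨k, hk⟩ := QuotientGroup.mk'_surjective (R.subgroupOf K) (m : ↥K ⧸ R.subgroupOf K)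
          refine ⟨e₁ ⟨k, by show q k ∈ M; rw [hk]; exact m.2⟩, ?_⟩
          show f _ = f m
          congr 1
          refine Subtype.ext ?_
          show q ((e₁.symm (e₁ _) : ↥M₁) : ↥K) = _
          rw [MulEquiv.symm_apply_apply]
          exact hk
        obtain ⟨R', hR', ⟨e⟩⟩ := exists_section_iso K' g hg
        refine hinv _ _ e (ih K' R' ?_)
        rw [Nat.card_congr e.toEquiv]
        omega
      refine hstep K R (fun M hM => small ↥M M (MonoidHom.id _) (fun y => ⟨y, rfl⟩) ?_)
        (fun N _ hN => small _ ⊤ ((QuotientGroup.mk' N).comp (⊤ : Subgroup _).subtype) ?_ ?_)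
      · refine lt_of_le_of_ne (card_le_card_group M) fun he => hM (eq_top_of_card_eq M he)
      · intro y
        obtain ⟨x, rfl⟩ := QuotientGroup.mk'_surjective N y
        exact ⟨⟨x, trivial⟩, rfl⟩
      · have h1 := N.card_eq_card_quotient_mul_card_subgroup
        have h2 := (one_lt_card_iff_ne_bot N).mpr hN
        have h3 : 0 < Nat.card ((↥K ⧸ R.subgroupOf K) ⧸ N) := Nat.card_pos
        rw [h1]
        exact lt_mul_of_one_lt_right h3 h2
  refine ⟨fun K R hR => main _ K R le_rfl, ?_⟩
  obtain ⟨R, hR, ⟨e⟩⟩ := exists_section_iso (⊤ : Subgroup G) (topEquiv (G := G)).toMonoidHom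
    (topEquiv (G := G)).surjective
  exact hinv _ _ e (main _ ⊤ R le_rfl)

section structure_

variable {X : Type u} [Group X] [Finite X] {p : ℕ} [hp : Fact p.Prime]

theorem pCore_le_sylow (S : Sylow p X) : Cfsg.pCore p X ≤ (S : Subgroup X) :=
  (LocalEvenA.pCore_isPGroup' p X).le_sylow_of_normal S

/-- A normal subgroup which is a `p`-group lies in `O_p`; here for a normalizer being everything. -/
theorem le_pCore_of_normalizer {U : Subgroup X} (hU : IsPGroup p U)
    (h : normalizer (U : Set X) = ⊤) : U ≤ Cfsg.pCore p X :=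
  LocalEvenA.le_pCore_of_normal (normalizer_eq_top_iff.mp h) hU

theorem pCore_quotient_pCore : Cfsg.pCore p (X ⧸ Cfsg.pCore p X) = ⊥ := by
  set q := QuotientGroup.mk' (Cfsg.pCore p X)
  haveI := LocalEvenA.pCore_normal' p (X ⧸ Cfsg.pCore p X)
  have hle : (Cfsg.pCore p (X ⧸ Cfsg.pCore p X)).comap q ≤ Cfsg.pCore p X :=
    LocalEvenA.le_pCore_of_normal inferInstance
      ((LocalEvenA.pCore_isPGroup' p _).comap_of_ker_isPGroup q (by
        rw [QuotientGroup.ker_mk']; exact LocalEvenA.pCore_isPGroup' p X))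
  rw [eq_bot_iff]
  intro y hy
  obtain ⟨x, rfl⟩ := QuotientGroup.mk'_surjective _ y
  exact mem_bot.mpr ((QuotientGroup.eq_one_iff x).mpr (hle hy))

/-- `C(Q)` and the normalizer of `S ∩ Q C(Q)` generate the group (Frattini argument). -/
theorem centralizer_sup_normalizer (S : Sylow p X) :
    centralizer ((Cfsg.pCore p X : Subgroup X) : Set X) ⊔
      normalizer ((((S : Subgroup X) ⊓ (Cfsg.pCore p X ⊔
        centralizer ((Cfsg.pCore p X : Subgroup X) : Set X)) : Subgroup X)) : Set X) = ⊤ := by
  haveI := LocalEvenA.pCore_normal' p X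
  set Q := Cfsg.pCore p X
  set C := centralizer ((Q : Subgroup X) : Set X)
  obtain ⟨P, hP⟩ := LocalEvenA.exists_sylow_subgroupOf_normal S (Q ⊔ C)
  have h1 := Sylow.normalizer_sup_eq_top P
  rw [hP, subgroupOf_map_subtype] at h1
  rw [eq_top_iff, ← h1]
  refine sup_le le_sup_right (sup_le ?_ le_sup_left)
  refine le_trans ?_ le_sup_right
  refine le_trans (le_inf (pCore_le_sylow S) le_sup_left) le_normalizer

/-- If `S ∩ Q C(Q)` is normal then `C(Q)` has a normal `p'`-subgroup `R`, normal in the whole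
group, with `C(Q) ≤ Q` when `R = 1`. -/
theorem exists_pPrime_part (S : Sylow p X)
    (h : normalizer ((((S : Subgroup X) ⊓ (Cfsg.pCore p X ⊔
        centralizer ((Cfsg.pCore p X : Subgroup X) : Set X)) : Subgroup X)) : Set X) = ⊤) :
    ∃ R : Subgroup X, R.Normal ∧ (Nat.card R).Coprime p ∧
      (R = ⊥ → centralizer ((Cfsg.pCore p X : Subgroup X) : Set X) ≤ Cfsg.pCore p X) := by
  haveI := LocalEvenA.pCore_normal' p X
  set Q := Cfsg.pCore p X
  set C := centralizer ((Q : Subgroup X) : Set X)
  have hle : (S : Subgroup X) ⊓ C ≤ Q :=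
    le_trans (inf_le_inf_left _ le_sup_right) (le_pCore_of_normalizer S.2.to_inf_left h)
  obtain ⟨P, hP⟩ := LocalEvenA.exists_sylow_subgroupOf_normal S C
  have hcomp : Cfsg.HasNormalPComplement p ↥C := by
    refine Transfer.hasNormalPComplement_of_normalizer_le P fun n _ => ?_
    intro x hx'
    have hx : x ∈ (P : Subgroup ↥C) := hx'
    rw [hP] at hx
    refine Subtype.ext ?_
    exact (n.2 (x : X) (hle ⟨hx, x.2⟩))
  refine ⟨(Cfsg.pResidual p ↥C).map C.subtype, ?_, ?_, fun hR => ?_⟩
  · haveI := Transfer.pResidual_characteristic ↥C p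
    infer_instance
  · rw [card_map_of_injective C.subtype_injective]
    exact (hp.out.coprime_iff_not_dvd.mpr (Transfer.hasNormalPComplement_iff.mp hcomp)).symm
  · have hb : Cfsg.pResidual p ↥C = ⊥ :=
      (map_eq_bot_iff_of_injective _ C.subtype_injective).mp hR
    have hCp : IsPGroup p ↥C := by
      refine (IsPGroup.of_equiv (Transfer.isPGroup_quotient_pResidual (p := p) (G := ↥C))
        ((QuotientGroup.quotientMulEquivOfEq hb).trans QuotientGroup.quotientBot))
    intro x hx
    exact hle ⟨hCp.le_sylow_of_normal S hx, hx⟩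

/-! ### Quotient by a normal p'-subgroup -/

variable {R : Subgroup X} [R.Normal]

theorem inf_eq_bot_of_coprime (hR : (Nat.card R).Coprime p) {U : Subgroup X}
    (hU : IsPGroup p U) : U ⊓ R = ⊥ := by
  obtain ⟨k, hk⟩ := hU.exists_card_eq
  exact disjoint_iff.mp (disjoint_of_coprime_natCard (hk ▸ Nat.Coprime.pow_left k hR.symm))

theorem injOn_mk'_of_coprime (hR : (Nat.card R).Coprime p) {U : Subgroup X} (hU : IsPGroup p U) :
    Set.InjOn (QuotientGroup.mk' R) (U : Set X) := by
  intro a ha b hb hab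
  have h1 : a⁻¹ * b ∈ U ⊓ R := ⟨U.mul_mem (U.inv_mem ha) hb, (QuotientGroup.eq).mp hab⟩
  rw [inf_eq_bot_of_coprime hR hU, mem_bot, inv_mul_eq_one] at h1
  exact h1

/-- Normalizers of `p`-subgroups map onto normalizers modulo a normal `p'`-subgroup. -/
theorem map_normalizer_mk' (hR : (Nat.card R).Coprime p) {U : Subgroup X} (hU : IsPGroup p U) :
    (normalizer (U : Set X)).map (QuotientGroup.mk' R) =
      normalizer ((U.map (QuotientGroup.mk' R) : Subgroup (X ⧸ R)) : Set (X ⧸ R)) := by
  set q := QuotientGroup.mk' R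
  refine le_antisymm (le_normalizer_map q) fun y hy => ?_
  obtain ⟨x, rfl⟩ := QuotientGroup.mk'_surjective R y
  have hcm : (U.map q).comap q = U ⊔ R := by rw [comap_map_eq, QuotientGroup.ker_mk']
  have hle : cj x U ≤ U ⊔ R := by
    rw [← hcm]
    rintro _ ⟨u, hu, rfl⟩
    show q (x * u * x⁻¹) ∈ U.map q
    rw [map_mul, map_mul, map_inv]
    exact (mem_normalizer_iff.mp hy _).mp (mem_map_of_mem q hu)
  have hsyl : IsSylIn p U (U ⊔ R) := by
    refine ⟨le_sup_left, hU, fun hd => ?_⟩
    exact hp.out.coprime_iff_not_dvd.mp hR.symm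
      (hd.trans (Components.relIndex_self_sup_dvd U R))
  obtain ⟨h, hh, hle'⟩ := exists_conj_le_of_isSylIn hsyl hle (cj_isPGroup x hU)
  have heq : cj (h * x) U = U := by
    rw [cj_mul]
    exact eq_of_le_of_card_ge hle' (by rw [cj_card, cj_card])
  have h2 : q h ∈ (normalizer (U : Set X)).map q := by
    have : q h ∈ U.map q := by
      rw [← mem_comap, hcm]
      exact hh
    exact map_mono le_normalizer this
  have h3 := Subgroup.mul_mem _ (Subgroup.inv_mem _ h2) (mem_map_of_mem q (cj_eq_iff.mp heq))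
  rw [map_mul, inv_mul_cancel_left] at h3
  exact h3

end structure_

end Cfsg.Agent.ConjFunctor
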