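import Mathlib
import Cfsg.Prelude.Def_ConjugacyFunctors
import Cfsg.Agent.Lib.LocalEvenA.Core

/-!
# Conjugates, Sylow subgroups of subgroups, fully normalized subgroups, induced functors
-/

set_option autoImplicit false
set_option linter.style.haveILetI false
set_option linter.unusedSectionVars false

namespace Cfsg.Agent.ConjFunctor

open Subgroup

universe u

variable {G : Type*} [Group G] {p : ℕ}

/-- The conjugate `g H g⁻¹`. -/
abbrev cj (g : G) (H : Subgroup G) : Subgroup G := H.map (MulAut.conj g).toMonoidHom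

theorem mem_cj {g x : G} {H : Subgroup G} : x ∈ cj g H ↔ g⁻¹ * x * g ∈ H := by
  constructor
  · rintro ⟨y, hy, rfl⟩
    simpa [mul_assoc] using hy
  · intro h
    exact ⟨g⁻¹ * x * g, h, by simp [mul_assoc]⟩

theorem conj_mem_cj {g x : G} {H : Subgroup G} (h : x ∈ H) : g * x * g⁻¹ ∈ cj g H :=
  ⟨x, h, rfl⟩

theorem cj_mul (a b : G) (H : Subgroup G) : cj (a * b) H = cj a (cj b H) := by
  ext x
  simp [mem_cj, mul_assoc]

@[simp] theorem cj_one (H : Subgroup G) : cj 1 H = H := by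
  ext x
  simp [mem_cj]

theorem cj_inv_cj (a : G) (H : Subgroup G) : cj a⁻¹ (cj a H) = H := by
  rw [← cj_mul]; simp

theorem cj_cj_inv (a : G) (H : Subgroup G) : cj a (cj a⁻¹ H) = H := by
  rw [← cj_mul]; simp

theorem cj_le_cj {g : G} {H K : Subgroup G} : cj g H ≤ cj g K ↔ H ≤ K :=
  map_le_map_iff_of_injective (MulAut.conj g).injective

theorem cj_eq_iff {g : G} {H : Subgroup G} :
    cj g H = H ↔ g ∈ normalizer (H : Set G) := by
  rw [mem_normalizer_iff'' (G := G)]
  constructor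
  · intro h x
    conv_lhs => rw [← h]
    rw [mem_cj]
  · intro h
    ext x
    rw [mem_cj]
    exact (h x).symm

theorem cj_eq_of_mem {g : G} {H : Subgroup G} (h : g ∈ H) : cj g H = H :=
  cj_eq_iff.mpr (le_normalizer h)

theorem cj_normalizer (g : G) (H : Subgroup G) :
    cj g (normalizer (H : Set G)) = normalizer ((cj g H : Subgroup G) : Set G) := by
  ext x
  rw [mem_cj, ← cj_eq_iff, ← cj_eq_iff]
  constructor
  · intro h
    conv_rhs => rw [← h]
    rw [← cj_mul, ← cj_mul]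
    congr 1
    group
  · intro h
    have := congrArg (cj g⁻¹) h
    rw [cj_inv_cj, ← cj_mul, ← cj_mul] at this
    exact this

theorem cj_card (g : G) (H : Subgroup G) : Nat.card (cj g H : Subgroup G) = Nat.card H :=
  card_map_of_injective (MulAut.conj g).injective

theorem cj_relIndex (g : G) (H K : Subgroup G) :
    (cj g H).relIndex (cj g K) = H.relIndex K :=
  relIndex_map_map_of_injective H K (MulAut.conj g).injective

theorem cj_inf (g : G) (H K : Subgroup G) : cj g (H ⊓ K) = cj g H ⊓ cj g K :=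
  map_inf H K _ (MulAut.conj g).injective

theorem cj_commutator (g : G) (H K : Subgroup G) : cj g ⁅H, K⁆ = ⁅cj g H, cj g K⁆ :=
  map_commutator H K _

theorem cj_isPGroup (g : G) {H : Subgroup G} (h : IsPGroup p H) :
    IsPGroup p (cj g H : Subgroup G) := h.map _

theorem cj_eq_bot {g : G} {H : Subgroup G} : cj g H = ⊥ ↔ H = ⊥ :=
  map_eq_bot_iff_of_injective H (MulAut.conj g).injective

/-! ### Sylow subgroups of a subgroup -/

variable [Finite G] [hp : Fact p.Prime]

/-- `T` is a Sylow `p`-subgroup of the subgroup `H`. -/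
def IsSylIn (p : ℕ) (T H : Subgroup G) : Prop :=
  T ≤ H ∧ IsPGroup p T ∧ ¬ p ∣ T.relIndex H

theorem exists_conj_le_of_isSylIn {T H Q : Subgroup G} (hT : IsSylIn p T H) (hQ : Q ≤ H)
    (hQp : IsPGroup p Q) : ∃ h ∈ H, cj h Q ≤ T := by
  obtain ⟨hTH, hTp, hTi⟩ := hT
  let P : Sylow p H := (hTp.comap_subtype (K := H)).toSylow hTi
  obtain ⟨R, hR⟩ := (hQp.comap_subtype (K := H)).exists_le_sylow
  obtain ⟨h, hh⟩ := MulAction.exists_smul_eq H R P
  refine ⟨h, h.2, ?_⟩
  rintro _ ⟨x, hx, rfl⟩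
  have h1 : (⟨x, hQ hx⟩ : H) ∈ (R : Subgroup H) := hR hx
  have h2 : h * ⟨x, hQ hx⟩ * h⁻¹ ∈ (P : Subgroup H) := by
    rw [← hh, Sylow.coe_subgroup_smul]
    exact ⟨_, h1, rfl⟩
  exact h2

theorem isSylIn_map {T H : Subgroup G} (hT : IsSylIn p T H) (g : G) :
    IsSylIn p (cj g T) (cj g H) :=
  ⟨cj_le_cj.mpr hT.1, cj_isPGroup g hT.2.1, by rw [cj_relIndex]; exact hT.2.2⟩

theorem isSylIn_top (S : Sylow p G) : IsSylIn p (S : Subgroup G) ⊤ :=
  ⟨le_top, S.2, by rw [relIndex_top_right]; exact S.not_dvd_index⟩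

theorem exists_isSylIn (H : Subgroup G) : ∃ T, IsSylIn p T H := by
  obtain ⟨P⟩ : Nonempty (Sylow p H) := inferInstance
  refine ⟨(P : Subgroup H).map H.subtype, map_subtype_le _, P.2.map _, ?_⟩
  rw [relIndex, subgroupOf, comap_map_eq_self_of_injective H.subtype_injective]
  exact P.not_dvd_index

theorem exists_isSylIn_ge {H Q : Subgroup G} (hQ : Q ≤ H) (hQp : IsPGroup p Q) :
    ∃ T, IsSylIn p T H ∧ Q ≤ T := by
  obtain ⟨T, hT⟩ := exists_isSylIn (p := p) H
  obtain ⟨h, hh, hle⟩ := exists_conj_le_of_isSylIn hT hQ hQp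
  refine ⟨cj h⁻¹ T, ?_, ?_⟩
  · have := isSylIn_map hT h⁻¹
    rwa [cj_eq_of_mem (inv_mem hh)] at this
  · rw [← cj_inv_cj h Q]
    exact cj_le_cj.mpr hle

theorem isSylIn_conj {T T' H : Subgroup G} (hT : IsSylIn p T H) (hT' : IsSylIn p T' H) :
    ∃ h ∈ H, cj h T' = T := by
  obtain ⟨h, hh, hle⟩ := exists_conj_le_of_isSylIn hT hT'.1 hT'.2.1
  obtain ⟨k, hk, hle'⟩ := exists_conj_le_of_isSylIn hT' hT.1 hT.2.1
  refine ⟨h, hh, eq_of_le_of_card_ge hle ?_⟩
  have := card_le_of_le hle'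
  rw [cj_card] at this
  rwa [cj_card]

theorem isSylIn_of_le {T H : Subgroup G} (hT : IsSylIn p T H) {U : Subgroup G} (hTU : T ≤ U)
    (hUH : U ≤ H) : IsSylIn p T U :=
  ⟨hTU, hT.2.1, fun h => hT.2.2 (by
    rw [← relIndex_mul_relIndex T U H hTU hUH]; exact dvd_mul_of_dvd_left h _)⟩

theorem eq_of_isSylIn_of_le {T H U : Subgroup G} (hT : IsSylIn p T H) (hTU : T ≤ U) (hU : U ≤ H)
    (hUp : IsPGroup p U) : U = T := by
  obtain ⟨h, -, hle⟩ := exists_conj_le_of_isSylIn hT hU hUp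
  have := card_le_of_le hle
  rw [cj_card] at this
  exact (eq_of_le_of_card_ge hTU this).symm

/-! ### Normalizers in a p-subgroup -/

/-- `N_S(T)`. -/
abbrev nS (S T : Subgroup G) : Subgroup G := S ⊓ normalizer (T : Set G)

omit [Finite G] hp in
theorem le_nS {S T : Subgroup G} (h : T ≤ S) : T ≤ nS S T := le_inf h le_normalizer

theorem eq_of_nS_eq {S T : Subgroup G} (hS : IsPGroup p S) (hTS : T ≤ S)
    (h : nS S T = T) : T = S := by
  haveI : Group.IsNilpotent S := hS.isNilpotent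
  by_contra hne
  have hlt : T.subgroupOf S < ⊤ := by
    rw [lt_top_iff_ne_top, Ne, subgroupOf_eq_top]
    exact fun h' => hne (le_antisymm hTS h')
  have h2 := Group.normalizerCondition_of_isNilpotent (G := S) (T.subgroupOf S) hlt
  obtain ⟨x, hx, hxT⟩ := SetLike.exists_of_lt h2
  apply hxT
  rw [mem_subgroupOf]
  have hxN : (x : G) ∈ normalizer (T : Set G) := by
    rw [subgroupOf, ← comap_normalizer_eq_of_le_range (f := S.subtype) (H := T)
      (by rw [range_subtype]; exact hTS)] at hx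
    exact hx
  exact h.le ⟨x.2, hxN⟩

theorem lt_nS {S T : Subgroup G} (hS : IsPGroup p S) (hTS : T ≤ S) (hne : T ≠ S) :
    T < nS S T :=
  lt_of_le_of_ne (le_nS hTS) fun h => hne (eq_of_nS_eq hS hTS h.symm)

/-- `T` is fully normalized in `S`: `N_S(T)` is a Sylow subgroup of `N_G(T)`. -/
def IsFN (p : ℕ) (S T : Subgroup G) : Prop :=
  T ≤ S ∧ ¬ p ∣ (nS S T).relIndex (normalizer (T : Set G))

theorem IsFN.sylIn {S T : Subgroup G} (hS : IsPGroup p S) (h : IsFN p S T) :
    IsSylIn p (nS S T) (normalizer (T : Set G)) :=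
  ⟨inf_le_right, hS.to_inf_left, h.2⟩

/-- A subgroup of `S` has a fully normalized conjugate. -/
theorem exists_isFN (S : Sylow p G) {T : Subgroup G} (hT : T ≤ (S : Subgroup G)) :
    ∃ g : G, IsFN p (S : Subgroup G) (cj g T) := by
  obtain ⟨Q, hQ, hTQ⟩ := exists_isSylIn_ge (p := p) (le_normalizer (H := T)) (S.2.to_le hT)
  obtain ⟨g, -, hg⟩ := exists_conj_le_of_isSylIn (isSylIn_top S) le_top hQ.2.1
  refine ⟨g, le_trans (cj_le_cj.mpr hTQ) hg, fun hdvd => ?_⟩
  have h1 := isSylIn_map hQ g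
  rw [cj_normalizer] at h1
  exact h1.2.2 (hdvd.trans (relIndex_dvd_of_le_left _ (le_inf hg h1.1)))

/-- A conjugation onto a fully normalized subgroup can be chosen to carry `N_S(T)` into `N_S(U)`. -/
theorem exists_conj_nS {S T U : Subgroup G} (hS : IsPGroup p S) (hU : IsFN p S U) (a : G)
    (ha : cj a T = U) :
    ∃ n ∈ normalizer (U : Set G), cj (n * a) T = U ∧ cj (n * a) (nS S T) ≤ nS S U := by
  have hle : cj a (nS S T) ≤ normalizer (U : Set G) := by
    rw [← ha, ← cj_normalizer]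
    exact cj_le_cj.mpr inf_le_right
  obtain ⟨n, hn, hn'⟩ := exists_conj_le_of_isSylIn (hU.sylIn hS) hle (cj_isPGroup a hS.to_inf_left)
  refine ⟨n, hn, ?_, ?_⟩
  · rw [cj_mul, ha]; exact cj_eq_iff.mpr hn
  · rw [cj_mul]; exact hn'

/-! ### Functors -/

section functor

variable {W : Subgroup G → Subgroup G}

omit [Finite G] hp

theorem functor_le (hW : IsConjugacyFunctor p W) {P : Subgroup G} (hP : IsPGroup p P) :
    W P ≤ P := (hW P hP).1

theorem functor_ne_bot (hW : IsConjugacyFunctor p W) {P : Subgroup G} (hP : IsPGroup p P)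
    (h : P ≠ ⊥) : W P ≠ ⊥ := (hW P hP).2.1 h

theorem functor_cj (hW : IsConjugacyFunctor p W) {P : Subgroup G} (hP : IsPGroup p P) (g : G) :
    W (cj g P) = cj g (W P) := (hW P hP).2.2 g

theorem normalizer_le_functor (hW : IsConjugacyFunctor p W) {P : Subgroup G}
    (hP : IsPGroup p P) :
    normalizer (P : Set G) ≤ normalizer ((W P : Subgroup G) : Set G) := by
  intro g hg
  rw [← cj_eq_iff, ← functor_cj hW hP, cj_eq_iff.mpr hg]

theorem self_le_normalizer_functor (hW : IsConjugacyFunctor p W) {P : Subgroup G}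
    (hP : IsPGroup p P) : P ≤ normalizer ((W P : Subgroup G) : Set G) :=
  le_normalizer.trans (normalizer_le_functor hW hP)

end functor

end Cfsg.Agent.ConjFunctor
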