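import Cfsg.Agent.Lib.ConjFunctor.Sections

/-!
# Factorizations `G = C(Z) N(W(S))` lifted to the normalizer of a p-subgroup
-/

set_option autoImplicit false
set_option linter.style.haveILetI false
set_option linter.unusedSectionVars false

namespace Cfsg.Agent.ConjFunctor

open Subgroup
open scoped commutatorElement

universe u

section generic

variable {X : Type u} [Group X] [Finite X] {p : ℕ} [hp : Fact p.Prime]

/-- If `S ∩ Q C(Q)` is normal, some quotient by a normal `p'`-subgroup is constrained. -/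
theorem exists_constrained_quotient (S : Sylow p X)
    (h : normalizer ((((S : Subgroup X) ⊓ (Cfsg.pCore p X ⊔
        centralizer ((Cfsg.pCore p X : Subgroup X) : Set X)) : Subgroup X)) : Set X) = ⊤) :
    ∃ R : Subgroup X, ∃ _ : R.Normal, (Nat.card R).Coprime p ∧
      centralizer ((Cfsg.pCore p (X ⧸ R) : Subgroup (X ⧸ R)) : Set (X ⧸ R)) ≤
        Cfsg.pCore p (X ⧸ R) := by
  haveI := LocalEvenA.pCore_normal' p X
  set Q := Cfsg.pCore p X
  set C := centralizer ((Q : Subgroup X) : Set X)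
  have hle : (S : Subgroup X) ⊓ C ≤ Q :=
    le_trans (inf_le_inf_left _ le_sup_right) (le_pCore_of_normalizer S.2.to_inf_left h)
  obtain ⟨P, hP⟩ := LocalEvenA.exists_sylow_subgroupOf_normal S C
  have hcomp : Cfsg.HasNormalPComplement p ↥C := by
    refine Transfer.hasNormalPComplement_of_normalizer_le P fun n _ => ?_
    intro x hx'
    have hx : x ∈ (P : Subgroup ↥C) := hx'
    rw [hP] at hx
    refine Subtype.ext ?_
    exact (n.2 (x : X) (hle ⟨hx, x.2⟩))
  haveI := Transfer.pResidual_characteristic ↥C p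
  set R : Subgroup X := (Cfsg.pResidual p ↥C).map C.subtype with hR
  haveI hRn : R.Normal := by rw [hR]; infer_instance
  have hcop : (Nat.card R).Coprime p := by
    rw [hR, card_map_of_injective C.subtype_injective]
    exact (hp.out.coprime_iff_not_dvd.mpr (Transfer.hasNormalPComplement_iff.mp hcomp)).symm
  refine ⟨R, hRn, hcop, ?_⟩
  set q := QuotientGroup.mk' R
  have hQ : Q.map q ≤ Cfsg.pCore p (X ⧸ R) :=
    LocalEvenA.le_pCore_of_normal
      ((inferInstance : Q.Normal).map q (QuotientGroup.mk'_surjective R))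
      ((LocalEvenA.pCore_isPGroup' p X).map q)
  have hC : C.map q ≤ Cfsg.pCore p (X ⧸ R) := by
    refine LocalEvenA.le_pCore_of_normal
      ((inferInstance : C.Normal).map q (QuotientGroup.mk'_surjective R)) ?_
    rintro ⟨_, x, hx, rfl⟩
    obtain ⟨k, hk⟩ := Transfer.isPGroup_quotient_pResidual (p := p) (G := ↥C)
      (QuotientGroup.mk ⟨x, hx⟩)
    rw [← QuotientGroup.mk_pow, QuotientGroup.eq_one_iff] at hk
    refine ⟨k, Subtype.ext ?_⟩
    show (q x) ^ p ^ k = 1
    rw [← map_pow]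
    exact (QuotientGroup.eq_one_iff _).mpr (by
      rw [hR]
      exact ⟨_, hk, rfl⟩)
  refine le_trans ?_ hC
  intro y hy
  obtain ⟨x, rfl⟩ := QuotientGroup.mk'_surjective R y
  refine mem_map_of_mem q (mem_centralizer_iff.mpr fun z hz => ?_)
  have h1 : q ⁅x, z⁆ = 1 := by
    rw [map_commutatorElement, commutatorElement_eq_one_iff_mul_comm]
    exact (mem_centralizer_iff.mp hy _ (hQ (mem_map_of_mem q hz))).symm
  have h2 : ⁅x, z⁆ ∈ Q ⊓ R :=
    Subgroup.mem_inf.mpr ⟨Q.mul_mem ((inferInstance : Q.Normal).conj_mem z hz x) (Q.inv_mem hz),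
      (QuotientGroup.eq_one_iff _).mp h1⟩
  rw [inf_eq_bot_of_coprime hcop (LocalEvenA.pCore_isPGroup' p X), mem_bot,
    commutatorElement_eq_one_iff_mul_comm] at h2
  exact h2.symm

/-- A factorization modulo a normal `p'`-subgroup `R` lifts. -/
theorem lift_central_factor (W : ∀ (Q : Type u) [Group Q], Subgroup Q)
    (hW : Cfsg.IsCharPFunctor.{u} p W) (S : Sylow p X) (R : Subgroup X) [R.Normal]
    (hR : (Nat.card R).Coprime p) (Q : Subgroup X) [Q.Normal] (hQ : IsPGroup p Q)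
    (h : ∀ y : X ⧸ R, ∃ a ∈ centralizer
        ((Cfsg.omegaOne p ((S : Subgroup X).map (QuotientGroup.mk' R) ⊓
          centralizer (((S : Subgroup X).map (QuotientGroup.mk' R) : Subgroup (X ⧸ R)) :
            Set (X ⧸ R))) : Subgroup (X ⧸ R)) : Set (X ⧸ R)),
      ∃ b ∈ normalizer ((Cfsg.inducedFunctor W ((S : Subgroup X).map (QuotientGroup.mk' R)) :
          Subgroup (X ⧸ R)) : Set (X ⧸ R)), y = a * b) (x : X) :
    ∃ b ∈ normalizer ((Cfsg.inducedFunctor W (S : Subgroup X) : Subgroup X) : Set X),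
      ∀ z ∈ Q, z ∈ (S : Subgroup X) → z ^ p = 1 → (∀ s ∈ (S : Subgroup X), s * z = z * s) →
        (x * b⁻¹) * z = z * (x * b⁻¹) := by
  set q := QuotientGroup.mk' R
  obtain ⟨a, ha, b₀, hb₀, he⟩ := h (q x)
  have hinj := injOn_mk'_of_coprime hR S.2
  rw [inducedFunctor_map hW q _ S.2 hinj,
    ← map_normalizer_mk' hR (S.2.to_le (inducedFunctor_le _))] at hb₀
  obtain ⟨b, hb, rfl⟩ := hb₀
  refine ⟨b, hb, fun z hzQ hzS hzp hzc => ?_⟩
  have hz' : q z ∈ Cfsg.omegaOne p ((S : Subgroup X).map q ⊓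
      centralizer (((S : Subgroup X).map q : Subgroup (X ⧸ R)) : Set (X ⧸ R))) := by
    refine subset_closure ⟨Subgroup.mem_inf.mpr ⟨mem_map_of_mem q hzS,
      mem_centralizer_iff.mpr ?_⟩, by rw [← map_pow, hzp, map_one]⟩
    rintro _ ⟨s, hs, rfl⟩
    rw [← map_mul, ← map_mul, hzc s hs]
  have hax : q (x * b⁻¹) = a := by rw [map_mul, map_inv, he, mul_inv_cancel_right]
  have h1 : q ⁅x * b⁻¹, z⁆ = 1 := by
    rw [map_commutatorElement, commutatorElement_eq_one_iff_mul_comm, hax]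
    exact (mem_centralizer_iff.mp ha _ hz').symm
  have h2 : ⁅x * b⁻¹, z⁆ ∈ Q ⊓ R :=
    Subgroup.mem_inf.mpr
      ⟨Q.mul_mem ((inferInstance : Q.Normal).conj_mem z hzQ (x * b⁻¹)) (Q.inv_mem hzQ),
        (QuotientGroup.eq_one_iff _).mp h1⟩
  rw [inf_eq_bot_of_coprime hR hQ, mem_bot, commutatorElement_eq_one_iff_mul_comm] at h2
  exact h2

end generic

variable {G : Type u} [Group G] [Finite G] {p : ℕ} [hp : Fact p.Prime]

/-- If every constrained section factors as `C(Ω₁Z) N(W)`, then in a subgroup `H ≥ S` with a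
`p`-subgroup `Q ∋ Ω₁Z(S)` normalized by `H`, every element acts on `Ω₁Z(S)` as one of
`H ⊓ N(W(S))` does. -/
theorem exists_same_action (S : Sylow p G) (W : ∀ (Q : Type u) [Group Q], Subgroup Q)
    (hW : Cfsg.IsCharPFunctor.{u} p W)
    (hfac : ∀ (K R : Subgroup G) [hR : (R.subgroupOf K).Normal],
      centralizer ((Cfsg.pCore p (↥K ⧸ R.subgroupOf K) : Subgroup _) : Set _) ≤
        Cfsg.pCore p (↥K ⧸ R.subgroupOf K) →
      ∀ T : Sylow p (↥K ⧸ R.subgroupOf K), ∀ y : ↥K ⧸ R.subgroupOf K,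
        ∃ a ∈ centralizer ((Cfsg.omegaOne p ((T : Subgroup (↥K ⧸ R.subgroupOf K)) ⊓
          centralizer (((T : Subgroup (↥K ⧸ R.subgroupOf K)) : Subgroup _) : Set _)) :
            Subgroup _) : Set _),
        ∃ b ∈ normalizer ((Cfsg.inducedFunctor (G := (↥K ⧸ R.subgroupOf K)) W
          (T : Subgroup (↥K ⧸ R.subgroupOf K)) : Subgroup _) : Set _), y = a * b)
    {H Q : Subgroup G} (hSH : (S : Subgroup G) ≤ H) (hQS : Q ≤ (S : Subgroup G))
    (hHQ : H ≤ normalizer (Q : Set G))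
    (hZQ : Cfsg.omegaOne p ((S : Subgroup G) ⊓ centralizer (((S : Subgroup G)) : Set G)) ≤ Q)
    (h : G) (hh : h ∈ H) :
    ∃ m ∈ normalizer ((Cfsg.inducedFunctor W (S : Subgroup G) : Subgroup G) : Set G),
      m⁻¹ * h ∈ centralizer
        ((Cfsg.omegaOne p ((S : Subgroup G) ⊓ centralizer (((S : Subgroup G)) : Set G)) :
          Subgroup G) : Set G) := by
  set Z := Cfsg.omegaOne p ((S : Subgroup G) ⊓ centralizer (((S : Subgroup G)) : Set G))
  have hZle : Z ≤ (S : Subgroup G) ⊓ centralizer (((S : Subgroup G)) : Set G) :=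
    (closure_le _).mpr fun z hz => hz.1
  have hSCZ : (S : Subgroup G) ≤ centralizer (Z : Set G) := fun s hs =>
    mem_centralizer_iff.mpr fun z hz =>
      (mem_centralizer_iff.mp (Subgroup.mem_inf.mp (hZle hz)).2 s hs).symm
  set C := H ⊓ centralizer (Q : Set G) with hC
  set M := Q ⊔ C
  have hMH : M ≤ H := sup_le (hQS.trans hSH) inf_le_left
  have hCn : H ≤ normalizer (C : Set G) := by
    have key : ∀ k ∈ H, ∀ x ∈ C, k * x * k⁻¹ ∈ C := by
      intro k hk x hx
      obtain ⟨hxH, hxQ⟩ := Subgroup.mem_inf.mp hx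
      refine Subgroup.mem_inf.mpr ⟨H.mul_mem (H.mul_mem hk hxH) (H.inv_mem hk),
        mem_centralizer_iff.mpr fun z hz => ?_⟩
      have h1 := mem_centralizer_iff.mp hxQ _
        ((mem_normalizer_iff''.mp (hHQ hk) z).mp hz)
      calc z * (k * x * k⁻¹) = k * ((k⁻¹ * z * k) * x) * k⁻¹ := by group
        _ = k * (x * (k⁻¹ * z * k)) * k⁻¹ := by rw [h1]
        _ = k * x * k⁻¹ * z := by group
    intro k hk
    refine mem_normalizer_iff.mpr fun x => ⟨key k hk x, fun hx => ?_⟩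
    simpa [mul_assoc] using key k⁻¹ (H.inv_mem hk) _ hx
  have hMn : H ≤ normalizer (M : Set G) := by
    intro k hk
    rw [← cj_eq_iff]
    show map _ (Q ⊔ C) = Q ⊔ C
    rw [Subgroup.map_sup]
    exact congrArg₂ (· ⊔ ·) (cj_eq_iff.mpr (hHQ hk)) (cj_eq_iff.mpr (hCn hk))
  have hMZ : M ≤ centralizer (Z : Set G) :=
    sup_le (hQS.trans hSCZ) (inf_le_right.trans (centralizer_le hZQ))
  set T₀ := (S : Subgroup G) ⊓ M with hT₀
  have hSylH : IsSylIn p (S : Subgroup G) H := isSylIn_of_le (isSylIn_top S) hSH le_top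
  have hT₀M : IsSylIn p T₀ M := by
    obtain ⟨T, hT, hle⟩ := exists_isSylIn_ge (p := p) (inf_le_right : T₀ ≤ M)
      (S.2.to_inf_left)
    obtain ⟨k, hk, hkle⟩ := exists_conj_le_of_isSylIn hSylH (hT.1.trans hMH) hT.2.1
    have hk' : cj k T ≤ T₀ := le_inf hkle (by
      rw [← cj_eq_iff.mpr (hMn hk)]
      exact cj_le_cj.mpr hT.1)
    have : T = T₀ := (eq_of_le_of_card_ge hle (by
      have := card_le_of_le hk'
      rwa [cj_card] at this)).symm
    exact this ▸ hT
  set L := H ⊓ normalizer (T₀ : Set G) with hL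
  have hSL : (S : Subgroup G) ≤ L := by
    refine le_inf hSH fun s hs => ?_
    rw [← cj_eq_iff, hT₀, cj_inf, cj_eq_of_mem hs, cj_eq_iff.mpr (hMn (hSH hs))]
  -- the Frattini argument
  obtain ⟨u, hu, hue⟩ : ∃ u ∈ M, cj u (cj h⁻¹ T₀) = T₀ := by
    refine isSylIn_conj hT₀M ?_
    have := isSylIn_map hT₀M h⁻¹
    rwa [cj_eq_iff.mpr (hMn (H.inv_mem hh))] at this
  have hl : u * h⁻¹ ∈ L := Subgroup.mem_inf.mpr ⟨H.mul_mem (hMH hu) (H.inv_mem hh),
    cj_eq_iff.mp (by rw [cj_mul]; exact hue)⟩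
  -- the structure of `L`
  set S' : Sylow p ↥L := S.subtype hSL with hS'
  set QL := Cfsg.pCore p ↥L
  haveI := LocalEvenA.pCore_normal' p ↥L
  have hT₀L : T₀.subgroupOf L ≤ QL := by
    refine LocalEvenA.le_pCore_of_normal ?_ (S.2.to_inf_left.comap_of_injective _ L.subtype_injective)
    exact (normal_subgroupOf_iff_le_normalizer (inf_le_left.trans hSL)).mpr inf_le_right
  have hQT₀ : Q ≤ T₀ := le_inf hQS le_sup_left
  have hnorm : normalizer ((((S' : Subgroup ↥L) ⊓ (QL ⊔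
      centralizer ((QL : Subgroup ↥L) : Set ↥L)) : Subgroup ↥L)) : Set ↥L) = ⊤ := by
    have e : (S' : Subgroup ↥L) ⊓ (QL ⊔ centralizer ((QL : Subgroup ↥L) : Set ↥L)) = QL := by
      refine le_antisymm ?_ (le_inf (pCore_le_sylow S') le_sup_left)
      intro s hs
      obtain ⟨hsS, hs'⟩ := Subgroup.mem_inf.mp hs
      obtain ⟨a, ha, c, hc, rfl⟩ := mem_sup_of_normal_left.mp hs'
      refine QL.mul_mem ha (hT₀L ?_)
      have hcS : c ∈ (S' : Subgroup ↥L) := by
        have := (S' : Subgroup ↥L).mul_mem ((S' : Subgroup ↥L).inv_mem (pCore_le_sylow S' ha)) hsS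
        rwa [inv_mul_cancel_left] at this
      show (c : G) ∈ T₀
      refine Subgroup.mem_inf.mpr ⟨hcS, le_sup_right (a := Q) ?_⟩
      refine Subgroup.mem_inf.mpr ⟨(Subgroup.mem_inf.mp c.2).1, mem_centralizer_iff.mpr ?_⟩
      intro z hz
      have hzL : z ∈ L := hSL (hQS hz)
      exact congrArg Subtype.val
        (mem_centralizer_iff.mp hc (⟨z, hzL⟩ : ↥L) (hT₀L (hQT₀ hz)))
    rw [e]
    exact normalizer_eq_top _
  obtain ⟨R, hRn, hRcop, hcon⟩ := exists_constrained_quotient S' hnorm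
  obtain ⟨R', rfl⟩ : ∃ R' : Subgroup G, R'.subgroupOf L = R :=
    ⟨R.map L.subtype, comap_map_eq_self_of_injective L.subtype_injective _⟩
  have hlift := hfac L R' hcon (S'.mapSurjective (QuotientGroup.mk'_surjective _))
  rw [Sylow.coe_mapSurjective] at hlift
  obtain ⟨b, hb, hcomm⟩ := lift_central_factor W hW S' (R'.subgroupOf L) hRcop QL
    (LocalEvenA.pCore_isPGroup' p ↥L) hlift ⟨u * h⁻¹, hl⟩
  have hbG : (b : G) ∈ normalizer ((Cfsg.inducedFunctor W (S : Subgroup G) : Subgroup G) : Set G) := by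
    have h1 : ((S' : Subgroup ↥L)).map L.subtype = (S : Subgroup G) := by
      rw [hS', Sylow.coe_subtype, subgroupOf_map_subtype]
      exact inf_eq_left.mpr hSL
    have h2 := le_normalizer_map L.subtype (mem_map_of_mem L.subtype hb)
    rwa [← inducedFunctor_map hW L.subtype _ S'.2 L.subtype_injective.injOn, h1] at h2
  refine ⟨(b : G)⁻¹, inv_mem hbG, ?_⟩
  have hl' : u * h⁻¹ * (b : G)⁻¹ ∈ centralizer (Z : Set G) := by
    show _ ∈ centralizer
      ((Subgroup.closure {x : G | x ∈ (S : Subgroup G) ⊓ centralizer (((S : Subgroup G)) : Set G) ∧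
        x ^ p = 1} : Subgroup G) : Set G)
    rw [centralizer_closure]
    refine mem_centralizer_iff.mpr fun z hz => ?_
    obtain ⟨hz1, hzp⟩ := hz
    obtain ⟨hzS, hzc⟩ := Subgroup.mem_inf.mp hz1
    have hzZ : z ∈ Z := subset_closure ⟨hz1, hzp⟩
    have := hcomm ⟨z, hSL hzS⟩ (hT₀L (hQT₀ (hZQ hzZ))) hzS (Subtype.ext hzp)
      (fun s hs => Subtype.ext (mem_centralizer_iff.mp hzc (s : G) hs))
    exact (congrArg Subtype.val this).symm
  have e : (b : G)⁻¹⁻¹ * h = (u * h⁻¹ * (b : G)⁻¹)⁻¹ * u := by group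
  rw [e]
  exact mul_mem (inv_mem hl') (hMZ hu)

end Cfsg.Agent.ConjFunctor
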