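import Mathlib
import Cfsg.Prelude.Def_LocalEven
import Cfsg.Prelude.Def_PLocal
import Cfsg.Agent.Lib.Transfer.Fusion

/-!
# Chief factors inside normal p-subgroups; the sum of the powers of a conjugation
-/

set_option autoImplicit false
set_option linter.style.haveILetI false
set_option linter.unusedSectionVars false

namespace Cfsg.Agent.ConjFunctor

open Subgroup Finset
open scoped commutatorElement

/-- In characteristic `p`, `∑_{i<p} (x+1)^i = x^(p-1)`. -/
theorem sum_pow_add_one {R : Type*} [Ring R] {p : ℕ} (hp : p.Prime) (h : (p : R) = 0) (x : R) :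
    ∑ i ∈ range p, (x + 1) ^ i = x ^ (p - 1) := by
  rcases subsingleton_or_nontrivial R with hR | hR
  · exact Subsingleton.elim _ _
  haveI := Fact.mk hp
  haveI : CharP R p := ringChar.of_eq (CharP.ringChar_of_prime_eq_zero hp h)
  have key : ∑ i ∈ range p, ((Polynomial.X : Polynomial (ZMod p)) + 1) ^ i =
      Polynomial.X ^ (p - 1) := by
    refine mul_right_cancel₀ Polynomial.X_ne_zero ?_
    have := geom_sum_mul ((Polynomial.X : Polynomial (ZMod p)) + 1) p
    rw [add_sub_cancel_right] at this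
    rw [this, ← pow_succ, Nat.sub_add_cancel hp.one_lt.le, add_pow_char, one_pow,
      add_sub_cancel_right]
  letI := ZMod.algebra R p
  have := congrArg (Polynomial.aeval x) key
  simpa [map_sum] using this

/-- `[g, y] = g y g⁻¹ y⁻¹`. -/
abbrev del {X : Type*} [Group X] (g y : X) : X := g * y * g⁻¹ * y⁻¹

variable {X : Type*} [Group X] {p : ℕ} {U V : Subgroup X}

theorem del_conj (t g y : X) : del (t * g * t⁻¹) (t * y * t⁻¹) = t * del g y * t⁻¹ := by
  simp [del, mul_assoc]

theorem iterate_del_conj (t g : X) (n : ℕ) (y : X) :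
    (del (t * g * t⁻¹))^[n] (t * y * t⁻¹) = t * (del g)^[n] y * t⁻¹ := by
  induction n generalizing y with
  | zero => rfl
  | succ n ih => rw [Function.iterate_succ_apply, Function.iterate_succ_apply, del_conj, ih]

theorem del_mem [U.Normal] (g : X) {y : X} (hy : y ∈ U) : del g y ∈ U :=
  U.mul_mem (‹U.Normal›.conj_mem y hy g) (U.inv_mem hy)

theorem iterate_del_mem [U.Normal] (g : X) {y : X} (hy : y ∈ U) : ∀ n, (del g)^[n] y ∈ U
  | 0 => hy
  | n + 1 => by rw [Function.iterate_succ_apply']; exact del_mem g (iterate_del_mem g hy n)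

theorem del_mem_commutator {g y : X} {N G : Subgroup X} (hy : y ∈ N) (hg : g ∈ G) :
    del g y ∈ ⁅N, G⁆ := by
  rw [Subgroup.commutator_comm]
  exact commutator_mem_commutator hg hy

theorem iterate_del_mem_iterCommutator {g y : X} {N G : Subgroup X} (hy : y ∈ N) (hg : g ∈ G) :
    ∀ n, (del g)^[n] y ∈ Cfsg.iterCommutator N G n
  | 0 => hy
  | n + 1 => by
    rw [Function.iterate_succ_apply']
    exact del_mem_commutator (iterate_del_mem_iterCommutator hy hg n) hg

variable [Finite X] [hp : Fact p.Prime]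

/-- A normal `p`-subgroup centralizes the chief factors inside it. -/
theorem chief_commutator_le (h : Cfsg.IsChiefFactor U V) {Q : Subgroup X} [Q.Normal]
    (hQ : IsPGroup p Q) (hUQ : U ≤ Q) : ⁅U, Q⁆ ≤ V := by
  haveI := h.2.1
  haveI := h.2.2.1
  rcases h.2.2.2 (V ⊔ ⁅U, Q⁆) inferInstance le_sup_left
      (sup_le h.1.le (commutator_le_left _ _)) with e | e
  · exact sup_eq_left.mp e
  · haveI : Group.IsNilpotent Q := hQ.isNilpotent
    exact absurd (Transfer.le_of_le_sup_commutator hUQ
      (by rw [normalizer_eq_top]; exact le_top) e.ge) h.1.not_ge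

theorem chief_commutator_self (h : Cfsg.IsChiefFactor U V) (hU : IsPGroup p U) : ⁅U, U⁆ ≤ V := by
  haveI := h.2.1
  exact chief_commutator_le h hU le_rfl

/-- Chief factors inside `p`-groups have exponent `p`. -/
theorem chief_pow_mem (h : Cfsg.IsChiefFactor U V) (hU : IsPGroup p U) {u : X} (hu : u ∈ U) :
    u ^ p ∈ V := by
  haveI := h.2.1
  haveI := h.2.2.1
  haveI : IsMulCommutative (↥U ⧸ V.subgroupOf U) := by
    refine Normal.quotient_commutative_iff_commutator_le.mpr ?_
    rw [← map_le_map_iff_of_injective U.subtype_injective, map_subtype_commutator,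
      subgroupOf_map_subtype]
    exact le_inf (chief_commutator_self h hU) (commutator_le_self _)
  have hmul : ∀ a b : ↥U, ((a * b : ↥U) : X) ^ p ∈ V ↔
      (QuotientGroup.mk' (V.subgroupOf U) a) ^ p * (QuotientGroup.mk' (V.subgroupOf U) b) ^ p
        = 1 := by
    intro a b
    open scoped IsMulCommutative in
    rw [← mul_pow, ← map_mul, ← map_pow, QuotientGroup.mk'_apply, QuotientGroup.eq_one_iff,
      mem_subgroupOf]
    rfl
  have hone : ∀ a : ↥U, (a : X) ^ p ∈ V ↔ (QuotientGroup.mk' (V.subgroupOf U) a) ^ p = 1 := by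
    intro a
    rw [← map_pow, QuotientGroup.mk'_apply, QuotientGroup.eq_one_iff, mem_subgroupOf]
    rfl
  let N : Subgroup X :=
    { carrier := {x | x ∈ U ∧ x ^ p ∈ V}
      one_mem' := ⟨one_mem _, by simp⟩
      mul_mem' := fun {a b} ha hb => ⟨U.mul_mem ha.1 hb.1, (hmul ⟨a, ha.1⟩ ⟨b, hb.1⟩).mpr (by
        rw [(hone ⟨a, ha.1⟩).mp ha.2, (hone ⟨b, hb.1⟩).mp hb.2, one_mul])⟩
      inv_mem' := fun {a} ha => ⟨U.inv_mem ha.1, by rw [inv_pow]; exact V.inv_mem ha.2⟩ }
  have hN : N.Normal := ⟨fun x hx g => ⟨‹U.Normal›.conj_mem x hx.1 g, by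
    rw [conj_pow]; exact ‹V.Normal›.conj_mem _ hx.2 g⟩⟩
  rcases h.2.2.2 N hN (fun v hv => ⟨h.1.le hv, V.pow_mem hv p⟩) (fun x hx => hx.1) with e | e
  · exfalso
    have hne : Nontrivial (↥U ⧸ V.subgroupOf U) :=
      QuotientGroup.nontrivial_iff.mpr fun e' => h.1.not_ge (subgroupOf_eq_top.mp e')
    obtain ⟨n, hn⟩ := (hU.to_quotient (V.subgroupOf U)).exists_card_eq
    have hdvd : p ∣ Nat.card (↥U ⧸ V.subgroupOf U) := by
      rw [hn]
      refine dvd_pow_self p fun h0 => ?_
      rw [h0, pow_zero] at hn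
      exact (Finite.one_lt_card (α := ↥U ⧸ V.subgroupOf U)).ne' hn
    obtain ⟨y, hy⟩ := exists_prime_orderOf_dvd_card' p hdvd
    obtain ⟨a, rfl⟩ := QuotientGroup.mk'_surjective _ y
    have ha : (a : X) ∈ N := ⟨a.2, (hone a).mpr (hy ▸ pow_orderOf_eq_one _)⟩
    rw [e] at ha
    have : QuotientGroup.mk' (V.subgroupOf U) a = 1 :=
      (QuotientGroup.eq_one_iff a).mpr (mem_subgroupOf.mpr ha)
    rw [this, orderOf_one] at hy
    exact hp.out.one_lt.ne hy
  · exact (show u ∈ N from e ▸ hu).2

/-- On a chief factor on which `(σ - 1)^(p-1)` vanishes, the product over the first `p` powers of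
the conjugation `σ` is trivial. -/
theorem prod_conj_eq_one (h : Cfsg.IsChiefFactor U V) (hU : IsPGroup p U) (g : X)
    (hg : ∀ u ∈ U, (del g)^[p - 1] u ∈ V) {A : Type*} [CommGroup A] (φ : ↥U →* A)
    (hφ : ∀ u : ↥U, (u : X) ∈ V → φ u = 1) (u : ↥U) :
    ∏ i ∈ range p, φ ⟨g ^ i * u * (g ^ i)⁻¹, h.2.1.conj_mem _ u.2 _⟩ = 1 := by
  haveI := h.2.1
  haveI := h.2.2.1
  haveI : IsMulCommutative (↥U ⧸ V.subgroupOf U) := by
    refine Normal.quotient_commutative_iff_commutator_le.mpr ?_
    rw [← map_le_map_iff_of_injective U.subtype_injective, map_subtype_commutator,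
      subgroupOf_map_subtype]
    exact le_inf (chief_commutator_self h hU) (commutator_le_self _)
  open scoped IsMulCommutative in
  letI : CommGroup (↥U ⧸ V.subgroupOf U) := inferInstance
  let mk : ↥U → Additive (↥U ⧸ V.subgroupOf U) := fun a => Additive.ofMul (QuotientGroup.mk a)
  let τ : (↥U ⧸ V.subgroupOf U) →* (↥U ⧸ V.subgroupOf U) :=
    QuotientGroup.map _ _ (MulAut.conjNormal g).toMonoidHom fun v hv => by
      rw [mem_comap, mem_subgroupOf]
      show ((MulAut.conjNormal g v : ↥U) : X) ∈ V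
      rw [MulAut.conjNormal_apply]
      exact ‹V.Normal›.conj_mem _ (mem_subgroupOf.mp hv) g
  let σ : AddMonoid.End (Additive (↥U ⧸ V.subgroupOf U)) := MonoidHom.toAdditive τ
  have hσ : ∀ (a : ↥U) (i : ℕ), (σ ^ i) (mk a) =
      mk ⟨g ^ i * a * (g ^ i)⁻¹, h.2.1.conj_mem _ a.2 _⟩ := by
    intro a i
    induction i generalizing a with
    | zero => simp [AddMonoid.End.coe_one]
    | succ i ih =>
      rw [pow_succ, AddMonoid.End.coe_mul, Function.comp_apply]
      show (σ ^ i) (mk (MulAut.conjNormal g a)) = _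
      rw [ih]
      congr 1
      ext
      simp [pow_succ, mul_assoc]
  have hδ : ∀ (n : ℕ) (a : ↥U), ((σ - 1) ^ n) (mk a) =
      mk ⟨(del g)^[n] a, iterate_del_mem g a.2 n⟩ := by
    intro n
    induction n with
    | zero => intro a; simp [AddMonoid.End.coe_one]
    | succ n ih =>
      intro a
      rw [pow_succ', AddMonoid.End.coe_mul, Function.comp_apply, ih]
      show σ (mk _) - mk _ = _
      rw [← pow_one σ, hσ, sub_eq_add_neg, ← ofMul_inv, ← ofMul_mul, ← QuotientGroup.mk_inv,
        ← QuotientGroup.mk_mul]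
      refine congrArg (fun b : ↥U => Additive.ofMul (QuotientGroup.mk b)) (Subtype.ext ?_)
      simp [Function.iterate_succ_apply', del]
  have hp0 : ((p : ℕ) : AddMonoid.End (Additive (↥U ⧸ V.subgroupOf U))) = 0 := by
    ext y
    obtain ⟨a, rfl⟩ : ∃ a, mk a = y := QuotientGroup.mk_surjective (Additive.toMul y)
    show p • mk a = 0
    rw [← ofMul_pow, ← QuotientGroup.mk_pow]
    exact congrArg Additive.ofMul ((QuotientGroup.eq_one_iff _).mpr
      (mem_subgroupOf.mpr (chief_pow_mem h hU a.2)))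
  have hzero : ((σ - 1) ^ (p - 1)) (mk u) = 0 := by
    rw [hδ]
    exact congrArg Additive.ofMul ((QuotientGroup.eq_one_iff _).mpr
      (mem_subgroupOf.mpr (hg u u.2)))
  have e : ∀ n, (∑ i ∈ range n, σ ^ i) (mk u) = ∑ i ∈ range n, (σ ^ i) (mk u) := by
    intro n
    induction n with
    | zero => rfl
    | succ n ih =>
      rw [sum_range_succ, sum_range_succ, ← ih]
      rfl
  rw [← sum_pow_add_one hp.out hp0 (σ - 1), sub_add_cancel, e] at hzero
  simp only [hσ] at hzero
  let φ' := QuotientGroup.lift (V.subgroupOf U) φ fun a ha => hφ a (mem_subgroupOf.mp ha)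
  have := congrArg (fun y => φ' (Additive.toMul y)) hzero
  simp [mk, φ', toMul_sum, map_prod] at this
  exact this

end Cfsg.Agent.ConjFunctor
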