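import Cfsg.Agent.Lib.ConjFunctor.AbelianByPStable

/-!
# Normal p-complements when the functor controls fusion in p-stable sections
-/

set_option autoImplicit false
set_option linter.style.haveILetI false
set_option linter.unusedSectionVars false
set_option linter.unusedVariables false

namespace Cfsg.Agent.ConjFunctor

open Subgroup Cfsg
open scoped commutatorElement

universe u

variable {G : Type u} [Group G] [Finite G] {p : ℕ} [hp : Fact p.Prime]
  {W : ∀ (Q : Type u) [Group Q], Subgroup Q}

theorem complement_of_control (hodd : p ≠ 2) (hW : IsCharPFunctor.{u} p W)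
    (hctl : ∀ (K R : Subgroup G) [hR : (R.subgroupOf K).Normal],
      (∀ (K' R' : Subgroup (↥K ⧸ R.subgroupOf K)) [hR' : (R'.subgroupOf K').Normal],
        IsNormalizerPStable p (↥K' ⧸ R'.subgroupOf K')) →
      ∀ T : Sylow p (↥K ⧸ R.subgroupOf K),
        ControlsStrongFusion p (inducedFunctor W (T : Subgroup (↥K ⧸ R.subgroupOf K))))
    (S : Sylow p G)
    (hN : HasNormalPComplement p
      ↥(normalizer ((inducedFunctor W (S : Subgroup G) : Subgroup G) : Set G))) :
    HasNormalPComplement p G := by
  refine complement_of_local hW (fun K R hR hc hnil T hT => ?_) S hN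
  haveI := LocalEvenA.pCore_normal' p (↥K ⧸ R.subgroupOf K)
  set Q := pCore p (↥K ⧸ R.subgroupOf K) with hQ
  set q := QuotientGroup.mk' Q
  have hX : AbelianUpToP p (↥K ⧸ R.subgroupOf K) := by
    refine ⟨(pResidual p _).comap q, inferInstance, fun x => ?_,
      (LocalEvenA.pCore_isPGroup' p _).to_le (maximalShape hnil T hT).abelian⟩
    obtain ⟨k, hk⟩ := Transfer.isPGroup_quotient_pResidual (p := p)
      (G := (↥K ⧸ R.subgroupOf K) ⧸ Q) (QuotientGroup.mk (q x))
    refine ⟨k, ?_⟩
    rwa [← QuotientGroup.mk_pow, QuotientGroup.eq_one_iff, ← map_pow] at hk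
  obtain ⟨T', hWT', hctrl⟩ := hctl K R (fun K' R' hR' => isNormalizerPStable_of_abelianUpToP hodd
    ((hX.of_injective K'.subtype K'.subtype_injective).of_surjective _
      (QuotientGroup.mk'_surjective (R'.subgroupOf K')))) T
  rw [← normalizer_eq_top_iff, ← top_le_iff]
  intro g _
  have hQT' : (Q : Set (↥K ⧸ R.subgroupOf K)) ⊆ ((T' : Subgroup (↥K ⧸ R.subgroupOf K)) : Set _) :=
    pCore_le_sylow T'
  obtain ⟨x, hx, hxg⟩ := (hctrl (Q : Set _) hQT').2 g (by
    rintro _ ⟨a, ha, rfl⟩
    exact hQT' ((inferInstance : Q.Normal).conj_mem a ha g))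
  have hxc : x⁻¹ * g ∈ Q := hc (mem_centralizer_iff.mpr fun a ha => by
    have h1 := congrArg (fun z => x⁻¹ * z * g) (hxg a ha)
    simpa [mul_assoc] using h1.symm)
  rw [show g = x * (x⁻¹ * g) by rw [mul_inv_cancel_left]]
  exact mul_mem hx (self_le_normalizer_functor (isConjugacyFunctor_induced hW) T.2
    (pCore_le_sylow T hxc))

/-- A subgroup whose `p'`-automorphisms induced in `G` are trivial, with small centralizer in the
Sylow subgroup, has a `p`-nilpotent normalizer. -/
theorem complement_normalizer_of_coprime_central {G : Type*} [Group G] [Finite G] {p : ℕ}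
    [Fact p.Prime] (S : Sylow p G) (T : Subgroup G) (hTS : T ≤ (S : Subgroup G))
    (hTn : (S : Subgroup G) ≤ normalizer ((T : Subgroup G) : Set G))
    (hC : (S : Subgroup G) ⊓ centralizer ((T : Subgroup G) : Set G) ≤ T)
    (hN : ∀ g ∈ normalizer ((T : Subgroup G) : Set G), (orderOf g).Coprime p →
      g ∈ centralizer ((T : Subgroup G) : Set G)) :
    HasNormalPComplement p ↥(normalizer ((T : Subgroup G) : Set G)) := by
  set N := normalizer ((T : Subgroup G) : Set G)
  set C := (centralizer ((T : Subgroup G) : Set G)).subgroupOf N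
  haveI : C.Normal := by
    show ((centralizer (T : Set G)).subgroupOf (normalizer (T : Set G))).Normal
    rw [← normalizerMonoidHom_ker]
    infer_instance
  obtain ⟨P, hP⟩ := LocalEvenA.exists_sylow_subgroupOf_normal (S.subtype hTn) C
  have hPmem : ∀ x : ↥C, x ∈ (P : Subgroup ↥C) → ((x : ↥N) : G) ∈ T := by
    intro x hx
    rw [hP] at hx
    exact hC ⟨hx, x.2⟩
  have hCc : HasNormalPComplement p ↥C :=
    Transfer.hasNormalPComplement_of_normalizer_le P fun n _ x hx =>
      Subtype.ext (Subtype.ext (n.2 _ (hPmem x hx)))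
  haveI := Transfer.pResidual_characteristic ↥C p
  refine Transfer.hasNormalPComplement_of_normal ((pResidual p ↥C).map C.subtype) ?_ ?_
  · rw [card_map_of_injective C.subtype_injective]
    exact Transfer.hasNormalPComplement_iff.mp hCc
  · refine Transfer.isPGroup_quotient_of_pResidual_le _ ((closure_le _).mpr fun x hx => ?_)
    have hxC : x ∈ C := hN (x : G) x.2 (by rwa [Subgroup.orderOf_coe])
    exact ⟨⟨x, hxC⟩, Transfer.mem_pResidual_of_coprime (by rwa [Subgroup.orderOf_mk]), rfl⟩

end Cfsg.Agent.ConjFunctor
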