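import Cfsg.Agent.Lib.ConjFunctor.XferStep
import Cfsg.Agent.Lib.ConjFunctor.Chief

/-!
# Orbit sums and the transfer argument of Glauberman
-/

set_option autoImplicit false
set_option linter.style.haveILetI false
set_option linter.unusedSectionVars false

namespace Cfsg.Agent.ConjFunctor

open Subgroup Finset
open scoped commutatorElement Pointwise

/-- If the sum over `h^i • o`, `i < p`, vanishes for all `h` in a generating set of the `p`-group
`R`, then only fixed points contribute to a sum over `O`. -/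
theorem sum_eq_sum_fixed {R O A : Type*} [Group R] [Finite R] [Fintype O] [MulAction R O]
    [DecidableEq O] [DecidablePred (· ∈ MulAction.fixedPoints R O)]
    [AddCommGroup A] {p : ℕ} [hp : Fact p.Prime] (hR : IsPGroup p R) (gens : Set R)
    (hgen : closure gens = ⊤) (f : O → A)
    (h : ∀ g ∈ gens, ∀ o : O, ∑ i ∈ range p, f (g ^ i • o) = 0) :
    ∑ o, f o = ∑ o with o ∈ MulAction.fixedPoints R O, f o := by
  rw [← sum_filter_add_sum_filter_not univ (fun o => o ∈ MulAction.fixedPoints R O)]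
  simp only [add_eq_left]
  suffices H : ∀ n, ∀ s : Finset O, s.card ≤ n → (∀ o ∈ s, o ∉ MulAction.fixedPoints R O) →
      (∀ o ∈ s, ∀ r : R, r • o ∈ s) → ∑ o ∈ s, f o = 0 by
    refine H _ _ le_rfl (fun o ho => (mem_filter.mp ho).2) fun o ho r => ?_
    simp only [mem_filter, mem_univ, true_and] at ho ⊢
    intro hfix
    refine ho fun r' => ?_
    have h1 := hfix (r * r' * r⁻¹)
    rw [← mul_smul, show r * r' * r⁻¹ * r = r * r' by group, mul_smul, smul_left_cancel_iff] at h1
    exact h1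
  intro n
  induction n with
  | zero =>
    intro s hs _ _
    rw [Finset.card_eq_zero.mp (Nat.le_zero.mp hs), sum_empty]
  | succ n ih =>
    intro s hs hnf hinv
    rcases s.eq_empty_or_nonempty with rfl | ⟨o, ho⟩
    · exact sum_empty
    set K := MulAction.stabilizer R o
    have hK : K ≠ ⊤ := fun hK => hnf o ho fun r => by
      have : r ∈ K := hK ▸ mem_top r
      exact this
    obtain ⟨R₁, hR₁, hKR₁, hidx⟩ : ∃ R₁ : Subgroup R, R₁.Normal ∧ K ≤ R₁ ∧ R₁.index = p := by
      obtain ⟨k, hk⟩ := hR.exists_card_eq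
      obtain ⟨j, hj⟩ := (hR.to_subgroup K).exists_card_eq
      have hjk : j < k := by
        have : Nat.card K < Nat.card R :=
          lt_of_le_of_ne (card_le_card_group K) fun e => hK (eq_top_of_card_eq K e)
        rw [hk, hj] at this
        exact (Nat.pow_lt_pow_iff_right hp.out.one_lt).mp this
      obtain ⟨R₁, hR₁, hKR₁⟩ := Sylow.exists_subgroup_card_pow_prime_le p (n := j) (m := k - 1)
        (by rw [hk]; exact pow_dvd_pow p (Nat.sub_le k 1)) K hj (by omega)
      have hidx : R₁.index = p := by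
        have := R₁.card_mul_index
        rw [hR₁, hk, ← Nat.sub_add_cancel (show 1 ≤ k by omega), pow_succ, Nat.add_sub_cancel]
          at this
        exact Nat.eq_of_mul_eq_mul_left (pow_pos hp.out.pos _) this
      refine ⟨R₁, normal_of_index_eq_minFac_card ?_, hKR₁, hidx⟩
      rw [hidx, hk, Nat.pow_minFac (by omega), hp.out.minFac_eq]
    obtain ⟨g, hg, hgR₁⟩ : ∃ g ∈ gens, g ∉ R₁ := by
      by_contra hcon
      simp only [not_exists, not_and, not_not] at hcon
      have : (⊤ : Subgroup R) ≤ R₁ := hgen ▸ (closure_le _).mpr hcon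
      rw [top_le_iff.mp this, index_top] at hidx
      exact hp.out.one_lt.ne hidx
    classical
    haveI : Fintype R := Fintype.ofFinite R
    set Ob := (univ : Finset R).image (· • o) with hOb
    set F := (univ.filter (· ∈ R₁)).image (· • o) with hF
    have hsub : Ob ⊆ s := fun x hx => by
      obtain ⟨r, -, rfl⟩ := mem_image.mp hx
      exact hinv o ho r
    rw [← sum_sdiff hsub, ih (s \ Ob) ?_ (fun x hx => hnf x (mem_sdiff.mp hx).1) ?_, zero_add]
    · haveI : Fintype (R ⧸ R₁) := Fintype.ofFinite _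
      have hcard : Fintype.card (R ⧸ R₁) = p := by
        rw [← Nat.card_eq_fintype_card]; exact hidx
      have hord : orderOf (QuotientGroup.mk g : R ⧸ R₁) = p := by
        haveI := hR₁
        refine orderOf_eq_prime ?_ fun e => hgR₁ ((QuotientGroup.eq_one_iff g).mp e)
        rw [← hcard]
        exact pow_card_eq_one
      haveI := hR₁
      have hdec : ∀ r : R, ∃ i < p, (g ^ i)⁻¹ * r ∈ R₁ := by
        intro r
        have hz : (QuotientGroup.mk r : R ⧸ R₁) ∈ zpowers (QuotientGroup.mk g : R ⧸ R₁) := by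
          have : zpowers (QuotientGroup.mk g : R ⧸ R₁) = ⊤ :=
            eq_top_of_card_eq _ (by rw [Nat.card_zpowers, hord, Nat.card_eq_fintype_card, hcard])
          rw [this]; trivial
        obtain ⟨i, hi, e⟩ := mem_image.mp ((mem_zpowers_iff_mem_range_orderOf).mp hz)
        refine ⟨i, hord ▸ mem_range.mp hi, QuotientGroup.eq.mp ?_⟩
        rw [QuotientGroup.mk_pow]
        exact e
      calc ∑ x ∈ Ob, f x = ∑ z ∈ range p ×ˢ F, f (g ^ z.1 • z.2) := by
            symm
            refine sum_bij (fun z _ => g ^ z.1 • z.2) ?_ ?_ ?_ (fun _ _ => rfl)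
            · rintro ⟨i, x⟩ hz
              obtain ⟨r, -, rfl⟩ := mem_image.mp (mem_product.mp hz).2
              exact mem_image.mpr ⟨g ^ i * r, mem_univ _, mul_smul _ _ _⟩
            · rintro ⟨i, x⟩ hz ⟨j, y⟩ hz' e
              obtain ⟨hi, hx⟩ := mem_product.mp hz
              obtain ⟨hj, hy⟩ := mem_product.mp hz'
              obtain ⟨r, hr, rfl⟩ := mem_image.mp hx
              obtain ⟨r', hr', rfl⟩ := mem_image.mp hy
              simp only [mem_filter, mem_univ, true_and] at hr hr'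
              simp only [smul_smul] at e
              have h1 : (g ^ j * r')⁻¹ * (g ^ i * r) ∈ K := by
                rw [MulAction.mem_stabilizer_iff, mul_smul, inv_smul_eq_iff]
                exact e
              have h2 : (QuotientGroup.mk (g ^ j * r') : R ⧸ R₁) = QuotientGroup.mk (g ^ i * r) :=
                QuotientGroup.eq.mpr (hKR₁ h1)
              rw [QuotientGroup.mk_mul_of_mem _ hr, QuotientGroup.mk_mul_of_mem _ hr',
                QuotientGroup.mk_pow, QuotientGroup.mk_pow] at h2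
              have hij : i = j := (pow_injOn_Iio_orderOf
                (by simpa [hord] using hj : j ∈ Set.Iio (orderOf (QuotientGroup.mk g : R ⧸ R₁)))
                (by simpa [hord] using hi) h2).symm
              subst hij
              simp only [mul_smul, smul_left_cancel_iff] at e
              simp [e]
            · intro x hx
              obtain ⟨r, -, rfl⟩ := mem_image.mp hx
              obtain ⟨i, hi, hr⟩ := hdec r
              exact ⟨(i, ((g ^ i)⁻¹ * r) • o), mem_product.mpr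
                ⟨mem_range.mpr hi, mem_image.mpr ⟨_, by simpa using hr, rfl⟩⟩,
                by simp [smul_smul]⟩
        _ = 0 := by
            rw [sum_product_right]
            exact sum_eq_zero fun x _ => h g hg x
    · have hlt : (s \ Ob).card < s.card :=
        card_lt_card ⟨sdiff_subset, fun h' => (mem_sdiff.mp (h' ho)).2
          (mem_image.mpr ⟨1, mem_univ _, one_smul _ _⟩)⟩
      omega
    · intro x hx r
      obtain ⟨hxs, hxO⟩ := mem_sdiff.mp hx
      refine mem_sdiff.mpr ⟨hinv x hxs r, fun hO => hxO ?_⟩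
      obtain ⟨r', -, e⟩ := mem_image.mp hO
      exact mem_image.mpr ⟨r⁻¹ * r', mem_univ _, by simp [mul_smul, e]⟩

universe u

variable {X : Type u} [Group X] [Finite X] {p : ℕ} [hp : Fact p.Prime]

/-- The transfer argument: `x` lies in `D` if the elements of a set `gens ⊆ S` act on the
transfer factors of `x` with vanishing products, and `x` moves only inside `D` under the elements
`t` with `t⁻¹ gens t ⊆ S`. -/
theorem mem_of_orbit_transfer (S : Sylow p X) (D : Subgroup X)
    (hDn : (S : Subgroup X) ≤ normalizer (D : Set X))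
    (hS : ⁅(S : Subgroup X), (S : Subgroup X)⁆ ≤ D) (gens : Set X)
    (hgens : gens ⊆ (S : Subgroup X)) (x : X) (hxS : x ∈ (S : Subgroup X))
    (hxc : x ∈ _root_.commutator X) (hfix : ∀ t : X, t⁻¹ * x * t ∈ (S : Subgroup X))
    (hprod : ∀ {A : Type u} [CommGroup A] (φ : ↥(S : Subgroup X) →* A),
      (∀ d : ↥(S : Subgroup X), (d : X) ∈ D → φ d = 1) → ∀ g ∈ gens, ∀ t : X,
        ∏ i ∈ range p, φ ⟨(g ^ i * t)⁻¹ * x * (g ^ i * t), hfix _⟩ = 1)
    (hmod : ∀ t : X, (∀ g ∈ gens, t⁻¹ * g * t ∈ (S : Subgroup X)) →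
      x⁻¹ * (t⁻¹ * x * t) ∈ D) :
    x ∈ D := by
  classical
  let D' : Subgroup ↥(S : Subgroup X) := D.subgroupOf (S : Subgroup X)
  haveI : D'.Normal := normal_subgroupOf_of_le_normalizer hDn
  haveI : IsMulCommutative (↥(S : Subgroup X) ⧸ D') := by
    refine Normal.quotient_commutative_iff_commutator_le.mpr ?_
    rw [← map_le_map_iff_of_injective (S : Subgroup X).subtype_injective, map_subtype_commutator,
      subgroupOf_map_subtype]
    exact le_inf hS (commutator_le_self _)
  open scoped IsMulCommutative in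
  letI : CommGroup (↥(S : Subgroup X) ⧸ D') := inferInstance
  let ϕ : ↥(S : Subgroup X) →* ↥(S : Subgroup X) ⧸ D' := QuotientGroup.mk' D'
  haveI : Fintype (X ⧸ (S : Subgroup X)) := Fintype.ofFinite _
  have hϕD : ∀ d : ↥(S : Subgroup X), (d : X) ∈ D → ϕ d = 1 := fun d hd =>
    (QuotientGroup.eq_one_iff d).mpr (mem_subgroupOf.mpr hd)
  let f : X ⧸ (S : Subgroup X) → Additive (↥(S : Subgroup X) ⧸ D') := fun q =>
    Additive.ofMul (ϕ ⟨q.out⁻¹ * x * q.out, hfix _⟩)
  -- the factor does not depend on the representative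
  have hrep : ∀ t : X, f (t : X ⧸ (S : Subgroup X)) =
      Additive.ofMul (ϕ ⟨t⁻¹ * x * t, hfix t⟩) := by
    intro t
    obtain ⟨s, hs⟩ := QuotientGroup.mk_out_eq_mul (S : Subgroup X) t
    show Additive.ofMul (ϕ _) = _
    congr 1
    have e : (⟨(t : X ⧸ (S : Subgroup X)).out⁻¹ * x * (t : X ⧸ (S : Subgroup X)).out, hfix _⟩ :
        ↥(S : Subgroup X)) = s⁻¹ * ⟨t⁻¹ * x * t, hfix t⟩ * s := by
      ext
      simp [hs, mul_assoc]
    rw [e, map_mul, map_mul, map_inv, mul_comm (ϕ s)⁻¹, inv_mul_cancel_right]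
  let R : Subgroup X := closure gens
  have hRS : R ≤ (S : Subgroup X) := (closure_le _).mpr hgens
  let gens' : Set ↥R := R.subtype ⁻¹' gens
  have hgen' : closure gens' = ⊤ := closure_closure_coe_preimage
  have h0 : ∀ g ∈ gens', ∀ o : X ⧸ (S : Subgroup X), ∑ i ∈ range p, f (g ^ i • o) = 0 := by
    intro g hg o
    induction o using QuotientGroup.induction_on with
    | H t =>
      have e : ∀ i : ℕ, f (g ^ i • (t : X ⧸ (S : Subgroup X))) =
          Additive.ofMul (ϕ ⟨((g : X) ^ i * t)⁻¹ * x * ((g : X) ^ i * t), hfix _⟩) := fun i =>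
        (congrArg f (show g ^ i • (t : X ⧸ (S : Subgroup X)) =
          (((g : X) ^ i * t : X) : X ⧸ (S : Subgroup X)) from rfl)).trans (hrep _)
      simp only [e]
      rw [← ofMul_prod]
      exact congrArg Additive.ofMul (hprod ϕ hϕD _ hg t)
  have hsum := sum_eq_sum_fixed (S.2.to_le hRS) gens' hgen' f h0
  have hker : ∑ o, f o = 0 := by
    have h1 : MonoidHom.transfer ϕ x = 1 :=
      MonoidHom.mem_ker.mp (Abelianization.commutator_subset_ker (MonoidHom.transfer ϕ) hxc)
    rw [transfer_of_fixed ϕ x hfix] at h1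
    exact (ofMul_prod _ _).symm.trans (congrArg Additive.ofMul h1)
  have hfx : ∀ o ∈ univ.filter (· ∈ MulAction.fixedPoints (↥R) (X ⧸ (S : Subgroup X))),
      f o = Additive.ofMul (ϕ ⟨x, hxS⟩) := by
    intro o ho
    induction o using QuotientGroup.induction_on with
    | H t =>
      rw [hrep]
      congr 1
      symm
      refine QuotientGroup.eq.mpr ?_
      suffices x⁻¹ * (t⁻¹ * x * t) ∈ D by simpa [D', mem_subgroupOf] using this
      refine hmod t fun g hg => ?_
      have h1 : ((g * t : X) : X ⧸ (S : Subgroup X)) = t :=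
        (mem_filter.mp ho).2 ⟨g, subset_closure hg⟩
      have h2 := (S : Subgroup X).inv_mem (QuotientGroup.eq.mp h1)
      simpa [mul_assoc] using h2
  rw [hsum, sum_congr rfl hfx, sum_const] at hker
  set m := (univ.filter (· ∈ MulAction.fixedPoints (↥R) (X ⧸ (S : Subgroup X)))).card with hm
  have hmp : ¬ p ∣ m := by
    intro hd
    apply S.not_dvd_index
    have h1 := (S.2.to_le hRS).card_modEq_card_fixedPoints (X ⧸ (S : Subgroup X))
    rw [index]
    rw [Nat.card_eq_fintype_card (α := MulAction.fixedPoints (↥R) (X ⧸ (S : Subgroup X))),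
      Fintype.card_subtype, ← hm] at h1
    exact Nat.modEq_zero_iff_dvd.mp (h1.trans (Nat.modEq_zero_iff_dvd.mpr hd))
  obtain ⟨k, hk⟩ := (S.2.to_quotient D') (ϕ ⟨x, hxS⟩)
  have h4 : ϕ ⟨x, hxS⟩ = 1 := Components.eq_one_of_pow_prime_pow_of_coprime
    ((hp.out.coprime_iff_not_dvd.mpr hmp).symm) hk
    (by rw [← ofMul_pow] at hker; exact hker)
  exact (QuotientGroup.eq_one_iff (N := D') _).mp h4

end Cfsg.Agent.ConjFunctor

namespace Cfsg.Agent.ConjFunctor

open Subgroup Finset
open scoped commutatorElement Pointwise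

universe v

variable {X : Type v} [Group X] [Finite X] {p : ℕ} [hp : Fact p.Prime]

theorem exists_chief_below {U : Subgroup X} (hU : U.Normal) (hne : U ≠ ⊥) :
    ∃ V, Cfsg.IsChiefFactor U V := by
  obtain ⟨V, ⟨hVn, hV⟩, hmax⟩ := wellFounded_gt.has_min
    {V : Subgroup X | V.Normal ∧ V < U} ⟨⊥, inferInstance, bot_lt_iff_ne_bot.mpr hne⟩
  refine ⟨V, hV, hU, hVn, fun N hN h1 h2 => ?_⟩
  rcases eq_or_lt_of_le h2 with e | hlt
  · exact Or.inr e
  · refine Or.inl (le_antisymm ?_ h1)
    by_contra hc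
    exact hmax N ⟨hN, hlt⟩ (lt_of_le_not_ge h1 hc)

/-- The conjugates in `S` of an element of `S` outside `O_p` generate a subgroup with proper
normalizer containing `S`; it contains every `t` carrying them into `S`. -/
theorem exists_proper_of_conjugates (S : Sylow p X) {g : X} (hg : g ∈ (S : Subgroup X))
    (hgQ : g ∉ Cfsg.pCore p X) :
    ∃ M : Subgroup X, M ≠ ⊤ ∧ (S : Subgroup X) ≤ M ∧ ∀ t : X,
      (∀ y, y ∈ (S : Subgroup X) → (∃ s, s * g * s⁻¹ = y) → t⁻¹ * y * t ∈ (S : Subgroup X)) →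
        t ∈ M := by
  set gens : Set X := {y | y ∈ (S : Subgroup X) ∧ ∃ s, s * g * s⁻¹ = y} with hgens
  set R := closure gens
  have hRS : R ≤ (S : Subgroup X) := (closure_le _).mpr fun y hy => hy.1
  have hconj : ∀ t : X, (∀ y ∈ gens, t⁻¹ * y * t ∈ (S : Subgroup X)) →
      t⁻¹ ∈ normalizer (R : Set X) := by
    intro t ht
    refine cj_eq_iff.mp (eq_of_le_of_card_ge (cj_le_of_cS ?_) (cj_card t⁻¹ R).ge)
    rintro _ ⟨y, hy, rfl⟩
    obtain ⟨s, hs⟩ := hy.2
    exact subset_closure ⟨by simpa using ht y hy, t⁻¹ * s, by simp [← hs, mul_assoc]⟩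
  refine ⟨normalizer (R : Set X), fun h => hgQ ?_, fun s hs => ?_, fun t ht => ?_⟩
  · exact le_pCore_of_normalizer (S.2.to_le hRS) h
      (subset_closure ⟨hg, 1, by simp⟩)
  · have := hconj s fun y hy => (S : Subgroup X).mul_mem
      ((S : Subgroup X).mul_mem ((S : Subgroup X).inv_mem hs) hy.1) hs
    simpa using (normalizer (R : Set X)).inv_mem this
  · have := hconj t fun y hy => ht y hy.1 hy.2
    simpa using (normalizer (R : Set X)).inv_mem this

variable {𝒲 : Set (∀ (Q : Type v) [Group Q], Subgroup Q)}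

/-- Glauberman's criterion: an element of `S \ O_p` with `(σ-1)^(p-1) = 0` on the chief factors in
`O_p` forces `O_p ∩ X'` into the controlled part. -/
theorem pCore_inf_commutator_le (h𝒲 : ∀ W ∈ 𝒲, Cfsg.IsCharPFunctor.{v} p W) (S : Sylow p X)
    (hsubS : ∀ M : Subgroup X, M ≠ ⊤ → (S : Subgroup X) ≤ M →
      XferAt (indFam 𝒲 X) M (S : Subgroup X))
    (g : X) (hgS : g ∈ (S : Subgroup X)) (hgQ : g ∉ Cfsg.pCore p X)
    (hg : ∀ U V : Subgroup X, Cfsg.IsChiefFactor U V → U ≤ Cfsg.pCore p X →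
      ∀ u ∈ U, (del g)^[p - 1] u ∈ V) :
    Cfsg.pCore p X ⊓ ⁅(⊤ : Subgroup X), ⊤⁆ ≤ xCtl (indFam 𝒲 X) ⊤ (S : Subgroup X) := by
  haveI := LocalEvenA.pCore_normal' p X
  set Q := Cfsg.pCore p X
  set D := xCtl (indFam 𝒲 X) ⊤ (S : Subgroup X)
  have hST : (S : Subgroup X) ≠ ⊤ := fun h => hgQ
    (LocalEvenA.le_pCore_of_normal (N := (S : Subgroup X)) (h ▸ inferInstance) S.2 hgS)
  have hSD : ⁅(S : Subgroup X), (S : Subgroup X)⁆ ≤ D :=
    le_trans (le_inf (commutator_le_self _) le_rfl) (proper_le_xCtl S le_rfl (hsubS _ hST le_rfl))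
  have hDn := xCtl_normalized S hSD
  obtain ⟨M, hM, hSM, hMt⟩ := exists_proper_of_conjugates S hgS hgQ
  suffices H : ∀ n, ∀ U : Subgroup X, U.Normal → Nat.card U ≤ n →
      U ≤ Q ⊓ ⁅(⊤ : Subgroup X), ⊤⁆ → U ≤ D by
    exact H _ _ inferInstance le_rfl le_rfl
  intro n
  induction n with
  | zero =>
    intro U _ hn _
    have : 0 < Nat.card U := Nat.card_pos
    omega
  | succ n ih =>
    intro U hUn hn hU
    rcases eq_or_ne U ⊥ with rfl | hne
    · exact bot_le
    obtain ⟨V, hUV⟩ := exists_chief_below hUn hne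
    have hVD : V ≤ D := by
      refine ih V hUV.2.2.1 ?_ (hUV.1.le.trans hU)
      have := card_lt_of_lt' hUV.1
      omega
    intro x hx
    have hUp : IsPGroup p U := (LocalEvenA.pCore_isPGroup' p X).to_le fun y hy => (hU hy).1
    have hUS : U ≤ (S : Subgroup X) := fun y hy => pCore_le_sylow S (hU hy).1
    refine mem_of_orbit_transfer S D hDn hSD {y | y ∈ (S : Subgroup X) ∧ ∃ s, s * g * s⁻¹ = y}
      (fun y hy => hy.1) x (hUS hx) (by rw [_root_.commutator_def]; exact (hU hx).2)
      (fun t => hUS (by simpa using hUn.conj_mem x hx t⁻¹)) ?_ ?_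
    · intro A _ φ hφ y hy t
      obtain ⟨s, rfl⟩ := hy.2
      have hdel : ∀ u ∈ U, (del (s * g * s⁻¹))^[p - 1] u ∈ V := by
        intro u hu
        have h1 := hg U V hUV (fun y hy => (hU hy).1) (s⁻¹ * u * s)
          (by simpa using hUn.conj_mem u hu s⁻¹)
        have h2 := hUV.2.2.1.conj_mem _ h1 s
        rw [← iterate_del_conj] at h2
        simpa [mul_assoc] using h2
      set h := s * g * s⁻¹
      let ψ : ↥U →* A := φ.comp
        (((MulAut.conj t⁻¹).toMonoidHom.comp U.subtype).codRestrict (S : Subgroup X)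
          fun u => hUS (by simpa using hUn.conj_mem _ u.2 t⁻¹))
      have hψ : ∀ u : ↥U, (u : X) ∈ V → ψ u = 1 := fun u hu =>
        hφ _ (hVD (by simpa using hUV.2.2.1.conj_mem _ hu t⁻¹))
      have h3 := prod_conj_eq_one hUV hUp h hdel ψ hψ
        ⟨(h ^ (p - 1))⁻¹ * x * h ^ (p - 1), by simpa using hUn.conj_mem x hx (h ^ (p - 1))⁻¹⟩
      rw [← prod_range_reflect] at h3
      refine (prod_congr rfl fun i hi => ?_).trans h3
      have hile : i ≤ p - 1 := Nat.le_sub_one_of_lt (mem_range.mp hi)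
      show φ _ = φ _
      congr 1
      refine Subtype.ext ?_
      show (h ^ i * t)⁻¹ * x * (h ^ i * t) = t⁻¹ *
        (h ^ (p - 1 - i) * ((h ^ (p - 1))⁻¹ * x * h ^ (p - 1)) * (h ^ (p - 1 - i))⁻¹) * t⁻¹⁻¹
      rw [pow_sub h hile]
      group
    · intro t ht
      have htM : t ∈ M := hMt t fun y hy1 hy2 => ht y ⟨hy1, hy2⟩
      refine proper_le_xCtl S hSM (hsubS M hM hSM) ⟨(S : Subgroup X).mul_mem
        ((S : Subgroup X).inv_mem (hUS hx))
        (hUS (by simpa using hUn.conj_mem x hx t⁻¹)), ?_⟩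
      have := commutator_mem_commutator (H₁ := M) (H₂ := M)
        (M.inv_mem (hSM (hUS hx))) (M.inv_mem htM)
      simpa [commutatorElement_def, mul_assoc] using this

end Cfsg.Agent.ConjFunctor

namespace Cfsg.Agent.ConjFunctor

open Subgroup

universe w

/-- Control of transfer is carried by isomorphisms. -/
theorem familyTransfer_congr {p : ℕ} [Fact p.Prime]
    {𝒲 : Set (∀ (Q : Type w) [Group Q], Subgroup Q)}
    (h𝒲 : ∀ W ∈ 𝒲, Cfsg.IsCharPFunctor.{w} p W) {X Y : Type w} [Group X] [Group Y] [Finite X]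
    (e : X ≃* Y) (h : Cfsg.FamilyControlsTransferIn p (indFam 𝒲 X) ⊤) :
    Cfsg.FamilyControlsTransferIn p (indFam 𝒲 Y) ⊤ := by
  haveI : Finite Y := Finite.of_equiv X e.toEquiv
  obtain ⟨T, hT, h1⟩ := at_of_familyTransfer h
  have h2 := isSylIn_map_injective e.toMonoidHom e.injective hT
  have h3 := h1.map h𝒲 e.toMonoidHom e.injective hT.2.1
  rw [map_top_of_surjective _ (by exact e.surjective)] at h2 h3
  exact familyTransfer_of_at h2 h3

/-- The criterion of Glauberman in a constrained group whose proper parts are controlled. -/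
theorem xfer_of_element {X : Type w} [Group X] [Finite X] {p : ℕ} [Fact p.Prime]
    {𝒲 : Set (∀ (Q : Type w) [Group Q], Subgroup Q)}
    (h𝒲 : ∀ W ∈ 𝒲, Cfsg.IsCharPFunctor.{w} p W) (S : Sylow p X)
    (hsub : ∀ M : Subgroup X, M ≠ ⊤ → Cfsg.FamilyControlsTransferIn p (indFam 𝒲 ↥M) ⊤)
    (hquot : ∀ (N : Subgroup X) [N.Normal], N ≠ ⊥ →
      Cfsg.FamilyControlsTransferIn p (indFam 𝒲 (X ⧸ N)) ⊤)
    (hc : centralizer ((Cfsg.pCore p X : Subgroup X) : Set X) ≤ Cfsg.pCore p X)
    (g : X) (hgS : g ∈ (S : Subgroup X)) (hgQ : g ∉ Cfsg.pCore p X)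
    (hg : ∀ U V : Subgroup X, Cfsg.IsChiefFactor U V → U ≤ Cfsg.pCore p X →
      Cfsg.iterCommutator U (zpowers g) (p - 1) ≤ V) :
    XferAt (indFam 𝒲 X) ⊤ (S : Subgroup X) :=
  xfer_constrained h𝒲 S hsub hquot hc (pCore_inf_commutator_le h𝒲 S
    (fun M hM hSM => xfer_move_sub h𝒲 (isSylIn_of_le (isSylIn_top S) hSM le_top) (hsub M hM))
    g hgS hgQ fun U V hUV hUQ u hu =>
      hg U V hUV hUQ (iterate_del_mem_iterCommutator hu (mem_zpowers g) _))

end Cfsg.Agent.ConjFunctor
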