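import Cfsg.Agent.Lib.ConjFunctor.Family
import Cfsg.Agent.Lib.ConjFunctor.Chief

/-!
# Invariant complements under subnormal subgroups; subnormality modulo a p-group
-/

set_option autoImplicit false
set_option linter.style.haveILetI false
set_option linter.unusedSectionVars false

namespace Cfsg.Agent.ConjFunctor

open Subgroup
open scoped commutatorElement Pointwise

variable {G : Type*} [Group G]

theorem le_normalizer_sup' {H A B : Subgroup G} (h₁ : H ≤ normalizer (A : Set G))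
    (h₂ : H ≤ normalizer (B : Set G)) : H ≤ normalizer ((A ⊔ B : Subgroup G) : Set G) := by
  intro x hx
  refine cj_eq_iff.mp ?_
  rw [cj, Subgroup.map_sup]
  exact congrArg₂ (· ⊔ ·) (cj_eq_iff.mpr (h₁ hx)) (cj_eq_iff.mpr (h₂ hx))

theorem le_normalizer_inf'' {H A B : Subgroup G} (h₁ : H ≤ normalizer (A : Set G))
    (h₂ : H ≤ normalizer (B : Set G)) : H ≤ normalizer ((A ⊓ B : Subgroup G) : Set G) := by
  intro a ha
  refine mem_normalizer_iff.mpr fun x => ?_
  rw [mem_inf, mem_inf]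
  exact and_congr (mem_normalizer_iff.mp (h₁ ha) x) (mem_normalizer_iff.mp (h₂ ha) x)

/-- Every `H`-invariant subgroup of the abelian group `U` has an `H`-invariant complement. -/
def HasInvComplements (H U : Subgroup G) : Prop :=
  ∀ W : Subgroup G, W ≤ U → H ≤ normalizer (W : Set G) →
    ∃ C : Subgroup G, C ≤ U ∧ H ≤ normalizer (C : Set G) ∧ W ⊓ C = ⊥ ∧ W ⊔ C = U

/-- A minimal `H`-invariant subgroup of `U`. -/
def IsInvAtom (H U m : Subgroup G) : Prop :=
  m ≠ ⊥ ∧ m ≤ U ∧ H ≤ normalizer (m : Set G) ∧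
    ∀ m' : Subgroup G, m' ≤ m → H ≤ normalizer (m' : Set G) → m' = ⊥ ∨ m' = m

variable [Finite G]

theorem exists_invAtom_le {H U M : Subgroup G} (hMU : M ≤ U) (hM : M ≠ ⊥)
    (hH : H ≤ normalizer (M : Set G)) : ∃ m, m ≤ M ∧ IsInvAtom H U m := by
  obtain ⟨m, ⟨hm0, hmM, hmH⟩, hmin⟩ := wellFounded_lt.has_min
    {m : Subgroup G | m ≠ ⊥ ∧ m ≤ M ∧ H ≤ normalizer (m : Set G)} ⟨M, hM, le_rfl, hH⟩
  refine ⟨m, hmM, hm0, hmM.trans hMU, hmH, fun m' hle hn => ?_⟩
  by_contra hcon
  rw [not_or] at hcon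
  exact hmin m' ⟨hcon.1, hle.trans hmM, hn⟩ (lt_of_le_of_ne hle hcon.2)

theorem hasInvComplements_of_normal {H K U : Subgroup G} [hUn : U.Normal] [IsMulCommutative U]
    (hHK : H ≤ K) (hn : K ≤ normalizer (H : Set G)) (h : HasInvComplements K U) :
    HasInvComplements H U := by
  set Soc : Subgroup G := ⨆ m ∈ {m | IsInvAtom H U m}, m with hSoc
  have hSocU : Soc ≤ U := iSup₂_le fun m hm => hm.2.1
  have hconj : ∀ k ∈ K, ∀ m, IsInvAtom H U m → IsInvAtom H U (cj k m) := by
    intro k hk m hm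
    have hkH : cj k H = H := cj_eq_iff.mpr (hn hk)
    refine ⟨fun e => hm.1 (cj_eq_bot.mp e), ?_, ?_, fun m' hle hm' => ?_⟩
    · rw [← cj_eq_iff.mpr (show k ∈ normalizer (U : Set G) by rw [normalizer_eq_top]; trivial)]
      exact cj_le_cj.mpr hm.2.1
    · rw [← hkH, ← cj_normalizer]
      exact cj_le_cj.mpr hm.2.2.1
    · have h1 : cj k⁻¹ m' ≤ m := by
        rw [← cj_inv_cj k m]
        exact cj_le_cj.mpr hle
      have h2 : H ≤ normalizer ((cj k⁻¹ m' : Subgroup G) : Set G) := by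
        rw [← cj_normalizer, ← cj_eq_iff.mpr (inv_mem (hn hk))]
        exact cj_le_cj.mpr hm'
      rcases hm.2.2.2 _ h1 h2 with e | e
      · exact Or.inl (cj_eq_bot.mp e)
      · exact Or.inr (by rw [← e, cj_cj_inv])
  have hKSoc : K ≤ normalizer (Soc : Set G) := by
    intro k hk
    refine cj_eq_iff.mp (eq_of_le_of_card_ge ?_ (cj_card k Soc).ge)
    rw [hSoc, cj, Subgroup.map_iSup]
    simp only [Subgroup.map_iSup]
    exact iSup₂_le fun m hm => le_iSup₂_of_le (cj k m) (hconj k hk m hm) le_rfl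
  have hsocle : Soc = U := by
    obtain ⟨M, hMU, hKM, hinf, hsup⟩ := h Soc hSocU hKSoc
    rcases eq_or_ne M ⊥ with rfl | hM
    · rwa [sup_bot_eq] at hsup
    exfalso
    obtain ⟨m, hmM, hm⟩ := exists_invAtom_le hMU hM (hHK.trans hKM)
    refine hm.1 (le_bot_iff.mp ?_)
    rw [← hinf]
    exact le_inf (le_iSup₂_of_le m hm le_rfl) hmM
  intro W hWU hHW
  obtain ⟨C, ⟨hCU, hHC, hWC⟩, hmax⟩ := wellFounded_gt.has_min
    {C : Subgroup G | C ≤ U ∧ H ≤ normalizer (C : Set G) ∧ W ⊓ C = ⊥}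
    ⟨⊥, bot_le, by rw [normalizer_eq_top]; exact le_top, inf_bot_eq _⟩
  refine ⟨C, hCU, hHC, hWC, le_antisymm (sup_le hWU hCU) ?_⟩
  by_contra hne
  obtain ⟨m, hm, hmWC⟩ : ∃ m, IsInvAtom H U m ∧ ¬ m ≤ W ⊔ C := by
    by_contra hcon
    push Not at hcon
    exact hne (hsocle ▸ iSup₂_le fun m hm => hcon m hm)
  have hcap : m ⊓ (W ⊔ C) = ⊥ := by
    rcases hm.2.2.2 _ inf_le_left (le_normalizer_inf'' hm.2.2.1 (le_normalizer_sup' hHW hHC))
      with e | e
    · exact e
    · exact absurd (inf_eq_left.mp e) hmWC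
  refine hmax (C ⊔ m) ⟨sup_le hCU hm.2.1, le_normalizer_sup' hHC hm.2.2.1, ?_⟩
    (lt_of_le_of_ne le_sup_left fun e => hmWC ((le_sup_right.trans e.ge).trans le_sup_right))
  rw [eq_bot_iff]
  rintro x ⟨hxW, hx⟩
  have hmC : m ≤ normalizer (C : Set G) :=
    (hm.2.1.trans ((le_centralizer U).trans (centralizer_le hCU))).trans
      (centralizer_le_normalizer _)
  replace hx : x ∈ ((C ⊔ m : Subgroup G) : Set G) := hx
  rw [coe_mul_of_right_le_normalizer_left _ _ hmC, Set.mem_mul] at hx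
  obtain ⟨c, hc, y, hy, rfl⟩ := hx
  have hy1 : y = 1 := by
    refine mem_bot.mp (hcap ▸ (⟨hy, ?_⟩ : y ∈ m ⊓ (W ⊔ C)))
    have := mul_mem (inv_mem (mem_sup_right (S := W) hc)) (mem_sup_left (T := C) hxW)
    rwa [inv_mul_cancel_left] at this
  rw [hy1, mul_one] at hxW ⊢
  exact hWC.le ⟨hxW, hc⟩

/-- Subnormal subgroups have invariant complements in minimal normal abelian subgroups. -/
theorem hasInvComplements_of_subnormal {H U : Subgroup G} [U.Normal] [IsMulCommutative U]
    (hmin : ∀ N : Subgroup G, N.Normal → N ≤ U → N = ⊥ ∨ N = U) (hH : H.IsSubnormal) :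
    HasInvComplements H U := by
  induction hH with
  | top =>
    intro W hWU hW
    haveI : W.Normal := normalizer_eq_top_iff.mp (top_le_iff.mp hW)
    rcases hmin W inferInstance hWU with rfl | rfl
    · exact ⟨U, le_rfl, by rw [normalizer_eq_top], bot_inf_eq _, bot_sup_eq _⟩
    · exact ⟨⊥, bot_le, by rw [normalizer_eq_top], inf_bot_eq _, sup_bot_eq _⟩
  | step H K h_le _ hN ih =>
    exact hasInvComplements_of_normal h_le ((normal_subgroupOf_iff_le_normalizer h_le).mp hN) ih

variable {p : ℕ} [hp : Fact p.Prime]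

/-- Subgroups between `C` and `N`, both normal, are subnormal if `N/C` is a `p`-group. -/
theorem isSubnormal_of_pPower {C N L : Subgroup G} [C.Normal] [N.Normal] (hCL : C ≤ L)
    (hLN : L ≤ N) (h : ∀ x ∈ N, ∃ k : ℕ, x ^ p ^ k ∈ C) : L.IsSubnormal := by
  suffices H : ∀ n, ∀ L : Subgroup G, C ≤ L → L ≤ N → Nat.card N ≤ Nat.card L + n →
      L.IsSubnormal from H (Nat.card N) L hCL hLN (Nat.le_add_left _ _)
  intro n
  induction n with
  | zero =>
    intro L hCL hLN hn
    rw [eq_of_le_of_card_ge hLN (by simpa using hn)]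
    exact Normal.isSubnormal ‹_›
  | succ n ih =>
    intro L hCL hLN hn
    rcases eq_or_ne L N with rfl | hne
    · exact Normal.isSubnormal ‹_›
    set q := QuotientGroup.mk' C
    have hq : Function.Surjective q := QuotientGroup.mk'_surjective _
    have hp' : IsPGroup p (N.map q) := by
      rintro ⟨_, x, hx, rfl⟩
      obtain ⟨k, hk⟩ := h x hx
      refine ⟨k, Subtype.ext ?_⟩
      show q x ^ p ^ k = 1
      rw [← map_pow]
      exact (QuotientGroup.eq_one_iff _).mpr hk
    have hL : (L.map q).comap q = L := by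
      rw [comap_map_eq, QuotientGroup.ker_mk', sup_eq_left.mpr hCL]
    have hlt := lt_nS hp' (map_mono hLN) fun e => hne <| le_antisymm hLN <| by
      rw [← hL, e]
      exact le_comap_map q N
    set K := (nS (N.map q) (L.map q)).comap q with hK
    have hLK : L < K := by
      have := (comap_lt_comap_of_surjective hq).mpr hlt
      rwa [hL] at this
    have hKN : K ≤ N := by
      rw [hK]
      refine (comap_mono inf_le_left).trans ?_
      rw [comap_map_eq, QuotientGroup.ker_mk', sup_eq_left.mpr (hCL.trans hLN)]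
    refine IsSubnormal.step L K hLK.le (ih K (hCL.trans hLK.le) hKN ?_)
      (normal_subgroupOf_of_le_normalizer ?_)
    · have := card_lt_of_lt' hLK
      omega
    · rw [hK, ← hL, ← comap_normalizer_eq_of_surjective _ hq]
      exact comap_mono (by rw [hL]; exact inf_le_right)

end Cfsg.Agent.ConjFunctor
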