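import Cfsg.Agent.Lib.ConjFunctor.KSeq
import Cfsg.Agent.Lib.ConjFunctor.Socle
import Cfsg.Agent.Lib.ConjFunctor.Sections
import Cfsg.Agent.Lib.ConjFunctor.Orbit
import Cfsg.Prelude.Def_Amalgam

/-!
# The K-infinity subgroups and critical subgroups of `O_p`
-/

set_option autoImplicit false
set_option linter.style.haveILetI false
set_option linter.unusedSectionVars false

namespace Cfsg.Agent.ConjFunctor

open Subgroup Cfsg
open scoped commutatorElement

section kernels

variable {G : Type*} [Group G]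

/-- The elements acting trivially on `U` modulo `V`. -/
def factorKer (U V : Subgroup G) [V.Normal] : Subgroup G :=
  (centralizer ((U.map (QuotientGroup.mk' V) : Subgroup (G ⧸ V)) : Set (G ⧸ V))).comap
    (QuotientGroup.mk' V)

theorem mem_factorKer {U V : Subgroup G} [V.Normal] {x : G} :
    x ∈ factorKer U V ↔ ∀ u ∈ U, ⁅x, u⁆ ∈ V := by
  rw [factorKer, mem_comap, mem_centralizer_iff]
  constructor
  · intro h u hu
    rw [← QuotientGroup.eq_one_iff, ← QuotientGroup.mk'_apply, map_commutatorElement,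
      commutatorElement_eq_one_iff_mul_comm]
    exact (h _ (mem_map_of_mem _ hu)).symm
  · rintro h _ ⟨u, hu, rfl⟩
    have := h u hu
    rw [← QuotientGroup.eq_one_iff, ← QuotientGroup.mk'_apply, map_commutatorElement,
      commutatorElement_eq_one_iff_mul_comm] at this
    exact this.symm

theorem commutator_le_iff_factorKer {U V K : Subgroup G} [V.Normal] :
    ⁅U, K⁆ ≤ V ↔ K ≤ factorKer U V := by
  rw [Subgroup.commutator_comm, commutator_le]
  exact ⟨fun h x hx => mem_factorKer.mpr (h x hx), fun h x hx => mem_factorKer.mp (h hx)⟩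

instance factorKer_normal (U V : Subgroup G) [U.Normal] [V.Normal] : (factorKer U V).Normal := by
  haveI : (U.map (QuotientGroup.mk' V)).Normal :=
    Normal.map inferInstance _ (QuotientGroup.mk'_surjective V)
  unfold factorKer
  infer_instance

variable [Finite G] {p : ℕ} [hp : Fact p.Prime]

/-- An element of order prime to `p` acting trivially on the chief factors inside the normal
`p`-subgroup `A` centralizes `A`. -/
theorem commute_of_factors {A : Subgroup G} (hA : IsPGroup p A) {x : G}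
    (hx : (orderOf x).Coprime p)
    (h : ∀ U V : Subgroup G, IsChiefFactor U V → U ≤ A → ∀ u ∈ U, ⁅x, u⁆ ∈ V)
    {N : Subgroup G} (hN : N.Normal) (hNA : N ≤ A) : ∀ a ∈ N, Commute x a := by
  induction hc : Nat.card N using Nat.strong_induction_on generalizing N with
  | _ c ih =>
    intro a ha
    rcases eq_or_ne N ⊥ with rfl | hne
    · rw [mem_bot.mp ha]; exact Commute.one_right x
    obtain ⟨V, hUV⟩ := exists_chief_below hN hne
    have hb : a⁻¹ * (x * a * x⁻¹) ∈ V := by
      have h1 := h N V hUV hNA a⁻¹ (inv_mem ha)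
      have h2 := inv_mem h1
      simpa [commutatorElement_def, mul_assoc] using h2
    obtain ⟨k, hk⟩ := hA ⟨_, hNA (hUV.1.le hb)⟩
    exact LocalEvenA.comm_of_coprime_chain hx ⟨k, congrArg Subtype.val hk⟩
      (ih _ (hc ▸ card_lt_of_lt' hUV.1) hUV.2.2.1 (hUV.1.le.trans hNA) rfl _ hb)

/-- If `C(T) ≤ T = O_p` and only the identity of order prime to `p` fixes `A`, an element outside
`T` moves some chief factor inside `A`. -/
theorem exists_moved_factor {A : Subgroup G} [A.Normal] (hAT : A ≤ pCore p G)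
    (hA5 : ∀ φ : MulAut ↥(pCore p G), (orderOf φ).Coprime p →
      (∀ a : ↥(pCore p G), (a : G) ∈ A → φ a = a) → φ = 1)
    (hC : centralizer ((pCore p G : Subgroup G) : Set G) ≤ pCore p G)
    {g : G} (hg : g ∉ pCore p G) :
    ∃ U V : Subgroup G, IsChiefFactor U V ∧ U ≤ A ∧ ¬ ⁅U, zpowers g⁆ ≤ V := by
  haveI := LocalEvenA.pCore_normal' p G
  by_contra hcon
  push Not at hcon
  have hAp : IsPGroup p A := (LocalEvenA.pCore_isPGroup' p G).to_le hAT
  set K : Subgroup G :=
    { carrier := {x | ∀ U V : Subgroup G, IsChiefFactor U V → U ≤ A → ∀ u ∈ U, ⁅x, u⁆ ∈ V}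
      one_mem' := fun U V _ _ u _ => by rw [commutatorElement_one_left]; exact one_mem V
      mul_mem' := fun {a b} ha hb U V hUV hU => by
        haveI := hUV.2.2.1
        exact mem_factorKer.mp
          (mul_mem (mem_factorKer.mpr (ha U V hUV hU)) (mem_factorKer.mpr (hb U V hUV hU)))
      inv_mem' := fun {a} ha U V hUV hU => by
        haveI := hUV.2.2.1
        exact mem_factorKer.mp (inv_mem (mem_factorKer.mpr (ha U V hUV hU))) } with hK
  haveI hKn : K.Normal := ⟨fun x hx t U V hUV hU => by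
    haveI := hUV.2.1
    haveI := hUV.2.2.1
    exact mem_factorKer.mp
      ((factorKer_normal U V).conj_mem x (mem_factorKer.mpr (hx U V hUV hU)) t)⟩
  have hKp : IsPGroup p K := by
    refine LocalEvenA.isPGroup_of_forall_coprime fun x hx hxo => ?_
    have hfix : ∀ a ∈ A, Commute x a := commute_of_factors hAp hxo hx inferInstance le_rfl
    have h1 : (MulAut.conjNormal (H := pCore p G) x) = 1 := by
      refine hA5 _ (hxo.coprime_dvd_left (orderOf_map_dvd _ x)) fun a ha => Subtype.ext ?_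
      rw [MulAut.conjNormal_apply, (hfix a ha).eq, mul_inv_cancel_right]
    have hxT : x ∈ pCore p G := hC (mem_centralizer_iff.mpr fun y hy => by
      have h2 := congrArg Subtype.val (DFunLike.congr_fun h1 (⟨y, hy⟩ : ↥(pCore p G)))
      rw [MulAut.conjNormal_apply] at h2
      exact (mul_inv_eq_iff_eq_mul.mp h2).symm)
    obtain ⟨k, hk⟩ := (LocalEvenA.pCore_isPGroup' p G) ⟨x, hxT⟩
    exact LocalEvenA.eq_one_of_pPow_of_coprime (by simpa using congrArg Subtype.val hk) hxo
  refine hg (LocalEvenA.le_pCore_of_normal hKn hKp fun U V hUV hU u hu => ?_)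
  haveI := hUV.2.2.1
  exact mem_factorKer.mp (commutator_le_iff_factorKer.mp (hcon U V hUV hU) (mem_zpowers g)) u hu

end kernels

section quadratic

variable {G : Type*} [Group G]

theorem commutator_sup_le_sup {U Y C K : Subgroup G} [U.Normal] [IsMulCommutative U]
    (hY : Y ≤ U) (hC : C ≤ U) : ⁅Y ⊔ C, K⁆ ≤ ⁅Y, K⁆ ⊔ ⁅C, K⁆ := by
  refine commutator_le.mpr fun a ha k hk => ?_
  have hCY : C ≤ normalizer (Y : Set G) :=
    ((hC.trans (le_centralizer U)).trans (centralizer_le hY)).trans (centralizer_le_normalizer _)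
  rw [← SetLike.mem_coe, coe_mul_of_right_le_normalizer_left _ _ hCY, Set.mem_mul] at ha
  obtain ⟨y, hy, c, hc, rfl⟩ := ha
  have hcomm : y * ⁅c, k⁆ = ⁅c, k⁆ * y := by
    have h1 : ⁅c, k⁆ ∈ U := commutator_le_left U K (commutator_mem_commutator (hC hc) hk)
    exact (mem_centralizer_iff.mp (le_centralizer U h1) y (hY hy))
  rw [show ⁅y * c, k⁆ = y * ⁅c, k⁆ * y⁻¹ * ⁅y, k⁆ by simp only [commutatorElement_def]; group,
    hcomm, mul_inv_cancel_right]
  exact mul_mem (mem_sup_right (commutator_mem_commutator hc hk))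
    (mem_sup_left (commutator_mem_commutator hy hk))

/-- A chief factor inside `A` is quadratic for `K` if `A/Z` and `Z` are, or if it has a complemented
quadratic part. -/
theorem factor_quadratic_of_layer {A Z U V K : Subgroup G} [Z.Normal] (hUV : IsChiefFactor U V)
    (hUA : U ≤ A) (hZ : ⁅⁅Z, K⁆, K⁆ = ⊥)
    (h : U ⊓ Z ≤ V → ⁅⁅U, K⁆, K⁆ ≤ V) : ⁅⁅U, K⁆, K⁆ ≤ V := by
  haveI := hUV.2.1
  haveI := hUV.2.2.1
  rcases hUV.2.2.2 (V ⊔ U ⊓ Z) inferInstance le_sup_left (sup_le hUV.1.le inf_le_left) with e | e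
  · exact h (sup_eq_left.mp e)
  · have h1 : U.map (QuotientGroup.mk' V) = (U ⊓ Z).map (QuotientGroup.mk' V) := by
      conv_lhs => rw [← e, Subgroup.map_sup, QuotientGroup.map_mk'_self, bot_sup_eq]
    rw [← QuotientGroup.ker_mk' V, ← Subgroup.map_eq_bot_iff, map_commutator, map_commutator,
      h1, ← map_commutator, ← map_commutator, eq_bot_iff]
    refine (map_mono (commutator_mono (commutator_mono inf_le_right le_rfl) le_rfl)).trans ?_
    rw [hZ, Subgroup.map_bot]

theorem factor_quadratic {A Z U V K : Subgroup G} [Z.Normal] (hUV : IsChiefFactor U V)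
    (hUA : U ≤ A) (hA : ⁅⁅A, K⁆, K⁆ ≤ Z) (hZ : ⁅⁅Z, K⁆, K⁆ = ⊥) : ⁅⁅U, K⁆, K⁆ ≤ V := by
  refine factor_quadratic_of_layer hUV hUA hZ fun h => le_trans (le_inf ?_ ?_) h
  · haveI := hUV.2.1
    exact (commutator_mono (commutator_le_left _ _) le_rfl).trans (commutator_le_left _ _)
  · exact (commutator_mono (commutator_mono hUA le_rfl) le_rfl).trans hA

variable [Finite G] {p : ℕ} [hp : Fact p.Prime]

/-- The Clifford step: quadratic on `A₀` and on `A` modulo `A₀`, with `A₀` invariant under a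
subnormal subgroup containing `K`. -/
theorem factor_quadratic_subnormal {A A₀ U V K L : Subgroup G} (hA : IsPGroup p A)
    (hUV : IsChiefFactor U V) (hUA : U ≤ A) (hL : L.IsSubnormal) (hKL : K ≤ L)
    (hLA₀ : L ≤ normalizer (A₀ : Set G)) (h1 : ⁅⁅A, K⁆, K⁆ ≤ A₀) (h2 : ⁅⁅A₀, K⁆, K⁆ = ⊥) :
    ⁅⁅U, K⁆, K⁆ ≤ V := by
  haveI := hUV.2.1
  haveI := hUV.2.2.1
  set q := QuotientGroup.mk' V with hqdef
  have hq : Function.Surjective q := QuotientGroup.mk'_surjective _
  haveI : (U.map q).Normal := Normal.map inferInstance q hq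
  haveI : IsMulCommutative ↥(U.map q) := by
    rw [← le_centralizer_iff_isMulCommutative, ← commutator_eq_bot_iff_le_centralizer,
      ← map_commutator, Subgroup.map_eq_bot_iff, QuotientGroup.ker_mk']
    exact chief_commutator_self hUV (hA.to_le hUA)
  have hmin : ∀ N : Subgroup (G ⧸ V), N.Normal → N ≤ U.map q → N = ⊥ ∨ N = U.map q := by
    intro N hN hNU
    have hVN : V ≤ N.comap q := by
      conv_lhs => rw [← QuotientGroup.ker_mk' V]
      exact comap_mono (f := q) bot_le
    have hle : N.comap q ≤ U := by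
      refine (comap_mono hNU).trans ?_
      rw [comap_map_eq, QuotientGroup.ker_mk', sup_eq_left.mpr hUV.1.le]
    rcases hUV.2.2.2 (N.comap q) (hN.comap q) hVN hle with e | e
    · left
      rw [← map_comap_eq_self_of_surjective hq N, e, QuotientGroup.map_mk'_self]
    · right
      rw [← map_comap_eq_self_of_surjective hq N, e]
  have hLY : L.map q ≤ normalizer (((U ⊓ A₀).map q : Subgroup (G ⧸ V)) : Set (G ⧸ V)) :=
    (map_mono (le_normalizer_inf'' (by rw [normalizer_eq_top]; exact le_top) hLA₀)).trans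
      (le_normalizer_map q)
  obtain ⟨C, hCU, hLC, hYC, hsup⟩ := hasInvComplements_of_subnormal hmin (hL.map hq)
    ((U ⊓ A₀).map q) (map_mono inf_le_left) hLY
  have hUY : ⁅⁅U.map q, K.map q⁆, K.map q⁆ ≤ (U ⊓ A₀).map q := by
    rw [← map_commutator, ← map_commutator]
    refine map_mono (le_inf ?_ ?_)
    · exact (commutator_mono (commutator_le_left _ _) le_rfl).trans (commutator_le_left _ _)
    · exact (commutator_mono (commutator_mono hUA le_rfl) le_rfl).trans h1
  have hY0 : ⁅⁅(U ⊓ A₀).map q, K.map q⁆, K.map q⁆ = ⊥ := by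
    rw [← map_commutator, ← map_commutator, Subgroup.map_eq_bot_iff]
    refine (commutator_mono (commutator_mono inf_le_right le_rfl) le_rfl).trans ?_
    rw [h2]
    exact bot_le
  have hKC : K.map q ≤ normalizer (C : Set (G ⧸ V)) := (map_mono hKL).trans hLC
  have hC1 : ⁅C, K.map q⁆ ≤ C := le_normalizer_iff_commutator_le_left.mp hKC
  have hC0 : ⁅⁅C, K.map q⁆, K.map q⁆ = ⊥ := by
    refine le_bot_iff.mp ?_
    rw [← hYC]
    exact le_inf ((commutator_mono (commutator_mono hCU le_rfl) le_rfl).trans hUY)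
      ((commutator_mono hC1 le_rfl).trans hC1)
  rw [← QuotientGroup.ker_mk' V, ← Subgroup.map_eq_bot_iff, map_commutator, map_commutator,
    eq_bot_iff, ← hqdef, ← hsup]
  refine le_trans (commutator_mono (commutator_sup_le_sup (U := U.map q)
    (map_mono inf_le_left) hCU) le_rfl) ?_
  refine (commutator_sup_le_sup (U := U.map q) ?_ (hC1.trans hCU)).trans ?_
  · exact (commutator_mono (map_mono inf_le_left) le_rfl).trans (commutator_le_left _ _)
  · rw [hY0, hC0, bot_sup_eq]

end quadratic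

section main

universe u

variable {G : Type u} [Group G] [Finite G] {p : ℕ} [hp : Fact p.Prime]

/-- The element sought in Glauberman's theorem on the K-infinity subgroups. -/
def IsWitness (p : ℕ) (S : Subgroup G) (A : Subgroup G) (g : G) : Prop :=
  g ∈ S ∧ g ∉ pCore p G ∧
    iterCommutator A (zpowers g) 3 ≤ A ⊓ centralizer (A : Set G) ∧
    ⁅⁅A ⊓ centralizer (A : Set G), zpowers g⁆, zpowers g⁆ = ⊥ ∧
    (centralizer ((pCore p G : Subgroup G) : Set G) ≤ pCore p G →
      ∃ U V : Subgroup G, IsChiefFactor U V ∧ U ≤ A ∧ ⁅⁅U, zpowers g⁆, zpowers g⁆ ≤ V ∧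
        ¬ ⁅U, zpowers g⁆ ≤ V)

/-- The hypotheses on the subgroup `A` of `T = O_p(G)`. -/
structure IsCriticalIn (p : ℕ) (A : Subgroup G) : Prop where
  le : A ≤ pCore p G
  normal : A.Normal
  classTwo : ⁅A, A⁆ ≤ centralizer (A : Set G)
  comm : ⁅pCore p G, A⁆ ≤ A ⊓ centralizer (A : Set G)
  fixing : ∀ φ : MulAut ↥(pCore p G), (orderOf φ).Coprime p →
    (∀ a : ↥(pCore p G), (a : G) ∈ A → φ a = a) → φ = 1

variable {S : Sylow p G} {A : Subgroup G}

/-- `A` passes every test of the lower star family, or gives a witness. -/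
theorem test_of_no_witness (hA : IsCriticalIn p A)
    (hno : ∀ g, ¬ IsWitness p (S : Subgroup G) A g) {C : Subgroup G}
    (hC : C ∈ classTwoSubgroups G) (hCS : C ≤ (S : Subgroup G))
    (hAC : A ≤ normalizer (C : Set G)) (h1 : ⁅A, ⁅C, C⁆⁆ = ⊥)
    (h2 : ⁅⁅A ⊓ centralizer (A : Set G), C⁆, C⁆ = ⊥) :
    ⁅A, C⁆ ≤ A ⊓ centralizer (A : Set G) := by
  haveI := hA.normal
  haveI := LocalEvenA.pCore_normal' p G
  by_contra hcon
  have hCT : ¬ C ≤ pCore p G := fun h => hcon <| by
    rw [Subgroup.commutator_comm]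
    exact (commutator_mono h le_rfl).trans hA.comm
  obtain ⟨g, hgC, hgT⟩ := SetLike.not_le_iff_exists.mp hCT
  have hgle : zpowers g ≤ C := zpowers_le.mpr hgC
  have hAA : ⁅⁅A, C⁆, C⁆ ≤ A ⊓ centralizer (A : Set G) := by
    refine le_inf ((commutator_mono (commutator_le_left A C) le_rfl).trans (commutator_le_left A C))
      ((commutator_mono (show ⁅A, C⁆ ≤ C from ?_) le_rfl).trans ?_)
    · rw [Subgroup.commutator_comm]
      exact le_normalizer_iff_commutator_le_left.mp hAC
    · exact commutator_eq_bot_iff_le_centralizer.mp (by rw [Subgroup.commutator_comm]; exact h1)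
  refine hno g ⟨hCS hgC, hgT, ?_, ?_, fun hc => ?_⟩
  · exact (commutator_mono (commutator_mono (commutator_mono le_rfl hgle) hgle) le_rfl).trans
      ((commutator_mono hAA le_rfl).trans (commutator_le_left _ _))
  · exact le_bot_iff.mp (h2 ▸ commutator_mono (commutator_mono le_rfl hgle) hgle)
  · obtain ⟨U, V, hUV, hUA, hmove⟩ := exists_moved_factor hA.le hA.fixing hc hgT
    exact ⟨U, V, hUV, hUA, factor_quadratic (A := A) (Z := A ⊓ centralizer (A : Set G)) hUV hUA
      ((commutator_mono (commutator_mono le_rfl hgle) hgle).trans hAA)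
      (le_bot_iff.mp (h2 ▸ commutator_mono (commutator_mono le_rfl hgle) hgle)), hmove⟩

/-- The members of the lower star family relative to `O ⊇ A` lie in `O_p`. -/
theorem lower_le_pCore (hA : IsCriticalIn p A) (hno : ∀ g, ¬ IsWitness p (S : Subgroup G) A g)
    {O B : Subgroup G} (hB : B ∈ kLowerStarFamily O) (hBS : B ≤ (S : Subgroup G))
    (hAO : A ≤ O) : B ≤ pCore p G := by
  haveI := hA.normal
  haveI := LocalEvenA.pCore_normal' p G
  by_contra hBT
  set Z := A ⊓ centralizer (A : Set G) with hZ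
  set ZB := B ⊓ centralizer (B : Set G) with hZB
  have hAB : A ≤ normalizer (B : Set G) := hAO.trans hB.2.1
  have hBA : ⁅A, B⁆ ≤ B := by
    rw [Subgroup.commutator_comm]; exact le_normalizer_iff_commutator_le_left.mp hAB
  have hAZB : A ≤ normalizer (ZB : Set G) := by
    refine le_normalizer_inf'' hAB fun a ha => cj_eq_iff.mp
      (eq_of_le_of_card_ge ?_ (cj_card a _).ge)
    rintro _ ⟨z, hz, rfl⟩
    refine mem_centralizer_iff.mpr fun b hb => ?_
    have h1 := mem_centralizer_iff.mp hz _ ((mem_normalizer_iff''.mp (hAB ha) b).mp hb)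
    show b * (a * z * a⁻¹) = a * z * a⁻¹ * b
    calc b * (a * z * a⁻¹) = a * (a⁻¹ * b * a * z) * a⁻¹ := by group
      _ = a * (z * (a⁻¹ * b * a)) * a⁻¹ := by rw [h1]
      _ = a * z * a⁻¹ * b := by group
  have hAZ : ⁅A, Z⁆ = ⊥ := commutator_eq_bot_iff_le_centralizer.mpr
    (le_centralizer_iff.mp inf_le_right)
  have hAcl : A ∈ classTwoSubgroups G := hA.classTwo
  have hZcl : Z ∈ classTwoSubgroups G := (commutator_le.mpr fun a ha b hb => by
    rw [commutatorElement_eq_one_iff_mul_comm.mpr (mem_centralizer_iff.mp hb.2 a ha.1)]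
    exact one_mem _)
  have hZZ : ⁅Z, Z⁆ = ⊥ :=
    le_bot_iff.mp (hAZ ▸ commutator_mono inf_le_left le_rfl)
  have hZBZB : ⁅ZB, ZB⁆ = ⊥ :=
    commutator_eq_bot_iff_le_centralizer.mpr
      (inf_le_right.trans (centralizer_le (by exact inf_le_left)))
  -- `[A, Z(B)] ≤ Z`
  have hZBA : ⁅A, ZB⁆ ≤ Z := by
    refine test_of_no_witness hA hno ?_ (inf_le_left.trans hBS) hAZB ?_ ?_
    · exact (commutator_le_self _).trans (le_centralizer_iff_isMulCommutative.mpr
        (le_centralizer_iff_isMulCommutative.mp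
          (commutator_eq_bot_iff_le_centralizer.mp hZBZB)))
    · rw [hZBZB, commutator_bot_right]
    · refine le_bot_iff.mp (hZBZB ▸ commutator_mono ?_ le_rfl)
      rw [Subgroup.commutator_comm]
      exact le_normalizer_iff_commutator_le_left.mp (inf_le_left.trans hAZB)
  -- `[B, Z] ≤ Z(B)`
  have hBZ : ⁅B, Z⁆ ≤ ZB := by
    refine hB.2.2 Z hZcl (inf_le_left.trans hAO) (by rw [normalizer_eq_top]; exact le_top)
      (by rw [hZZ, commutator_bot_right]) (le_bot_iff.mp (hZZ ▸ commutator_mono ?_ le_rfl))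
    exact commutator_le_right _ _
  have hZq : ⁅⁅Z, B⁆, B⁆ = ⊥ := by
    refine le_bot_iff.mp ((commutator_mono ((Subgroup.commutator_comm Z B).le.trans hBZ) le_rfl).trans
      (le_of_eq ?_))
    exact commutator_eq_bot_iff_le_centralizer.mpr (le_centralizer_iff.mp
      (le_centralizer_iff.mp inf_le_right))
  have hAB2 : ⁅⁅A, B⁆, B⁆ ≤ A ⊓ ⁅B, B⁆ :=
    le_inf ((commutator_mono (commutator_le_left A B) le_rfl).trans (commutator_le_left A B))
      (commutator_mono hBA le_rfl)
  have hiter : ∀ g ∈ B, iterCommutator A (zpowers g) 3 ≤ Z := by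
    intro g hg
    have hgle : zpowers g ≤ B := zpowers_le.mpr hg
    refine le_trans (commutator_mono (commutator_mono (commutator_mono le_rfl hgle) hgle) hgle) ?_
    refine ((commutator_mono (hAB2.trans inf_le_right) le_rfl).trans (le_of_eq ?_)).trans bot_le
    exact commutator_eq_bot_iff_le_centralizer.mpr hB.1
  have hZg : ∀ g ∈ B, ⁅⁅Z, zpowers g⁆, zpowers g⁆ = ⊥ := fun g hg => le_bot_iff.mp
    (hZq ▸ commutator_mono (commutator_mono le_rfl (zpowers_le.mpr hg)) (zpowers_le.mpr hg))
  obtain ⟨g, hgB, hgT⟩ := SetLike.not_le_iff_exists.mp hBT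
  have hgle : zpowers g ≤ B := zpowers_le.mpr hgB
  refine hno g ⟨hBS hgB, hgT, hiter g hgB, hZg g hgB, fun hc => ?_⟩
  set A' := ⁅A, A⁆ with hA'
  have hA'Z : A' ≤ Z := le_inf (commutator_le_self A) hA.classTwo
  by_cases hB1 : ∀ b ∈ B, ∀ U V : Subgroup G, IsChiefFactor U V → U ≤ A' → ∀ u ∈ U, ⁅b, u⁆ ∈ V
  swap
  · push Not at hB1
    obtain ⟨b, hb, U, V, hUV, hU, u, hu, hV⟩ := hB1
    haveI := hUV.2.2.1
    have hmove : ¬ ⁅U, zpowers b⁆ ≤ V := fun h => hV (mem_factorKer.mp
      (commutator_le_iff_factorKer.mp h (mem_zpowers b)) u hu)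
    have hbT : b ∉ pCore p G := fun h => hmove ((commutator_mono le_rfl (zpowers_le.mpr h)).trans
      (chief_commutator_le hUV (LocalEvenA.pCore_isPGroup' p G)
        (hU.trans ((commutator_le_self A).trans hA.le))))
    exact absurd ⟨hBS hb, hbT, hiter b hb, hZg b hb, fun _ => ⟨U, V, hUV,
      hU.trans (commutator_le_self A),
      ((commutator_mono (commutator_mono (hU.trans hA'Z) le_rfl) le_rfl).trans
        (hZg b hb).le).trans bot_le, hmove⟩⟩ (hno b)
  obtain ⟨U, V, hUV, hUA, hmove⟩ := exists_moved_factor hA.le hA.fixing hc hgT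
  refine ⟨U, V, hUV, hUA, factor_quadratic_of_layer hUV hUA (hZg g hgB) fun _ => ?_, hmove⟩
  set Z₀ := A' ⊓ centralizer (B : Set G) with hZ₀
  set A₀ := A ⊓ commKer Z₀ A with hA₀
  have hAZ₀ : A ≤ centralizer (Z₀ : Set G) :=
    (le_centralizer_iff.mp inf_le_right).trans
      (centralizer_le (show (Z₀ : Set G) ⊆ _ from fun x hx => hA'Z hx.1))
  set L := centralizer (A' : Set G) ⊔ B with hL
  have hLsub : L.IsSubnormal := by
    set N₁ : Subgroup G := ⨅ (U : Subgroup G) (V : Subgroup G) (h : IsChiefFactor U V ∧ U ≤ A'),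
      @factorKer G _ U V h.1.2.2.1 with hN₁
    haveI : N₁.Normal := Subgroup.normal_iInf_normal fun U => Subgroup.normal_iInf_normal fun V =>
      Subgroup.normal_iInf_normal fun h => @factorKer_normal G _ U V h.1.2.1 h.1.2.2.1
    have hmem : ∀ x, x ∈ N₁ ↔
        ∀ U V : Subgroup G, IsChiefFactor U V → U ≤ A' → ∀ u ∈ U, ⁅x, u⁆ ∈ V := by
      intro x
      simp only [hN₁, mem_iInf]
      exact ⟨fun h U V h1 h2 => (@mem_factorKer G _ U V h1.2.2.1 x).mp (h U V ⟨h1, h2⟩),
        fun h U V h' => (@mem_factorKer G _ U V h'.1.2.2.1 x).mpr (h U V h'.1 h'.2)⟩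
    refine isSubnormal_of_pPower (p := p) (C := centralizer (A' : Set G)) (N := N₁) le_sup_left
      (sup_le (fun x hx => (hmem x).mpr fun U V hUV hU u hu => ?_)
        fun b hb => (hmem b).mpr (hB1 b hb)) fun x hx => ?_
    · rw [commutatorElement_eq_one_iff_mul_comm.mpr (mem_centralizer_iff.mp hx u (hU hu)).symm]
      exact one_mem _
    · obtain ⟨a, b, hab, ⟨k, hk⟩, hb, ha', hb'⟩ :=
        LocalEvenA.exists_pPart (p := p) (isOfFinOrder_of_finite x)
      refine ⟨k, ?_⟩
      have hcomm : Commute a b := by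
        obtain ⟨i, rfl⟩ := ha'
        obtain ⟨j, rfl⟩ := hb'
        exact Commute.zpow_zpow_self x i j
      rw [← hab, hcomm.mul_pow, hk, one_mul]
      refine pow_mem ?_ _
      exact mem_centralizer_iff.mpr fun y hy => (commute_of_factors
        ((LocalEvenA.pCore_isPGroup' p G).to_le ((commutator_le_self A).trans hA.le)) hb
        ((hmem b).mp (zpowers_le.mpr hx hb')) inferInstance le_rfl y hy).eq.symm
  have hLA₀ : L ≤ normalizer (A₀ : Set G) := by
    have hLZ₀ : L ≤ centralizer (Z₀ : Set G) := sup_le (centralizer_le (by exact inf_le_left))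
      (le_centralizer_iff.mp inf_le_right)
    intro z hz
    refine cj_eq_iff.mp (eq_of_le_of_card_ge ?_ (cj_card z A₀).ge)
    rintro _ ⟨a, ⟨haA, -, ha⟩, rfl⟩
    have hzaA : z * a * z⁻¹ ∈ A := hA.normal.conj_mem a haA z
    refine ⟨hzaA, hAZ₀ hzaA, fun y hy => ?_⟩
    have h1 := ha (z⁻¹ * y * z) (by simpa using hA.normal.conj_mem y hy z⁻¹)
    show ⁅z * a * z⁻¹, y⁆ ∈ Z₀
    rw [show ⁅z * a * z⁻¹, y⁆ = z * ⁅a, z⁻¹ * y * z⁆ * z⁻¹ by
      simp only [commutatorElement_def]; group,
      ← mem_centralizer_iff.mp (hLZ₀ hz) _ h1, mul_inv_cancel_right]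
    exact h1
  have hAA₀ : ⁅⁅A, B⁆, B⁆ ≤ A₀ := by
    refine le_inf (hAB2.trans inf_le_left) (le_commKer ((hAB2.trans inf_le_left).trans hAZ₀) ?_)
    refine le_inf (commutator_mono (hAB2.trans inf_le_left) le_rfl) ?_
    refine le_trans (commutator_mono (hAB2.trans inf_le_right) le_rfl) ?_
    have h3 : ⁅B, B⁆ ≤ ZB := le_inf (commutator_le_self B) hB.1
    refine (commutator_mono h3 le_rfl).trans ?_
    exact (le_normalizer_iff_commutator_le_left.mp hAZB).trans inf_le_right
  have hBA₀ : ⁅B, A₀⁆ ≤ ZB := by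
    refine hB.2.2 A₀ ?_ (inf_le_left.trans hAO) ((le_sup_right : B ≤ L).trans hLA₀) ?_ ?_
    · exact (commutator_mono inf_le_left inf_le_left).trans
        (hA.classTwo.trans (centralizer_le (by exact inf_le_left)))
    · refine le_bot_iff.mp ((commutator_mono le_rfl ?_).trans
        (commutator_eq_bot_iff_le_centralizer.mpr
          (le_centralizer_iff.mp (inf_le_right : Z₀ ≤ centralizer (B : Set G)))).le)
      exact (commutator_mono le_rfl inf_le_left).trans
        (commutator_le_of_le_commKer inf_le_right)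
    · refine le_bot_iff.mp ((commutator_mono ((commutator_mono le_rfl inf_le_left).trans ?_)
        inf_le_left).trans ((Subgroup.commutator_comm Z A).le.trans hAZ.le))
      rw [Subgroup.commutator_comm]
      exact hZBA
  have hA₀q : ⁅⁅A₀, B⁆, B⁆ = ⊥ := by
    refine le_bot_iff.mp ((commutator_mono
      ((Subgroup.commutator_comm A₀ B).le.trans hBA₀) le_rfl).trans (le_of_eq ?_))
    exact commutator_eq_bot_iff_le_centralizer.mpr inf_le_right
  exact factor_quadratic_subnormal ((LocalEvenA.pCore_isPGroup' p G).to_le hA.le) hUV hUA hLsub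
    (hgle.trans le_sup_right) hLA₀
    ((commutator_mono (commutator_mono le_rfl hgle) hgle).trans hAA₀)
    (le_bot_iff.mp (hA₀q ▸ commutator_mono (commutator_mono le_rfl hgle) hgle))

/-- The members of the upper star family relative to a subgroup containing `A` lie in `O_p`. -/
theorem upper_le_pCore (hA : IsCriticalIn p A) (hno : ∀ g, ¬ IsWitness p (S : Subgroup G) A g)
    {E B : Subgroup G} (hB : B ∈ kUpperStarFamily E) (hBS : B ≤ (S : Subgroup G))
    (hAE : A ≤ E) : B ≤ pCore p G := by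
  haveI := hA.normal
  by_contra hBT
  obtain ⟨g, hgB, hgT⟩ := SetLike.not_le_iff_exists.mp hBT
  have hgle : zpowers g ≤ B := zpowers_le.mpr hgB
  have h0 : ⁅⁅A, zpowers g⁆, zpowers g⁆ = ⊥ := by
    refine le_bot_iff.mp ((commutator_mono ((commutator_mono le_rfl hgle).trans
      ((Subgroup.commutator_comm A B).le.trans ((commutator_mono le_rfl hAE).trans hB.2)))
      hgle).trans (le_of_eq ?_))
    exact commutator_eq_bot_iff_le_centralizer.mpr inf_le_right
  have hZ0 : ⁅⁅A ⊓ centralizer (A : Set G), zpowers g⁆, zpowers g⁆ = ⊥ :=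
    le_bot_iff.mp (h0 ▸ commutator_mono (commutator_mono inf_le_left le_rfl) le_rfl)
  refine hno g ⟨hBS hgB, hgT, ?_, hZ0, fun hc => ?_⟩
  · show ⁅⁅⁅A, zpowers g⁆, zpowers g⁆, zpowers g⁆ ≤ _
    rw [h0, commutator_bot_left]
    exact bot_le
  · obtain ⟨U, V, hUV, hUA, hmove⟩ := exists_moved_factor hA.le hA.fixing hc hgT
    exact ⟨U, V, hUV, hUA,
      factor_quadratic (A := A) hUV hUA (h0.le.trans bot_le) hZ0, hmove⟩

/-- Glauberman: unless both K-infinity subgroups of `S` are normal, a witness exists. -/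
theorem exists_witness (hA : IsCriticalIn p A)
    (hK : ¬ (inducedFunctor kInfLower (S : Subgroup G)).Normal ∨
      ¬ (inducedFunctor kInfUpper (S : Subgroup G)).Normal) :
    ∃ g, IsWitness p (S : Subgroup G) A g := by
  haveI := hA.normal
  haveI := LocalEvenA.pCore_normal' p G
  by_contra hcon
  push Not at hcon
  have hTS := pCore_le_sylow (p := p) S
  have hAS : A ≤ (S : Subgroup G) := hA.le.trans hTS
  have hlow : ∀ R : Subgroup G, R ≤ (S : Subgroup G) →
      A ∈ kLowerStarFamily R := fun R hR => ⟨hA.classTwo,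
    (by rw [normalizer_eq_top]; exact le_top),
    fun C hC hCR hAC h1 h2 => test_of_no_witness hA hcon hC (hCR.trans hR) hAC h1 h2⟩
  set f := (S : Subgroup G).subtype with hf
  have hfr : f.range = (S : Subgroup G) := range_subtype _
  have step : ∀ n, A ≤ (kSeqOdd ↥(S : Subgroup G) n).map f →
      (kSeqEven ↥(S : Subgroup G) n).map f ≤ pCore p G ∧
        (kSeqOdd ↥(S : Subgroup G) (n + 1)).map f ≤ pCore p G ∧
        A ≤ (kSeqOdd ↥(S : Subgroup G) (n + 1)).map f := by
    intro n hn
    have hE : (kSeqEven ↥(S : Subgroup G) n).map f ≤ pCore p G := by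
      rw [show kSeqEven ↥(S : Subgroup G) n = sSup (kLowerStarFamily (kSeqOdd _ n)) from rfl,
        lower_map f (subtype_injective _)]
      exact sSup_le fun B hB => lower_le_pCore hA hcon hB.1 (hfr ▸ hB.2) hn
    have hAE : A ≤ (kSeqEven ↥(S : Subgroup G) n).map f := by
      rw [show kSeqEven ↥(S : Subgroup G) n = sSup (kLowerStarFamily (kSeqOdd _ n)) from rfl,
        lower_map f (subtype_injective _)]
      exact le_sSup ⟨hlow _ (map_subtype_le _), hAS.trans hfr.ge⟩
    refine ⟨hE, ?_, ?_⟩ <;>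
      rw [show kSeqOdd ↥(S : Subgroup G) (n + 1) = sSup (kUpperStarFamily (kSeqEven _ n)) from rfl,
        upper_map f (subtype_injective _)]
    · exact sSup_le fun B hB => upper_le_pCore hA hcon hB.1 (hfr ▸ hB.2) hAE
    · refine le_sSup ⟨⟨hA.classTwo, ?_⟩, hAS.trans hfr.ge⟩
      rw [Subgroup.commutator_comm]
      exact (commutator_mono hE le_rfl).trans hA.comm
  have hAO : ∀ n, A ≤ (kSeqOdd ↥(S : Subgroup G) n).map f := by
    intro n
    induction n with
    | zero =>
      rw [show kSeqOdd ↥(S : Subgroup G) 0 = ⊤ from rfl, ← MonoidHom.range_eq_map, hfr]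
      exact hAS
    | succ n ih => exact (step n ih).2.2
  set i : ↥(pCore p G) →* ↥(S : Subgroup G) := Subgroup.inclusion hTS with hi
  have hir : i.range = (pCore p G).subgroupOf (S : Subgroup G) := Subgroup.inclusion_range hTS
  obtain ⟨e1, e2⟩ := kInf_map i (Subgroup.inclusion_injective hTS) fun n => by
    rw [hir]
    constructor
    · exact map_le_iff_le_comap.mp (step n (hAO n)).1
    · exact map_le_iff_le_comap.mp (step n (hAO n)).2.1
  have hchar := isCharPFunctor_kInf.{u} p
  have hfun : ∀ W : ∀ (Q : Type u) [Group Q], Subgroup Q, IsCharPFunctor.{u} p W →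
      (W ↥(pCore p G)).map i = W ↥(S : Subgroup G) →
      (inducedFunctor W (S : Subgroup G)).Normal := by
    intro W hW he
    have h1 : inducedFunctor W (S : Subgroup G) = inducedFunctor W (pCore p G) := by
      show (W ↥(S : Subgroup G)).map _ = (W ↥(pCore p G)).map _
      rw [← he, Subgroup.map_map]
      rfl
    rw [h1]
    refine normalizer_eq_top_iff.mp (top_le_iff.mp ?_)
    rw [← normalizer_eq_top (pCore p G)]
    exact normalizer_le_functor (isConjugacyFunctor_induced hW) (LocalEvenA.pCore_isPGroup' p G)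
  rcases hK with h | h
  · exact h (hfun _ hchar.1 e1)
  · exact h (hfun _ hchar.2 e2)

end main

end Cfsg.Agent.ConjFunctor
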