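import Cfsg.Agent.Lib.ConjFunctor.Chief
import Cfsg.Agent.Lib.ConjFunctor.Critical
import Mathlib.RingTheory.Nilpotent.Lemmas

/-!
# An element with `(g - 1)^(p-1) = 0` commutes with the abelian p'-groups it normalizes
-/

set_option autoImplicit false
set_option linter.style.haveILetI false
set_option linter.unusedSectionVars false

namespace Cfsg.Agent.ConjFunctor

open Finset
open scoped commutatorElement

section ring

variable {A : Type*} [Ring A] {p : ℕ} [hp : Fact p.Prime]

theorem pow_frobenius_fix {e : A} {m : ℕ} (hm : m.Coprime p) (he : e ^ m = 1) {k : ℕ}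
    (hk : Nat.totient m ∣ k) : e ^ p ^ k = e := by
  obtain ⟨c, rfl⟩ := hk
  have h1 : p ^ (Nat.totient m * c) ≡ 1 [MOD m] := by
    rw [pow_mul]
    simpa using (Nat.ModEq.pow_totient hm.symm).pow c
  have h2 := Nat.div_add_mod (p ^ (Nat.totient m * c)) m
  rw [← h2, h1, pow_add, pow_mul, he, one_pow, one_mul]
  rcases eq_or_ne m 1 with rfl | hm1
  · rw [pow_one] at he
    rw [he, one_pow]
  · rcases eq_or_ne m 0 with rfl | hm0
    · simp [Nat.coprime_zero_left, hp.out.one_lt.ne'] at hm
    · rw [Nat.mod_eq_of_lt (by omega : 1 < m), pow_one]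

/-- An element `g` with `(g - 1)^(p-1) = 0` commutes with every commutative set of elements of
order prime to `p` which is permuted by conjugation with `g`. -/
theorem commute_of_sub_one_pow_eq_zero (hchar : (p : A) = 0) (g : A)
    (hg : (g - 1) ^ (p - 1) = 0) {E : Set A} [Finite E]
    (hcomm : ∀ a ∈ E, ∀ b ∈ E, a * b = b * a)
    (hord : ∀ e ∈ E, ∃ m : ℕ, m.Coprime p ∧ e ^ m = 1)
    (hnorm : ∀ e ∈ E, g * e * g ^ (p - 1) ∈ E) : ∀ e ∈ E, g * e = e * g := by
  rcases subsingleton_or_nontrivial A with hA | hA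
  · exact fun e _ => Subsingleton.elim _ _
  haveI : CharP A p := ringChar.of_eq (CharP.ringChar_of_prime_eq_zero hp.out hchar)
  have hgp : g ^ p = 1 := by
    have h1 := sub_pow_char_of_commute (p := p) (Commute.one_right g)
    rw [one_pow, show (g - 1) ^ p = 0 by
      conv_lhs => rw [← Nat.sub_add_cancel hp.out.one_lt.le, pow_succ, hg, zero_mul]] at h1
    exact sub_eq_zero.mp h1.symm
  let R : Subring A := Subring.closure E
  letI : CommRing R := Subring.closureCommRingOfComm hcomm
  haveI : CharP R p := inferInstanceAs (CharP (Subring.closure E) p)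
  let σ : A →+* A :=
    { toFun := fun x => g * x * g ^ (p - 1)
      map_one' := by
        rw [mul_one, ← pow_succ', Nat.sub_add_cancel hp.out.one_lt.le, hgp]
      map_mul' := fun x y => by
        have h : g ^ (p - 1) * g = 1 := by
          rw [← pow_succ, Nat.sub_add_cancel hp.out.one_lt.le, hgp]
        calc g * (x * y) * g ^ (p - 1) = g * x * 1 * y * g ^ (p - 1) := by noncomm_ring
          _ = g * x * (g ^ (p - 1) * g) * y * g ^ (p - 1) := by rw [h]
          _ = _ := by noncomm_ring
      map_zero' := by simp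
      map_add' := fun x y => by rw [mul_add, add_mul] }
  have hσR : ∀ x ∈ R, σ x ∈ R := by
    have : R ≤ R.comap σ := Subring.closure_le.mpr fun e he => Subring.subset_closure (hnorm e he)
    exact fun x hx => this hx
  let τ : R →+* R := (σ.comp R.subtype).codRestrict R fun x => hσR x x.2
  have hτ : ∀ (i : ℕ) (x : R), ((τ^[i] x : R) : A) * g ^ i = g ^ i * x := by
    intro i x
    induction i with
    | zero => simp
    | succ i ih =>
      rw [Function.iterate_succ_apply', pow_succ' g i]
      show g * (τ^[i] x : R) * g ^ (p - 1) * (g * g ^ i) = _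
      calc g * (τ^[i] x : R) * g ^ (p - 1) * (g * g ^ i)
          = g * (τ^[i] x : R) * (g ^ (p - 1) * g) * g ^ i := by noncomm_ring
        _ = g * ((τ^[i] x : R) * g ^ i) := by
          rw [← pow_succ, Nat.sub_add_cancel hp.out.one_lt.le, hgp, mul_one, mul_assoc]
        _ = _ := by rw [ih, ← mul_assoc]
  have hsum : ∑ i ∈ range p, g ^ i = 0 := by
    have := sum_pow_add_one hp.out hchar (g - 1)
    rwa [sub_add_cancel, hg] at this
  -- elimination as in Dedekind's independence lemma
  have key : ∀ (r : R) (J : Finset ℕ),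
      ∑ i ∈ range p, ((∏ j ∈ J, (τ^[i] r - τ^[j] r) : R) : A) * g ^ i = 0 := by
    intro r J
    induction J using Finset.induction with
    | empty => simpa using hsum
    | @insert j J hj ih =>
      have h1 := congrArg (fun z => z * (r : A) - (τ^[j] r : R) * z) ih
      simp only [zero_mul, mul_zero, sub_zero, sum_mul, mul_sum, ← sum_sub_distrib] at h1
      refine Eq.trans (sum_congr rfl fun i _ => ?_) h1
      rw [prod_insert hj, mul_assoc _ (g ^ i) (r : A), ← hτ, ← mul_assoc, ← mul_assoc, ← sub_mul]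
      congr 1
      simp only [← Subring.coe_mul, ← AddSubgroupClass.coe_sub]
      congr 1
      ring
  have hprod : ∀ r : R, ∏ j ∈ Ioo 0 p, (r - τ^[j] r) = 0 := by
    intro r
    have h := key r (Ioo 0 p)
    rw [sum_eq_single 0 (fun i hi hi0 => ?_) (fun h => absurd (mem_range.mpr hp.out.pos) h)] at h
    · rw [pow_zero, mul_one, Function.iterate_zero_apply] at h
      exact Subtype.ext h
    · rw [prod_eq_zero (i := i) (mem_Ioo.mpr ⟨Nat.pos_of_ne_zero hi0, mem_range.mp hi⟩) (sub_self _)]
      simp
  have hper : ∀ x : R, τ^[p] x = x := by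
    intro x
    have h := hτ p x
    rw [hgp, mul_one, one_mul] at h
    exact Subtype.ext h
  have hperk : ∀ (k : ℕ) (x : R), τ^[p * k] x = x := by
    intro k x
    rw [Function.iterate_mul]
    exact Function.iterate_fixed (hper x) k
  -- the displacements are nilpotent
  have hnil : ∀ x : R, IsNilpotent (x - τ x) := by
    intro x
    rw [← mem_nilradical, nilradical_eq_sInf, Submodule.mem_sInf]
    intro P hP'
    haveI hP : Ideal.IsPrime P := hP'
    have hsome : ∀ r : R, ∃ j ∈ Ioo 0 p, r - τ^[j] r ∈ P := fun r => by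
      simpa [Ideal.IsPrime.prod_mem_iff] using (hprod r ▸ P.zero_mem :
        ∏ j ∈ Ioo 0 p, (r - τ^[j] r) ∈ P)
    clear hsum key
    -- `j` is invertible modulo `p`
    have hinv : ∀ j ∈ Ioo 0 p, ∃ k c : ℕ, j * k = p * c + 1 := by
      intro j hj
      rw [mem_Ioo] at hj
      obtain ⟨k, hk⟩ := Nat.exists_mul_mod_eq_one_of_coprime
        ((Nat.coprime_of_lt_prime hj.1.ne' hj.2 hp.out).symm) hp.out.one_lt
      refine ⟨k, j * k / p, ?_⟩
      have h3 := Nat.div_add_mod (j * k) p
      first
        | omega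
        | (rw [mul_comm j k] at *; omega)
    by_cases hst : ∀ a ∈ P, τ a ∈ P
    · obtain ⟨j, hj, hx⟩ := hsome x
      obtain ⟨k, c, hk⟩ := hinv j hj
      have hst' : ∀ (n : ℕ), ∀ a ∈ P, τ^[n] a ∈ P := by
        intro n
        induction n with
        | zero => exact fun a ha => ha
        | succ n ih =>
          intro a ha
          rw [Function.iterate_succ_apply']
          exact hst _ (ih a ha)
      have : ∀ n, x - τ^[j * n] x ∈ P := by
        intro n
        induction n with
        | zero => simp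
        | succ n ih =>
          have h1 := hst' (j * n) _ hx
          rw [iterate_map_sub] at h1
          rw [Nat.mul_succ, Function.iterate_add_apply]
          simpa using P.add_mem ih h1
      have h1 := this k
      rwa [hk, add_comm, Function.iterate_add_apply, hperk, Function.iterate_one] at h1
    · exfalso
      -- each `τ^j`, `0 < j < p`, moves the prime
      have hmove : ∀ j ∈ Ioo 0 p, ∃ a : R, τ^[j] a ∈ P ∧ a ∉ P := by
        intro j hj
        obtain ⟨k, c, hk⟩ := hinv j hj
        by_contra hcon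
        push Not at hcon
        have hback : ∀ n, ∀ a, τ^[j * n] a ∈ P → a ∈ P := by
          intro n
          induction n with
          | zero => exact fun a ha => ha
          | succ n ih =>
            intro a ha
            rw [Nat.mul_succ, Function.iterate_add_apply] at ha
            exact hcon a (ih _ ha)
        apply hst
        intro a ha
        refine hback (k * (p - 1)) (τ a) ?_
        have e : j * (k * (p - 1)) + 1 = p * (c * (p - 1) + 1) := by
          have := Nat.sub_add_cancel hp.out.one_lt.le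
          rw [← mul_assoc, hk]
          generalize p - 1 = q at *
          subst this
          ring
        rw [← Function.iterate_succ_apply τ, Nat.succ_eq_add_one, e, hperk]
        exact ha
      choose! a ha using hmove
      set r : R := ∏ j ∈ Ioo 0 p, a j
      obtain ⟨j, hj, hjP⟩ := hsome r
      have h1 : τ^[j] r ∈ P := by
        rw [← RingHom.coe_pow, map_prod, RingHom.coe_pow]
        exact Ideal.IsPrime.prod_mem_iff.mpr ⟨j, hj, (ha j hj).1⟩
      have h2 : r ∈ P := by simpa using P.add_mem hjP h1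
      obtain ⟨i, hi, hiP⟩ := Ideal.IsPrime.prod_mem_iff.mp h2
      exact (ha i hi).2 hiP
  intro e he
  choose! m hm using hord
  haveI : Fintype E := Fintype.ofFinite E
  set N : ℕ := ∏ a : E, Nat.totient (m a)
  have hN : 0 < N := prod_pos fun a _ => Nat.totient_pos.mpr (Nat.pos_of_ne_zero fun h0 => by
    have := (hm a a.2).1
    simp [h0, Nat.coprime_zero_left, hp.out.one_lt.ne'] at this)
  have hfix : ∀ x : R, x ^ p ^ N = x := by
    have hle : R ≤ (RingHom.eqLocus (iterateFrobenius R p N) (RingHom.id R)).map R.subtype := by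
      refine Subring.closure_le.mpr fun a ha => ⟨⟨a, Subring.subset_closure ha⟩, ?_, rfl⟩
      show (⟨a, Subring.subset_closure ha⟩ : R) ^ p ^ N = _
      exact Subtype.ext (pow_frobenius_fix (hm a ha).1 (hm a ha).2
        (dvd_prod_of_mem (fun b : E => Nat.totient (m b)) (mem_univ ⟨a, ha⟩)))
    intro x
    obtain ⟨y, hy, hyx⟩ := hle x.2
    rw [← Subtype.ext (hyx : (y : A) = x)]
    exact hy
  obtain ⟨n, hn⟩ := hnil ⟨e, Subring.subset_closure he⟩
  have hz : ∀ (y : R) (n : ℕ), y ^ (p ^ N) ^ n = y := by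
    intro y n
    induction n with
    | zero => simp
    | succ n ih => rw [pow_succ, pow_mul, ih, hfix]
  have h0 : (⟨e, Subring.subset_closure he⟩ : R) - τ ⟨e, Subring.subset_closure he⟩ = 0 := by
    rw [← hz (⟨e, Subring.subset_closure he⟩ - τ ⟨e, Subring.subset_closure he⟩) n]
    exact pow_eq_zero_of_le (Nat.le_of_lt (Nat.lt_pow_self (Nat.one_lt_pow hN.ne' hp.out.one_lt))) hn
  have h3 := hτ 1 ⟨e, Subring.subset_closure he⟩
  rw [Function.iterate_one, ← sub_eq_zero.mp h0, pow_one] at h3
  exact h3.symm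

end ring

section chief

open Subgroup Cfsg

variable {X : Type*} [Group X] [Finite X] {p : ℕ} [hp : Fact p.Prime] {U V : Subgroup X}

set_option maxHeartbeats 1600000 in
/-- On a chief factor an element with `(g - 1)^(p-1) = 0` commutes with the abelian groups of
automorphisms of order prime to `p` it normalizes. -/
theorem factor_commute [V.Normal] (h : IsChiefFactor U V) (hU : IsPGroup p U) {g : X}
    (hg : ∀ u ∈ U, (del g)^[p - 1] u ∈ V) {M : Subgroup X} [M.Normal]
    (hM : ⁅M, M⁆ ≤ factorKer U V)
    (hMo : ∀ m ∈ M, ∃ n : ℕ, n.Coprime p ∧ m ^ n ∈ factorKer U V) :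
    ∀ m ∈ M, ⁅g, m⁆ ∈ factorKer U V := by
  haveI := h.2.1
  haveI : IsMulCommutative (↥U ⧸ V.subgroupOf U) := by
    refine Normal.quotient_commutative_iff_commutator_le.mpr ?_
    rw [← map_le_map_iff_of_injective U.subtype_injective, map_subtype_commutator,
      subgroupOf_map_subtype]
    exact le_inf (chief_commutator_self h hU) (commutator_le_self _)
  open scoped IsMulCommutative in
  letI : CommGroup (↥U ⧸ V.subgroupOf U) := inferInstance
  let mk : ↥U → Additive (↥U ⧸ V.subgroupOf U) := fun a => Additive.ofMul (QuotientGroup.mk a)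
  have hmk : Function.Surjective mk := fun y => QuotientGroup.mk_surjective (Additive.toMul y)
  have hcmap : ∀ x : X, V.subgroupOf U ≤
      (V.subgroupOf U).comap (MulAut.conjNormal (H := U) x).toMonoidHom := fun x v hv => by
    rw [mem_comap, mem_subgroupOf]
    show ((MulAut.conjNormal x v : ↥U) : X) ∈ V
    rw [MulAut.conjNormal_apply]
    exact ‹V.Normal›.conj_mem _ (mem_subgroupOf.mp hv) x
  let Φ : X → AddMonoid.End (Additive (↥U ⧸ V.subgroupOf U)) := fun x =>
    MonoidHom.toAdditive (QuotientGroup.map _ _ (MulAut.conjNormal x).toMonoidHom (hcmap x))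
  have hΦapp : ∀ x a, Φ x (mk a) = mk (MulAut.conjNormal x a) := fun x a => rfl
  have hΦmul : ∀ x y, Φ (x * y) = Φ x * Φ y := fun x y => by
    ext z
    obtain ⟨a, rfl⟩ := hmk z
    rw [AddMonoid.End.coe_mul, Function.comp_apply, hΦapp, hΦapp, hΦapp, map_mul]
    rfl
  have hΦone : Φ 1 = 1 := by
    ext z
    obtain ⟨a, rfl⟩ := hmk z
    rw [hΦapp, map_one]
    rfl
  let Ψ : X →* AddMonoid.End (Additive (↥U ⧸ V.subgroupOf U)) :=
    { toFun := Φ, map_one' := hΦone, map_mul' := hΦmul }
  have hker : ∀ x, Ψ x = 1 ↔ x ∈ factorKer U V := by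
    intro x
    rw [mem_factorKer]
    constructor
    · intro hx u hu
      have h1 : mk (MulAut.conjNormal x ⟨u, hu⟩) = mk ⟨u, hu⟩ :=
        DFunLike.congr_fun (show Φ x = 1 from hx) (mk ⟨u, hu⟩)
      have h2 := mem_subgroupOf.mp (QuotientGroup.eq.mp (Additive.ofMul.injective h1))
      simp only [Subgroup.coe_mul, Subgroup.coe_inv, MulAut.conjNormal_apply] at h2
      have h3 := inv_mem (‹V.Normal›.conj_mem _ h2 u)
      simpa [commutatorElement_def, mul_assoc] using h3
    · intro hx
      ext z
      obtain ⟨a, rfl⟩ := hmk z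
      show mk (MulAut.conjNormal x a) = mk a
      refine congrArg Additive.ofMul (QuotientGroup.eq.mpr (mem_subgroupOf.mpr ?_))
      simp only [Subgroup.coe_mul, Subgroup.coe_inv, MulAut.conjNormal_apply]
      have h3 := ‹V.Normal›.conj_mem _ (inv_mem (hx a a.2)) (a : X)⁻¹
      simpa [commutatorElement_def, mul_assoc] using h3
  have hchar : ((p : ℕ) : AddMonoid.End (Additive (↥U ⧸ V.subgroupOf U))) = 0 := by
    ext y
    obtain ⟨a, rfl⟩ := hmk y
    show p • mk a = 0
    rw [← ofMul_pow, ← QuotientGroup.mk_pow]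
    exact congrArg Additive.ofMul ((QuotientGroup.eq_one_iff _).mpr
      (mem_subgroupOf.mpr (chief_pow_mem h hU a.2)))
  have hδ : ∀ (n : ℕ) (a : ↥U), ((Ψ g - 1) ^ n) (mk a) =
      mk ⟨(del g)^[n] a, iterate_del_mem g a.2 n⟩ := by
    intro n
    induction n with
    | zero => intro a; simp [AddMonoid.End.coe_one]
    | succ n ih =>
      intro a
      rw [pow_succ', AddMonoid.End.coe_mul, Function.comp_apply, ih]
      show mk (MulAut.conjNormal g _) - mk _ = _
      rw [sub_eq_add_neg, ← ofMul_inv, ← ofMul_mul, ← QuotientGroup.mk_inv,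
        ← QuotientGroup.mk_mul]
      refine congrArg (fun b : ↥U => Additive.ofMul (QuotientGroup.mk b)) (Subtype.ext ?_)
      simp [Function.iterate_succ_apply', del]
  have hzero : (Ψ g - 1) ^ (p - 1) = 0 := by
    ext y
    obtain ⟨a, rfl⟩ := hmk y
    rw [hδ]
    exact congrArg Additive.ofMul ((QuotientGroup.eq_one_iff _).mpr
      (mem_subgroupOf.mpr (hg a a.2)))
  have hgp : Ψ g ^ (p - 1) * Ψ g = 1 := by
    rcases subsingleton_or_nontrivial (AddMonoid.End (Additive (↥U ⧸ V.subgroupOf U))) with hA | hA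
    · exact Subsingleton.elim _ _
    haveI : CharP (AddMonoid.End (Additive (↥U ⧸ V.subgroupOf U))) p :=
      ringChar.of_eq (CharP.ringChar_of_prime_eq_zero hp.out hchar)
    have h1 := sub_pow_char_of_commute (p := p) (Commute.one_right (Ψ g))
    rw [one_pow, show (Ψ g - 1) ^ p = 0 by
      conv_lhs => rw [← Nat.sub_add_cancel hp.out.one_lt.le, pow_succ, hzero, zero_mul]] at h1
    rw [← pow_succ, Nat.sub_add_cancel hp.out.one_lt.le]
    exact sub_eq_zero.mp h1.symm
  haveI : Finite (Ψ '' (M : Set X)) := (Set.toFinite _).to_subtype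
  have hmain := commute_of_sub_one_pow_eq_zero hchar (Ψ g) hzero (E := Ψ '' (M : Set X)) ?_ ?_ ?_
  · intro m hm
    rw [← hker, commutatorElement_def, map_mul, map_mul, map_mul, hmain _ ⟨m, hm, rfl⟩,
      mul_assoc (Ψ m) (Ψ g), ← map_mul Ψ g, mul_inv_cancel, map_one, mul_one, ← map_mul,
      mul_inv_cancel, map_one]
  · rintro _ ⟨a, ha, rfl⟩ _ ⟨b, hb, rfl⟩
    have h1 := (hker _).mpr (hM (commutator_mem_commutator ha hb))
    rw [← map_mul, ← map_mul, show a * b = ⁅a, b⁆ * (b * a) by simp [commutatorElement_def, mul_assoc],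
      map_mul, h1, one_mul]
  · rintro _ ⟨a, ha, rfl⟩
    obtain ⟨n, hn, hn'⟩ := hMo a ha
    exact ⟨n, hn, by rw [← map_pow]; exact (hker _).mpr hn'⟩
  · rintro _ ⟨a, ha, rfl⟩
    refine ⟨g * a * g⁻¹, ‹M.Normal›.conj_mem a ha g, ?_⟩
    have h1 : Ψ g⁻¹ = Ψ g ^ (p - 1) := by
      calc Ψ g⁻¹ = Ψ g ^ (p - 1) * Ψ g * Ψ g⁻¹ := by rw [hgp, one_mul]
        _ = _ := by rw [mul_assoc, ← map_mul, mul_inv_cancel, map_one, mul_one]
    rw [map_mul, map_mul, h1]

end chief

end Cfsg.Agent.ConjFunctor
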