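import Cfsg.Agent.Lib.ConjFunctor.Sections

/-!
# Reduction of control of strong fusion to constrained groups
-/

set_option autoImplicit false
set_option linter.style.haveILetI false
set_option linter.unusedSectionVars false
set_option linter.unusedVariables false

namespace Cfsg.Agent.ConjFunctor

open Subgroup
open scoped Pointwise

universe u

theorem Chain.mono_group {G : Type*} [Group G] {𝒲 : Set (Subgroup G → Subgroup G)}
    {H H' T : Subgroup G} (hH : H ≤ H') {A : Set G} {c : G} (h : Chain 𝒲 H T A c) :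
    Chain 𝒲 H' T A c := by
  induction h with
  | one => exact .one
  | step _ hW hx hc ih => exact .step ih hW ⟨hH hx.1, hx.2⟩ hc

theorem Reach.mono_group {G : Type*} [Group G] {𝒲 : Set (Subgroup G → Subgroup G)}
    {H H' T : Subgroup G} (hH : H ≤ H') {A : Set G} {g : G} (h : Reach 𝒲 H T A g) :
    Reach 𝒲 H' T A g := by
  obtain ⟨c, hc, e⟩ := h
  exact ⟨c, hc.mono_group hH, e⟩

variable {X : Type u} [Group X] [Finite X] {p : ℕ} [hp : Fact p.Prime]
  {𝒲 : Set (∀ (Q : Type u) [Group Q], Subgroup Q)}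

/-- Control of fusion at a chosen Sylow subgroup of a proper subgroup. -/
theorem fusion_move_sub (h𝒲 : ∀ W ∈ 𝒲, Cfsg.IsCharPFunctor.{u} p W) {M T : Subgroup X}
    (hT : IsSylIn p T M) (h : Cfsg.FamilyControlsStrongFusionIn p (indFam 𝒲 ↥M) ⊤) :
    FusionAt (indFam 𝒲 X) M T := by
  obtain ⟨T₀, hT₀, h₀⟩ := at_of_familyFusion h
  have h1 := h₀.map h𝒲 M.subtype M.subtype_injective hT₀.2.1
  have h2 := isSylIn_map_injective M.subtype M.subtype_injective hT₀
  rw [← MonoidHom.range_eq_map, range_subtype] at h1 h2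
  exact h1.move (isConjugacyFunctor_indFam h𝒲) h2 hT

/-- Passing up through a quotient by a normal `p'`-subgroup. -/
theorem fusion_of_quotient (h𝒲 : ∀ W ∈ 𝒲, Cfsg.IsCharPFunctor.{u} p W) (S : Sylow p X)
    (R : Subgroup X) [R.Normal] (hR : (Nat.card R).Coprime p)
    (hquot : Cfsg.FamilyControlsStrongFusionIn p (indFam 𝒲 (X ⧸ R)) ⊤) :
    FusionAt (indFam 𝒲 X) ⊤ (S : Subgroup X) := by
  set q := QuotientGroup.mk' R
  have hq : Function.Surjective q := QuotientGroup.mk'_surjective _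
  let S' : Sylow p (X ⧸ R) := S.mapSurjective hq
  have hS' : (S' : Subgroup (X ⧸ R)) = (S : Subgroup X).map q := Sylow.coe_mapSurjective hq S
  obtain ⟨T₀, hT₀, h₀⟩ := at_of_familyFusion hquot
  have hctl := h₀.move (isConjugacyFunctor_indFam h𝒲) hT₀ (isSylIn_top S')
  have hinj : Set.InjOn q ((S : Subgroup X) : Set X) := injOn_mk'_of_coprime hR S.2
  intro A g _ hA hgA
  obtain ⟨c', hc', e'⟩ := hctl (q '' A) (q g) trivial
    (by rw [hS']; exact Set.image_mono hA)
    (by
      rintro _ ⟨_, ⟨a, ha, rfl⟩, rfl⟩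
      rw [hS']
      exact ⟨g * a * g⁻¹, hgA ⟨a, ha, rfl⟩, by simp⟩)
  suffices key : ∀ d, Chain (indFam 𝒲 (X ⧸ R)) ⊤ (S' : Subgroup (X ⧸ R)) (q '' A) d →
      ∃ c, q c = d ∧ Chain (indFam 𝒲 X) ⊤ (S : Subgroup X) A c by
    obtain ⟨c, rfl, hc⟩ := key c' hc'
    refine ⟨c, hc, fun a ha => hinj (hc.image_subset hA ⟨a, ha, rfl⟩) (hgA ⟨a, ha, rfl⟩) ?_⟩
    have := e' (q a) ⟨a, ha, rfl⟩
    simpa [q] using this
  clear hc' e' hgA
  intro d hd
  induction hd with
  | one => exact ⟨1, map_one q, .one⟩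
  | @step d x W' _ hW hx hxd ih =>
    obtain ⟨c, rfl, hc⟩ := ih
    obtain ⟨W, hW, rfl⟩ := hW
    set N := normalizer ((Cfsg.inducedFunctor W (S : Subgroup X) : Subgroup X) : Set X)
    have hxN : x ∈ N.map q := by
      have := hx.2
      simp only at this
      rwa [hS', inducedFunctor_map (h𝒲 W hW) q _ S.2 hinj,
        ← map_normalizer_mk' hR (S.2.to_le (inducedFunctor_le _))] at this
    obtain ⟨x₀, hx₀, rfl⟩ := hxN
    have hSN : (S : Subgroup X) ≤ N :=
      self_le_normalizer_functor (isConjugacyFunctor_induced (h𝒲 W hW)) S.2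
    set K := closure (cS (x₀ * c) A) with hK
    have hKN : K ≤ N := by
      rw [hK, closure_le, cS_mul]
      rintro _ ⟨b, hb, rfl⟩
      exact N.mul_mem (N.mul_mem hx₀ (hSN (hc.image_subset hA hb))) (N.inv_mem hx₀)
    have hKR : K ≤ (S : Subgroup X) ⊔ R := by
      rw [hK, closure_le]
      rintro _ ⟨a, ha, rfl⟩
      have h1 : q (x₀ * c * a * (x₀ * c)⁻¹) ∈ (S' : Subgroup (X ⧸ R)) := by
        have := hxd ⟨q a, ⟨a, ha, rfl⟩, rfl⟩
        simp at this ⊢
        exact this
      rw [hS', ← mem_comap, comap_map_eq, QuotientGroup.ker_mk'] at h1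
      exact h1
    have hKp : IsPGroup p K := by
      have h1 : K ≤ cj (x₀ * c) (S : Subgroup X) := by
        rw [hK, closure_le, coe_cj]
        exact mem_cS_mono hA
      exact (cj_isPGroup _ S.2).to_le h1
    obtain ⟨h, hh, hle⟩ := exists_conj_le_of_isSylIn
      (isSylIn_of_le (isSylIn_top S) (le_inf (le_sup_left : (S : Subgroup X) ≤ _ ⊔ R) hSN) le_top)
      (le_inf hKR hKN) hKp
    obtain ⟨hh1, hhN⟩ := hh
    obtain ⟨s, hs, r, hr, rfl⟩ := Subgroup.mem_sup_of_normal_right.mp hh1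
    have hrN : r ∈ N := by
      have := N.mul_mem (N.inv_mem (hSN hs)) hhN
      rwa [inv_mul_cancel_left] at this
    have hqr : q r = 1 := (QuotientGroup.eq_one_iff r).mpr hr
    refine ⟨r * x₀ * c, by rw [map_mul, map_mul, hqr, one_mul], ?_⟩
    refine .step (W := Cfsg.inducedFunctor W) hc ⟨W, hW, rfl⟩ ⟨trivial, N.mul_mem hrN hx₀⟩ ?_
    rintro _ ⟨a, ha, rfl⟩
    have h1 : s * r * (x₀ * c * a * (x₀ * c)⁻¹) * (s * r)⁻¹ ∈ (S : Subgroup X) :=
      hle (conj_mem_cj (subset_closure ⟨a, ha, rfl⟩))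
    have h2 := (S : Subgroup X).mul_mem ((S : Subgroup X).mul_mem ((S : Subgroup X).inv_mem hs) h1) hs
    show r * x₀ * c * a * (r * x₀ * c)⁻¹ ∈ (S : Subgroup X)
    simpa [mul_assoc] using h2

/-- Elements of `E` whose `p'`-parts centralize `U` factor through a Sylow subgroup. -/
theorem le_sup_of_coprime_le {E Z P : Subgroup X} (hZ : Z ≤ E) (hP : IsSylIn p P E)
    (h : ∀ y ∈ E, (orderOf y).Coprime p → y ∈ Z) : E ≤ Z ⊔ P := by
  rw [← relIndex_eq_one]
  by_contra hne
  obtain ⟨r, hr, hrd⟩ := Nat.exists_prime_and_dvd hne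
  haveI := Fact.mk hr
  rcases eq_or_ne r p with hrp | hrp
  · exact hP.2.2 (hrp ▸ hrd.trans (relIndex_dvd_of_le_left E le_sup_right))
  · obtain ⟨V, hV⟩ := exists_isSylIn (p := r) E
    have hVle : V ≤ Z ⊔ P := by
      intro v hv
      refine mem_sup_left (h v (hV.1 hv) ?_)
      obtain ⟨k, hk⟩ := (IsPGroup.iff_orderOf.mp hV.2.1) ⟨v, hv⟩
      rw [orderOf_mk] at hk
      rw [hk]
      exact Nat.Coprime.pow_left k ((Nat.coprime_primes hr hp.out).mpr hrp)
    exact hV.2.2 (hrd.trans (relIndex_dvd_of_le_left E hVle))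

/-- An element centralizing `Q` and `U Q / Q`, of order prime to `p`, centralizes `U`. -/
theorem comm_of_coprime_of_fixed {y u : X} (hy : (orderOf y).Coprime p) {Q : Subgroup X}
    (hQ : IsPGroup p Q) (hyQ : ∀ w ∈ Q, y * w = w * y)
    (hu : u⁻¹ * (y * u * y⁻¹) ∈ Q) : y * u = u * y := by
  set w := u⁻¹ * (y * u * y⁻¹) with hw
  have h1 : y * u * y⁻¹ = u * w := by rw [hw, mul_inv_cancel_left]
  have h2 : ∀ k : ℕ, y ^ k * u * (y ^ k)⁻¹ = u * w ^ k := by
    intro k
    induction k with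
    | zero => simp
    | succ k ih =>
      have h3 : y * w ^ k * y⁻¹ = w ^ k := by
        rw [hyQ _ (Q.pow_mem hu k), mul_inv_cancel_right]
      calc y ^ (k + 1) * u * (y ^ (k + 1))⁻¹ = y * (y ^ k * u * (y ^ k)⁻¹) * y⁻¹ := by
            rw [pow_succ']; group
        _ = (y * u * y⁻¹) * (y * w ^ k * y⁻¹) := by rw [ih]; group
        _ = u * w ^ (k + 1) := by rw [h1, h3, mul_assoc, ← pow_succ']
  have h4 := h2 (orderOf y)
  rw [pow_orderOf_eq_one] at h4
  have h5 : w ^ orderOf y = 1 := by simpa using h4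
  obtain ⟨k, hk⟩ := hQ ⟨w, hu⟩
  have h6 : w = 1 := Components.eq_one_of_pow_prime_pow_of_coprime hy
    (by simpa using congrArg Subtype.val hk) h5
  rw [h6, mul_one] at h1
  exact mul_inv_eq_iff_eq_mul.mp h1

/-- The step: control in proper subgroups and proper quotients, and in `X` if it is constrained,
gives control in `X`. -/
theorem fusion_step (h𝒲 : ∀ W ∈ 𝒲, Cfsg.IsCharPFunctor.{u} p W) (S : Sylow p X)
    (hsub : ∀ M : Subgroup X, M ≠ ⊤ → Cfsg.FamilyControlsStrongFusionIn p (indFam 𝒲 ↥M) ⊤)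
    (hquot : ∀ (N : Subgroup X) [N.Normal], N ≠ ⊥ →
      ((Nat.card N).Coprime p ∨ (N = Cfsg.pCore p X ∧
        centralizer ((Cfsg.pCore p X : Subgroup X) : Set X) ⊔ (S : Subgroup X) = ⊤)) →
      Cfsg.FamilyControlsStrongFusionIn p (indFam 𝒲 (X ⧸ N)) ⊤)
    (hcon : centralizer ((Cfsg.pCore p X : Subgroup X) : Set X) ≤ Cfsg.pCore p X →
      FusionAt (indFam 𝒲 X) ⊤ (S : Subgroup X)) :
    FusionAt (indFam 𝒲 X) ⊤ (S : Subgroup X) := by
  haveI := LocalEvenA.pCore_normal' p X
  set Q := Cfsg.pCore p X with hQdef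
  set C := centralizer ((Q : Subgroup X) : Set X) with hCdef
  by_cases hST : (S : Subgroup X) = ⊤
  · refine hcon (le_trans le_top (LocalEvenA.le_pCore_of_normal inferInstance ?_))
    exact hST ▸ S.2
  by_cases hQ : Q = ⊥
  · refine fusion_of_locals S (isConjugacyFunctor_indFam h𝒲) fun T hT hfn => ?_
    refine fusion_move_sub h𝒲 (hfn.sylIn S.2) (hsub _ fun h => hT ?_)
    exact le_bot_iff.mp (hQ ▸ le_pCore_of_normalizer (S.2.to_le hfn.1) h)
  set U₀ := (S : Subgroup X) ⊓ (Q ⊔ C) with hU₀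
  set N₀ := normalizer (U₀ : Set X) with hN₀
  by_cases hN : N₀ = ⊤
  · obtain ⟨R, hRn, hRc, hR0⟩ := exists_pPrime_part S hN
    by_cases hR : R = ⊥
    · exact hcon (hR0 hR)
    · haveI := hRn
      exact fusion_of_quotient h𝒲 S R hRc (hquot R hR (Or.inl hRc))
  have hSN : (S : Subgroup X) ≤ N₀ := by
    intro s hs
    refine mem_normalizer_iff.mpr fun x => ?_
    rw [hU₀, mem_inf, mem_inf]
    refine and_congr (mem_normalizer_iff.mp (le_normalizer hs) x) ?_
    exact mem_normalizer_iff.mp (by rw [normalizer_eq_top]; trivial) x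
  have hsubS : ∀ M : Subgroup X, M ≠ ⊤ → (S : Subgroup X) ≤ M → ∀ (B : Set X) (x : X),
      x ∈ M → B ⊆ (S : Subgroup X) → cS x B ⊆ (S : Subgroup X) →
      Reach (indFam 𝒲 X) ⊤ (S : Subgroup X) B x := fun M hM hSM B x hx hB hxB =>
    (fusion_move_sub h𝒲 (isSylIn_of_le (isSylIn_top S) hSM le_top) (hsub M hM)
      B x hx hB hxB).mono_group le_top
  intro A g _ hA hgA
  by_cases hL : C ⊔ (S : Subgroup X) = ⊤
  swap
  · -- both `C ⊔ S` and `N₀` are proper
    have hg : g ∈ (C : Set X) * (N₀ : Set X) := by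
      rw [← normal_mul, centralizer_sup_normalizer S]
      trivial
    obtain ⟨c, hc, n, hn, rfl⟩ := Set.mem_mul.mp hg
    have hn1 : cj n (S : Subgroup X) ≤ N₀ := by
      have := cj_le_cj (g := n) |>.mpr hSN
      rwa [cj_eq_of_mem (H := N₀) hn] at this
    obtain ⟨m, hm, hle⟩ := exists_conj_le_of_isSylIn
      (isSylIn_of_le (isSylIn_top S) hSN le_top) hn1 (cj_isPGroup n S.2)
    have hkS : cS (m * n) A ⊆ (S : Subgroup X) := by
      refine (mem_cS_mono hA).trans ?_
      rw [← coe_cj, cj_mul]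
      exact hle
    set c' := m * c * m⁻¹ with hc'
    have hc'C : c' ∈ C := ‹Q.Normal› |> fun _ => (inferInstance : C.Normal).conj_mem c hc m
    set L := C ⊔ (S : Subgroup X) with hLdef
    set P := closure (cS c' (cS (m * n) A)) with hP
    have heq : cS c' (cS (m * n) A) = cS m (cS (c * n) A) := by
      rw [← cS_mul, ← cS_mul]
      congr 1
      rw [hc']; group
    have hPle : P ≤ L ⊓ N₀ := by
      rw [hP, closure_le]
      intro x hx
      refine ⟨?_, ?_⟩
      · obtain ⟨b, hb, rfl⟩ := hx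
        exact L.mul_mem (L.mul_mem (mem_sup_left hc'C) (mem_sup_right (hkS hb)))
          (L.inv_mem (mem_sup_left hc'C))
      · rw [heq] at hx
        obtain ⟨b, hb, rfl⟩ := hx
        exact N₀.mul_mem (N₀.mul_mem hm (hSN (hgA hb))) (N₀.inv_mem hm)
    have hPp : IsPGroup p P := by
      refine (cj_isPGroup m S.2).to_le ?_
      rw [hP, closure_le, heq, coe_cj]
      exact mem_cS_mono hgA
    obtain ⟨m', hm', hle'⟩ := exists_conj_le_of_isSylIn
      (isSylIn_of_le (isSylIn_top S) (le_inf (le_sup_right : (S : Subgroup X) ≤ L) hSN) le_top)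
      hPle hPp
    have h2 : cS (m' * c') (cS (m * n) A) ⊆ (S : Subgroup X) := by
      rw [cS_mul m' c']
      rintro _ ⟨x, hx, rfl⟩
      exact hle' (conj_mem_cj (Subgroup.subset_closure hx))
    have r₁ := hsubS N₀ hN hSN A (m * n) (N₀.mul_mem hm hn) hA hkS
    have r₂ := hsubS L hL le_sup_right _ (m' * c')
      (L.mul_mem hm'.1 (mem_sup_left hc'C)) hkS h2
    have e1 : (m' * m)⁻¹ * (m' * c' * (m * n)) = c * n := by rw [hc']; group
    have r₃ := hsubS N₀ hN hSN (cS (m' * c' * (m * n)) A) (m' * m)⁻¹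
      (N₀.inv_mem (N₀.mul_mem hm'.2 hm)) (by rw [cS_mul]; exact h2)
      (by rw [← cS_mul, e1]; exact hgA)
    have := (r₁.mul r₂).mul r₃
    rwa [e1] at this
  -- `X = C S`
  have hQS : Q ≤ (S : Subgroup X) := pCore_le_sylow S
  have hSQ : (S : Subgroup X) ≠ Q := by
    intro h
    apply hN
    rw [hN₀, hU₀, inf_eq_left.mpr (le_of_eq_of_le h le_sup_left), h, normalizer_eq_top]
  set q := QuotientGroup.mk' Q with hqdef
  have hq : Function.Surjective q := QuotientGroup.mk'_surjective _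
  let S' : Sylow p (X ⧸ Q) := S.mapSurjective hq
  have hS' : (S' : Subgroup (X ⧸ Q)) = (S : Subgroup X).map q := Sylow.coe_mapSurjective hq S
  have hcomap : ((S : Subgroup X).map q).comap q = (S : Subgroup X) := by
    rw [comap_map_eq, QuotientGroup.ker_mk', sup_eq_left.mpr hQS]
  have hctl : FusionAt (indFam 𝒲 (X ⧸ Q)) ⊤ (S' : Subgroup (X ⧸ Q)) := by
    obtain ⟨T₀, hT₀, h₀⟩ := at_of_familyFusion (hquot Q hQ (Or.inr ⟨rfl, hL⟩))
    exact h₀.move (isConjugacyFunctor_indFam h𝒲) hT₀ (isSylIn_top S')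
  -- lifting a chain from the quotient
  have lift : ∀ (B : Set X), B ⊆ (S : Subgroup X) → ∀ d,
      Chain (indFam 𝒲 (X ⧸ Q)) ⊤ (S' : Subgroup (X ⧸ Q)) (q '' B) d →
      ∃ c, q c = d ∧ cS c B ⊆ (S : Subgroup X) ∧
        Reach (indFam 𝒲 X) ⊤ (S : Subgroup X) B c := by
    intro B hB d hd
    induction hd with
    | one => exact ⟨1, map_one q, by simpa using hB, Reach.one⟩
    | @step d x W' _ hW hx hxd ih =>
      obtain ⟨c, rfl, hcB, hc⟩ := ih
      obtain ⟨W, hW, rfl⟩ := hW
      set V := Cfsg.inducedFunctor W ((S : Subgroup X).map q) with hV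
      set M := (normalizer (V : Set (X ⧸ Q))).comap q with hMdef
      have hxV : x ∈ normalizer (V : Set (X ⧸ Q)) := by
        have := hx.2
        simp only at this
        rwa [hS'] at this
      obtain ⟨x₀, rfl⟩ := hq x
      have hS1 : (S : Subgroup X).map q ≠ ⊥ := by
        rw [Ne, Subgroup.map_eq_bot_iff, QuotientGroup.ker_mk']
        exact fun h => hSQ (le_antisymm h hQS)
      have hM : M ≠ ⊤ := by
        intro hM
        refine functor_ne_bot (isConjugacyFunctor_induced (h𝒲 W hW)) (S.2.map q) hS1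
          (le_bot_iff.mp ?_)
        rw [← pCore_quotient_pCore (X := X) (p := p)]
        refine le_pCore_of_normalizer ((S.2.map q).to_le (inducedFunctor_le _)) ?_
        rw [← map_comap_eq_self_of_surjective hq (normalizer _), ← hV, ← hMdef, hM,
          map_top_of_surjective q hq]
      have hSM : (S : Subgroup X) ≤ M := fun s hs =>
        self_le_normalizer_functor (isConjugacyFunctor_induced (h𝒲 W hW)) (S.2.map q)
          (mem_map_of_mem q hs)
      have h2 : cS (x₀ * c) B ⊆ (S : Subgroup X) := by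
        rintro _ ⟨b, hb, rfl⟩
        rw [SetLike.mem_coe, ← hcomap, mem_comap, ← hS']
        have := hxd ⟨q b, ⟨b, hb, rfl⟩, rfl⟩
        simp at this ⊢
        exact this
      refine ⟨x₀ * c, map_mul q _ _, h2, hc.mul ?_⟩
      exact hsubS M hM hSM _ x₀ hxV hcB (by rwa [← cS_mul])
  suffices H : ∀ n, ∀ P : Subgroup X, Q ≤ P → P ≤ (S : Subgroup X) →
      Nat.card (S : Subgroup X) ≤ Nat.card P + n → ∀ g : X, cj g P ≤ (S : Subgroup X) →
      Reach (indFam 𝒲 X) ⊤ (S : Subgroup X) (P : Set X) g by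
    refine (H (Nat.card (S : Subgroup X)) (closure A ⊔ Q) le_sup_right
      (sup_le ((closure_le _).mpr hA) hQS) (Nat.le_add_left _ _) g ?_).mono
      (subset_closure.trans fun a ha => mem_sup_left (T := Q) ha)
    rw [cj, Subgroup.map_sup]
    refine sup_le (cj_le_of_cS hgA) ?_
    rw [show Q.map (MulAut.conj g).toMonoidHom = Q from
      cj_eq_iff.mpr (by rw [normalizer_eq_top]; trivial)]
    exact hQS
  have hNS : normalizer ((S : Subgroup X) : Set X) ≠ ⊤ := fun h =>
    hSQ (le_antisymm (le_pCore_of_normalizer S.2 h) hQS)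
  intro n
  induction n with
  | zero =>
    intro P hQP hPS hn g hg
    obtain rfl : P = (S : Subgroup X) := eq_of_le_of_card_ge hPS (by simpa using hn)
    refine hsubS _ hNS le_normalizer _ g (cj_eq_iff.mp ?_) (Set.Subset.refl _) hg
    exact eq_of_le_of_card_ge hg (by rw [cj_card])
  | succ n ih =>
    intro P hQP hPS hn g hg
    by_cases hPS' : P = (S : Subgroup X)
    · subst hPS'
      exact ih _ hQP le_rfl (Nat.le_add_right _ _) g hg
    have key : ∀ V : Subgroup X, Q ≤ V → V ≤ (S : Subgroup X) → Nat.card V = Nat.card P →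
        ∀ a U, IsFN p (S : Subgroup X) U → cj a V = U →
        ∃ m ∈ normalizer (U : Set X), cj (m * a) V = U ∧
          Reach (indFam 𝒲 X) ⊤ (S : Subgroup X) (V : Set X) (m * a) := by
      intro V hQV hV hVc a U hUS ha
      have hne : V ≠ (S : Subgroup X) := fun hh =>
        hPS' (eq_of_le_of_card_ge hPS (by rw [← hVc, hh]))
      obtain ⟨m, hm, h1, h2⟩ := exists_conj_nS S.2 hUS a ha
      refine ⟨m, hm, h1, (ih (nS (S : Subgroup X) V) (hQV.trans (le_nS hV)) inf_le_left ?_ (m * a)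
        (h2.trans inf_le_left)).mono (le_nS hV)⟩
      have := card_lt_of_lt' (lt_nS S.2 hV hne)
      omega
    obtain ⟨a, hfn⟩ := exists_isFN S hPS
    set U := cj a P with hUdef
    have hQfix : ∀ y : X, cj y Q = Q := fun y =>
      cj_eq_iff.mpr (by rw [normalizer_eq_top]; trivial)
    have hQU : Q ≤ U := hQfix a ▸ cj_le_cj.mpr hQP
    obtain ⟨m₁, hm₁, h₁, r₁⟩ := key P hQP hPS rfl a U hfn rfl
    obtain ⟨m₂, hm₂, h₂, r₂⟩ := key (cj g P) (hQfix g ▸ cj_le_cj.mpr hQP) hg (cj_card g P)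
      (a * g⁻¹) U hfn (by rw [← cj_mul]; simp [hUdef])
    set a₁ := m₁ * a
    set a₂ := m₂ * (a * g⁻¹)
    have hA₁ : cS a₁ (P : Set X) = (U : Set X) := by rw [← coe_cj, h₁]
    have hA₂ : cS a₂ ((cj g P : Subgroup X) : Set X) = (U : Set X) := by rw [← coe_cj, h₂]
    -- the element normalizing `U`
    have mid : ∀ m ∈ normalizer (U : Set X),
        Reach (indFam 𝒲 X) ⊤ (S : Subgroup X) (U : Set X) m := by
      intro m hm
      obtain ⟨d, hd, ed⟩ := hctl (q '' (U : Set X)) (q m) trivial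
        (by rw [hS']; exact Set.image_mono hfn.1)
        (by
          rintro _ ⟨_, ⟨u, hu, rfl⟩, rfl⟩
          rw [hS']
          exact ⟨m * u * m⁻¹, hfn.1 ((mem_normalizer_iff.mp hm u).mp hu), by simp⟩)
      obtain ⟨c, rfl, hcS, rc⟩ := lift (U : Set X) hfn.1 d hd
      set E := (centralizer ((U.map q : Subgroup (X ⧸ Q)) : Set (X ⧸ Q))).comap q with hE
      have memE : ∀ y, y ∈ E ↔ ∀ u ∈ U, u⁻¹ * (y * u * y⁻¹) ∈ Q := by
        intro y
        rw [hE, mem_comap, mem_centralizer_iff]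
        constructor
        · intro h u hu
          rw [← QuotientGroup.ker_mk' Q, MonoidHom.mem_ker, ← hqdef]
          rw [map_mul, map_mul, map_mul, map_inv, map_inv, ← h _ (mem_map_of_mem q hu)]
          group
        · rintro h _ ⟨u, hu, rfl⟩
          have := h u hu
          rw [← QuotientGroup.ker_mk' Q, MonoidHom.mem_ker, ← hqdef, map_mul, map_mul, map_mul,
            map_inv, map_inv, inv_mul_eq_one, eq_mul_inv_iff_mul_eq] at this
          exact this
      have hEN : E ≤ normalizer (U : Set X) := by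
        intro y hy
        refine cj_eq_iff.mp (eq_of_le_of_card_ge ?_ (cj_card y U).ge)
        rintro _ ⟨u, hu, rfl⟩
        have := U.mul_mem hu (hQU ((memE y).mp hy u hu))
        simpa using this
      have heE : c⁻¹ * m ∈ E := by
        refine (memE _).mpr fun u hu => ?_
        rw [← QuotientGroup.ker_mk' Q, MonoidHom.mem_ker, ← hqdef]
        have := ed (q u) ⟨u, hu, rfl⟩
        simp only [map_mul, map_inv]
        rw [inv_mul_eq_one, mul_inv_rev, inv_inv]
        calc q u = (q c)⁻¹ * (q c * q u * (q c)⁻¹) * q c := by group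
          _ = (q c)⁻¹ * (q m * q u * (q m)⁻¹) * q c := by rw [this]
          _ = _ := by group
      obtain ⟨P₁, hP₁, -⟩ := exists_isSylIn_ge (p := p) (inf_le_right :
        nS (S : Subgroup X) U ⊓ E ≤ E) (S.2.to_inf_left.to_inf_left)
      obtain ⟨h, hh, hle⟩ := exists_conj_le_of_isSylIn (hfn.sylIn S.2) (hP₁.1.trans hEN) hP₁.2.1
      have hEfix : cj h E = E := by
        refine eq_of_le_of_card_ge ?_ (by rw [cj_card])
        rintro _ ⟨y, hy, rfl⟩
        refine (memE _).mpr fun u hu => ?_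
        have h1 : h⁻¹ * u * h ∈ U := (mem_normalizer_iff''.mp hh u).mp hu
        have h2 := ‹Q.Normal›.conj_mem _ ((memE y).mp hy _ h1) h
        show u⁻¹ * (h * y * h⁻¹ * u * (h * y * h⁻¹)⁻¹) ∈ Q
        simpa [mul_assoc] using h2
      have hsyl : IsSylIn p (cj h P₁) E := by
        have := isSylIn_map hP₁ h
        rwa [hEfix] at this
      have hdec := le_sup_of_coprime_le (Z := centralizer (U : Set X) ⊓ E) inf_le_right hsyl
        (fun y hy hyp => ⟨mem_centralizer_iff.mpr fun u hu => ?_, hy⟩) heE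
      swap
      · refine (comm_of_coprime_of_fixed hyp (LocalEvenA.pCore_isPGroup' p X) ?_
          ((memE y).mp hy u hu)).symm
        have hyC : y ∈ C := by
          have hsurj : Function.Surjective
              ((QuotientGroup.mk' C).comp (S : Subgroup X).subtype) := by
            rw [← MonoidHom.range_eq_top, MonoidHom.range_comp, range_subtype,
              ← (comap_injective (QuotientGroup.mk'_surjective C)).eq_iff,
              comap_map_eq, QuotientGroup.ker_mk', comap_top, sup_comm]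
            exact hL
          obtain ⟨k, hk⟩ := (S.2.of_surjective _ hsurj) (QuotientGroup.mk' C y)
          refine (QuotientGroup.eq_one_iff y).mp
            (Components.eq_one_of_pow_prime_pow_of_coprime hyp hk ?_)
          show (QuotientGroup.mk' C y) ^ _ = 1
          rw [← map_pow, pow_orderOf_eq_one, map_one]
        exact fun w hw => (mem_centralizer_iff.mp hyC w hw).symm
      have hEsub : cj h P₁ ≤ normalizer ((centralizer (U : Set X) ⊓ E : Subgroup X) : Set X) := by
        intro y hy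
        have hyN : y ∈ normalizer (U : Set X) := hEN (hsyl.1 hy)
        refine cj_eq_iff.mp ?_
        rw [cj_inf, cj_eq_of_mem (hsyl.1 hy)]
        congr 1
        refine eq_of_le_of_card_ge ?_ (cj_card y _).ge
        rintro _ ⟨z, hz, rfl⟩
        refine mem_centralizer_iff.mpr fun u hu => ?_
        have h1 := mem_centralizer_iff.mp hz _ ((mem_normalizer_iff''.mp hyN u).mp hu)
        show u * (y * z * y⁻¹) = y * z * y⁻¹ * u
        calc u * (y * z * y⁻¹) = y * (y⁻¹ * u * y * z) * y⁻¹ := by group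
          _ = y * (z * (y⁻¹ * u * y)) * y⁻¹ := by rw [h1]
          _ = y * z * y⁻¹ * u := by group
      rw [← SetLike.mem_coe, coe_mul_of_right_le_normalizer_left _ _ hEsub, Set.mem_mul] at hdec
      obtain ⟨z, hz, s, hs, hzs⟩ := hdec
      have hsS : s ∈ (S : Subgroup X) := (hle hs).1
      have hsU : cS s (U : Set X) ⊆ (U : Set X) := cS_subset_of_mem (hle hs).2 le_rfl
      have r₀ := hsubS N₀ hN hSN (U : Set X) s (hSN hsS) hfn.1 (hsU.trans hfn.1)
      refine (r₀.mul (rc.mono hsU)).of_agree fun u hu => ?_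
      have hsu : s * u * s⁻¹ ∈ U := hsU ⟨u, hu, rfl⟩
      have hzc : z * (s * u * s⁻¹) * z⁻¹ = s * u * s⁻¹ := by
        rw [← mem_centralizer_iff.mp hz.1 _ hsu, mul_inv_cancel_right]
      calc c * s * u * (c * s)⁻¹ = c * (s * u * s⁻¹) * c⁻¹ := by group
        _ = c * (z * (s * u * s⁻¹) * z⁻¹) * c⁻¹ := by rw [hzc]
        _ = c * (z * s) * u * (c * (z * s))⁻¹ := by group
        _ = m * u * m⁻¹ := by rw [hzs, mul_inv_cancel_left]
    have hn' : a₂ * g * a₁⁻¹ ∈ normalizer (U : Set X) := by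
      have : a₂ * g * a₁⁻¹ = m₂ * m₁⁻¹ := by simp [a₁, a₂, mul_assoc]
      rw [this]
      exact (normalizer (U : Set X)).mul_mem hm₂ ((normalizer (U : Set X)).inv_mem hm₁)
    have r₂' : Reach (indFam 𝒲 X) ⊤ (S : Subgroup X) (U : Set X) a₂⁻¹ := by
      have := r₂.inv hg
      rwa [hA₂] at this
    have r₃ : Reach (indFam 𝒲 X) ⊤ (S : Subgroup X) (cS a₁ (P : Set X)) (a₂ * g * a₁⁻¹) :=
      hA₁.symm ▸ mid _ hn'
    have e1 : cS (a₂ * g * a₁⁻¹ * a₁) (P : Set X) = (U : Set X) := by
      rw [inv_mul_cancel_right, cS_mul, ← coe_cj g P, hA₂]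
    have := (r₁.mul r₃).mul (h := a₂⁻¹) (by rw [e1]; exact r₂')
    simpa [mul_assoc] using this

/-- Control of strong fusion from the constrained sections. -/
theorem fusion_of_sections {G : Type u} [Group G] [Finite G]
    (h𝒲 : ∀ W ∈ 𝒲, Cfsg.IsCharPFunctor.{u} p W)
    (hcon : ∀ (K R : Subgroup G) [hR : (R.subgroupOf K).Normal],
      centralizer ((Cfsg.pCore p (↥K ⧸ R.subgroupOf K) : Subgroup _) : Set _) ≤
        Cfsg.pCore p (↥K ⧸ R.subgroupOf K) →
      ∀ S : Sylow p (↥K ⧸ R.subgroupOf K),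
        FusionAt (indFam 𝒲 (↥K ⧸ R.subgroupOf K)) ⊤ (S : Subgroup _)) :
    (∀ (K R : Subgroup G) [hR : (R.subgroupOf K).Normal],
      Cfsg.FamilyControlsStrongFusionIn p (indFam 𝒲 (↥K ⧸ R.subgroupOf K)) ⊤) ∧
      Cfsg.FamilyControlsStrongFusionIn p (indFam 𝒲 G) ⊤ := by
  refine section_induction (fun X _ => Cfsg.FamilyControlsStrongFusionIn p (indFam 𝒲 X) ⊤) ?_ ?_
  · intro X Y _ _ _ e h
    haveI : Finite Y := Finite.of_equiv X e.toEquiv
    obtain ⟨T, hT, h1⟩ := at_of_familyFusion h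
    have h2 := isSylIn_map_injective e.toMonoidHom e.injective hT
    have h3 := h1.map h𝒲 e.toMonoidHom e.injective hT.2.1
    rw [map_top_of_surjective _ (by exact e.surjective)] at h2 h3
    exact familyFusion_of_at h2 h3
  · intro K R hR hsub hquot
    obtain ⟨S⟩ : Nonempty (Sylow p (↥K ⧸ R.subgroupOf K)) := inferInstance
    exact familyFusion_of_at (isSylIn_top S)
      (fusion_step h𝒲 S hsub (fun N _ hN _ => hquot N hN) fun hc => hcon K R hc S)

end Cfsg.Agent.ConjFunctor
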