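import Cfsg.Agent.Lib.ConjFunctor.Critical
import Cfsg.Agent.Lib.ConjFunctor.FusionStep

/-!
# Critical subgroups: existence, and the action on the chief factors of the p-group
-/

set_option autoImplicit false
set_option linter.style.haveILetI false
set_option linter.unusedSectionVars false
set_option linter.unusedVariables false

namespace Cfsg.Agent.ConjFunctor

open Subgroup Cfsg
open scoped commutatorElement

section del

variable {G : Type*} [Group G]

theorem map_iterate_del {H : Type*} [Group H] (f : G →* H) (g y : G) (n : ℕ) :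
    f ((del g)^[n] y) = (del (f g))^[n] (f y) := by
  induction n generalizing y with
  | zero => rfl
  | succ n ih =>
    rw [Function.iterate_succ_apply, Function.iterate_succ_apply, ih]
    simp [del]

/-- `del g` is multiplicative on an abelian normal subgroup. -/
theorem iterate_del_mul {U : Subgroup G} [U.Normal] [IsMulCommutative U] (g : G) {a b : G}
    (ha : a ∈ U) (hb : b ∈ U) (n : ℕ) :
    (del g)^[n] (a * b) = (del g)^[n] a * (del g)^[n] b := by
  induction n with
  | zero => rfl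
  | succ n ih =>
    rw [Function.iterate_succ_apply', Function.iterate_succ_apply', Function.iterate_succ_apply',
      ih]
    set x := (del g)^[n] a
    set y := (del g)^[n] b
    have hx : x ∈ U := iterate_del_mem g ha n
    have hy : y ∈ U := iterate_del_mem g hb n
    have h1 : x⁻¹ * del g y = del g y * x⁻¹ :=
      mem_centralizer_iff.mp (le_centralizer U (del_mem g hy)) _ (inv_mem hx)
    show g * (x * y) * g⁻¹ * (x * y)⁻¹ = g * x * g⁻¹ * x⁻¹ * del g y
    rw [mul_assoc (g * x * g⁻¹) x⁻¹, h1]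
    simp [del, mul_assoc]

theorem iterate_del_one (g : G) (n : ℕ) : (del g)^[n] (1 : G) = 1 := by
  induction n with
  | zero => rfl
  | succ n ih => rw [Function.iterate_succ_apply', ih]; simp [del]

theorem iterate_del_inv {U : Subgroup G} [U.Normal] [IsMulCommutative U] (g : G) {a : G}
    (ha : a ∈ U) (n : ℕ) : (del g)^[n] a⁻¹ = ((del g)^[n] a)⁻¹ :=
  eq_inv_of_mul_eq_one_left
    (by rw [← iterate_del_mul g (inv_mem ha) ha, inv_mul_cancel, iterate_del_one])

variable [Finite G] {p : ℕ} [hp : Fact p.Prime]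

/-- The converse of `iterate_del_mem_iterCommutator` on chief factors in `p`-groups. -/
theorem iterCommutator_le_of_del {U V : Subgroup G} (h : IsChiefFactor U V) (hU : IsPGroup p U)
    (g : G) (n : ℕ) (hd : ∀ u ∈ U, (del g)^[n] u ∈ V) : iterCommutator U (zpowers g) n ≤ V := by
  haveI := h.2.1
  haveI := h.2.2.1
  set q := QuotientGroup.mk' V
  haveI : (U.map q).Normal := Normal.map inferInstance q (QuotientGroup.mk'_surjective V)
  haveI : IsMulCommutative ↥(U.map q) := by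
    rw [← le_centralizer_iff_isMulCommutative, ← commutator_eq_bot_iff_le_centralizer,
      ← map_commutator, Subgroup.map_eq_bot_iff, QuotientGroup.ker_mk']
    exact chief_commutator_self h hU
  have hq : ∀ (k : ℕ) (x : G), (del g)^[k] x ∈ V ↔ (del (q g))^[k] (q x) = 1 := by
    intro k x
    rw [← map_iterate_del]
    exact (QuotientGroup.eq_one_iff _).symm
  let W : ℕ → Subgroup G := fun k =>
    { carrier := {u | u ∈ U ∧ (del g)^[k] u ∈ V}
      one_mem' := ⟨one_mem _, by rw [iterate_del_one]; exact one_mem V⟩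
      mul_mem' := fun {a b} ha hb => ⟨mul_mem ha.1 hb.1, (hq k _).mpr (by
        rw [map_mul, iterate_del_mul (U := U.map q) (q g) (mem_map_of_mem q ha.1)
          (mem_map_of_mem q hb.1), (hq k a).mp ha.2, (hq k b).mp hb.2, one_mul])⟩
      inv_mem' := fun {a} ha => ⟨inv_mem ha.1, (hq k _).mpr (by
        rw [map_inv, iterate_del_inv (U := U.map q) (q g) (mem_map_of_mem q ha.1),
          (hq k a).mp ha.2, inv_one])⟩ }
  have hWn : ∀ k, g ∈ normalizer ((W k : Subgroup G) : Set G) := by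
    intro k
    refine cj_eq_iff.mp (eq_of_le_of_card_ge ?_ (cj_card g _).ge)
    rintro _ ⟨u, hu, rfl⟩
    refine ⟨‹U.Normal›.conj_mem u hu.1 g, ?_⟩
    show (del g)^[k] (g * u * g⁻¹) ∈ V
    have e : del (g * g * g⁻¹) = del g := by rw [mul_inv_cancel_right]
    rw [← e, iterate_del_conj]
    exact ‹V.Normal›.conj_mem _ hu.2 g
  have step : ∀ k, ⁅W (k + 1), zpowers g⁆ ≤ W k := by
    intro k
    rw [Subgroup.commutator_comm, commutator_le]
    let J : Subgroup G :=
      { carrier := {x | x ∈ normalizer ((W k : Subgroup G) : Set G) ∧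
          ∀ u ∈ W (k + 1), ⁅x, u⁆ ∈ W k}
        one_mem' := ⟨one_mem _, fun u _ => by rw [commutatorElement_one_left]; exact one_mem _⟩
        mul_mem' := fun {a b} ha hb => ⟨mul_mem ha.1 hb.1, fun u hu => by
          rw [show ⁅a * b, u⁆ = a * ⁅b, u⁆ * a⁻¹ * ⁅a, u⁆ by
            simp only [commutatorElement_def]; group]
          exact mul_mem ((mem_normalizer_iff.mp ha.1 _).mp (hb.2 u hu)) (ha.2 u hu)⟩
        inv_mem' := fun {a} ha => ⟨inv_mem ha.1, fun u hu => by
          rw [show ⁅a⁻¹, u⁆ = a⁻¹ * ⁅a, u⁆⁻¹ * a⁻¹⁻¹ by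
            simp only [commutatorElement_def]; group]
          exact (mem_normalizer_iff.mp (inv_mem ha.1) _).mp (inv_mem (ha.2 u hu))⟩ }
    have hgJ : g ∈ J := ⟨hWn k, fun u hu => ⟨del_mem g hu.1, by
      show (del g)^[k] ⁅g, u⁆ ∈ V
      rw [show ⁅g, u⁆ = del g u from rfl, ← Function.iterate_succ_apply]
      exact hu.2⟩⟩
    intro x hx u hu
    exact ((zpowers_le.mpr hgJ) hx).2 u hu
  suffices H : ∀ m k, m + k = n → iterCommutator U (zpowers g) m ≤ W k by
    intro x hx
    exact (H n 0 rfl hx).2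
  intro m
  induction m with
  | zero => intro k hk u hu; exact ⟨hu, by simpa [← hk] using hd u hu⟩
  | succ m ih => intro k hk; exact (commutator_mono (ih (k + 1) (by omega)) le_rfl).trans (step k)

/-- Annihilation on the chief factors below a layer `Z` and above it. -/
theorem iterate_del_mem_of_layer {A Z U V : Subgroup G} [A.Normal] [Z.Normal]
    (h : IsChiefFactor U V) (hU : IsPGroup p U) (hUA : U ≤ A) (g : G) (n : ℕ)
    (hAZ : ∀ a ∈ A, (del g)^[n] a ∈ Z) (hZ : ∀ z ∈ Z, (del g)^[n] z = 1) :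
    ∀ u ∈ U, (del g)^[n] u ∈ V := by
  haveI := h.2.1
  haveI := h.2.2.1
  rcases h.2.2.2 (V ⊔ U ⊓ Z) inferInstance le_sup_left (sup_le h.1.le inf_le_left) with e | e
  · intro u hu
    exact (sup_eq_left.mp e) ⟨iterate_del_mem g hu n, hAZ u (hUA hu)⟩
  · intro u hu
    obtain ⟨v, hv, z, hz, rfl⟩ := mem_sup_of_normal_right.mp (e.symm ▸ hu : u ∈ V ⊔ U ⊓ Z)
    have h1 : QuotientGroup.mk' V ((del g)^[n] (v * z)) = 1 := by
      rw [map_iterate_del, map_mul, show QuotientGroup.mk' V v = 1 from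
        (QuotientGroup.eq_one_iff v).mpr hv, one_mul, ← map_iterate_del, hZ z hz.2, map_one]
    exact (QuotientGroup.eq_one_iff _).mp h1

/-- Glauberman's lemma on the chief factors of a `p`-group with a subgroup containing its
centralizer. -/
theorem iterate_del_mem_of_critical {P Q : Subgroup G} [P.Normal] [Q.Normal] (hP : IsPGroup p P)
    (hQP : Q ≤ P) (hQ3 : ⁅P, Q⁆ ≤ Q ⊓ centralizer (Q : Set G))
    (hQ4 : P ⊓ centralizer (Q : Set G) ≤ Q ⊓ centralizer (Q : Set G)) (g : G) (i j : ℕ)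
    (hi : 1 ≤ i) (hj : 1 ≤ j)
    (hQi : ∀ U V : Subgroup G, IsChiefFactor U V → U ≤ Q → ∀ u ∈ U, (del g)^[i] u ∈ V)
    (hZj : ∀ U V : Subgroup G, IsChiefFactor U V → U ≤ Q ⊓ centralizer (Q : Set G) →
      ∀ u ∈ U, (del g)^[j] u ∈ V)
    {U V : Subgroup G} (hUV : IsChiefFactor U V) (hUP : U ≤ P) :
    ∀ u ∈ U, (del g)^[i + j - 1] u ∈ V := by
  set Z := Q ⊓ centralizer (Q : Set G) with hZdef
  haveI := hUV.2.1
  haveI := hUV.2.2.1
  obtain ⟨U₁, ⟨hU₁n, hU₁U, hU₁V⟩, hmin⟩ := wellFounded_lt.has_min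
    {N : Subgroup G | N.Normal ∧ N ≤ U ∧ ¬ N ≤ V} ⟨U, hUV.2.1, le_rfl, hUV.1.not_ge⟩
  haveI := hU₁n
  have hsmall : ∀ N : Subgroup G, N.Normal → N ≤ U₁ → N ≠ U₁ → N ≤ V := by
    intro N hN hle hne
    by_contra hNV
    exact hmin N ⟨hN, hle.trans hU₁U, hNV⟩ (lt_of_le_of_ne hle hne)
  have hsup : V ⊔ U₁ = U := by
    rcases hUV.2.2.2 (V ⊔ U₁) inferInstance le_sup_left (sup_le hUV.1.le hU₁U) with e | e
    · exact absurd (sup_eq_left.mp e) hU₁V
    · exact e
  suffices H : ∀ u ∈ U₁, (del g)^[i + j - 1] u ∈ V by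
    intro u hu
    obtain ⟨v, hv, u₁, hu₁, rfl⟩ := mem_sup_of_normal_right.mp (hsup.symm ▸ hu : u ∈ V ⊔ U₁)
    have h1 : QuotientGroup.mk' V ((del g)^[i + j - 1] (v * u₁)) = 1 := by
      rw [map_iterate_del, map_mul, show QuotientGroup.mk' V v = 1 from
        (QuotientGroup.eq_one_iff v).mpr hv, one_mul, ← map_iterate_del]
      exact (QuotientGroup.eq_one_iff _).mpr (H u₁ hu₁)
    exact (QuotientGroup.eq_one_iff _).mp h1
  have hmore : ∀ {N : Subgroup G} [N.Normal] {m m' : ℕ} {x : G}, m ≤ m' →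
      (del g)^[m] x ∈ N → (del g)^[m'] x ∈ N := by
    intro N _ m m' x hm hx
    rw [← Nat.sub_add_cancel hm, Function.iterate_add_apply]
    exact iterate_del_mem g hx _
  by_cases hUZ : U₁ ≤ Z
  · have hchief : IsChiefFactor U₁ (U₁ ⊓ V) := by
      refine ⟨lt_of_le_of_ne inf_le_left fun e => hU₁V (inf_eq_left.mp e), hU₁n, inferInstance,
        fun N hN h1 h2 => ?_⟩
      by_cases hNU : N = U₁
      · exact Or.inr hNU
      · exact Or.inl (le_antisymm (le_inf h2 (hsmall N hN h2 hNU)) h1)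
    exact fun u hu => hmore (by omega) (hZj U₁ _ hchief hUZ u hu).2
  have hne : ⁅U₁, Q⁆ ≠ ⊥ := fun e => hUZ fun x hx =>
    hQ4 ⟨hUP (hU₁U hx), commutator_eq_bot_iff_le_centralizer.mp e hx⟩
  obtain ⟨Q₁, ⟨hQ₁n, hQ₁Q, hQ₁U⟩, hQmin⟩ := wellFounded_lt.has_min
    {N : Subgroup G | N.Normal ∧ N ≤ Q ∧ ⁅U₁, N⁆ ≠ ⊥} ⟨Q, inferInstance, le_rfl, hne⟩
  haveI := hQ₁n
  obtain ⟨Q₂, hQ₁₂⟩ := exists_chief_below hQ₁n fun e => hQ₁U (by rw [e, commutator_bot_right])
  haveI := hQ₁₂.2.2.1
  have hQ₂ : ⁅U₁, Q₂⁆ = ⊥ := by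
    by_contra h
    exact hQmin Q₂ ⟨hQ₁₂.2.2.1, hQ₁₂.1.le.trans hQ₁Q, h⟩ hQ₁₂.1
  set R := ⁅U₁, Q₁⁆ with hR
  have hRZ : R ≤ Z := (commutator_mono (hU₁U.trans hUP) hQ₁Q).trans hQ3
  obtain ⟨R₂, hR₁₂⟩ := exists_chief_below (inferInstance : R.Normal) hQ₁U
  haveI := hR₁₂.2.2.1
  set q := QuotientGroup.mk' R₂ with hqdef
  haveI : (R.map q).Normal := Normal.map inferInstance q (QuotientGroup.mk'_surjective R₂)
  have hRp : IsPGroup p R := hP.to_le ((hRZ.trans inf_le_left).trans hQP)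
  haveI : IsMulCommutative ↥(R.map q) := by
    rw [← le_centralizer_iff_isMulCommutative, ← commutator_eq_bot_iff_le_centralizer,
      ← map_commutator, Subgroup.map_eq_bot_iff, QuotientGroup.ker_mk']
    exact chief_commutator_self hR₁₂ hRp
  have hβR : ∀ {x w : G}, x ∈ U₁ → w ∈ Q₁ → q ⁅x, w⁆ ∈ R.map q := fun hx hw =>
    mem_map_of_mem q (commutator_mem_commutator hx hw)
  have hcR : ∀ {x y w : G}, x ∈ U₁ → y ∈ U₁ → w ∈ Q₁ →
      q ⁅x * y, w⁆ = q ⁅x, w⁆ * q ⁅y, w⁆ := by
    intro x y w hx hy hw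
    have hyR : ⁅y, w⁆ ∈ R := commutator_mem_commutator hy hw
    have h1 : q x * q ⁅y, w⁆ = q ⁅y, w⁆ * q x := by
      have h2 := chief_commutator_le hR₁₂ hP ((hRZ.trans inf_le_left).trans hQP)
        (commutator_mem_commutator hyR (hUP (hU₁U hx)))
      have h3 : q ⁅⁅y, w⁆, x⁆ = 1 := (QuotientGroup.eq_one_iff _).mpr h2
      rw [map_commutatorElement q ⁅y, w⁆ x, commutatorElement_eq_one_iff_mul_comm] at h3
      exact h3.symm
    rw [show ⁅x * y, w⁆ = x * ⁅y, w⁆ * x⁻¹ * ⁅x, w⁆ by simp only [commutatorElement_def]; group,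
      map_mul, map_mul, map_mul, h1, map_inv, mul_inv_cancel_right]
    exact mem_centralizer_iff.mp (le_centralizer _ (hβR hx hw)) _ (hβR hy hw)
  have hcL : ∀ {x w z : G}, x ∈ U₁ → w ∈ Q₁ → z ∈ Q₁ →
      q ⁅x, w * z⁆ = q ⁅x, w⁆ * q ⁅x, z⁆ := by
    intro x w z hx hw hz
    have h1 : w * ⁅x, z⁆ = ⁅x, z⁆ * w :=
      mem_centralizer_iff.mp (hRZ (commutator_mem_commutator hx hz)).2 w (hQ₁Q hw)
    rw [show ⁅x, w * z⁆ = ⁅x, w⁆ * (w * ⁅x, z⁆ * w⁻¹) by simp only [commutatorElement_def]; group,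
      h1, mul_inv_cancel_right, map_mul]
  have main : ∀ k a b : ℕ, i + j - 1 ≤ a + b + k → ∀ x ∈ U₁, ∀ w ∈ Q₁,
      (del (q g))^[a] (q ⁅(del g)^[k] x, (del g)^[b] w⁆) = 1 := by
    intro k
    induction k with
    | zero =>
      intro a b hab x hx w hw
      by_cases ha : j ≤ a
      · rw [Function.iterate_zero_apply, ← map_iterate_del]
        exact (QuotientGroup.eq_one_iff _).mpr (hmore ha (hZj R R₂ hR₁₂ hRZ _
          (commutator_mem_commutator hx (iterate_del_mem g hw b))))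
      · have hb : (del g)^[b] w ∈ Q₂ := hmore (by omega) (hQi Q₁ Q₂ hQ₁₂ hQ₁Q w hw)
        rw [Function.iterate_zero_apply, show ⁅x, (del g)^[b] w⁆ = 1 from
          mem_bot.mp (hQ₂ ▸ commutator_mem_commutator hx hb), map_one, iterate_del_one]
    | succ k ih =>
      intro a b hab x hx w hw
      set y := (del g)^[k] x with hy
      have hyU : y ∈ U₁ := iterate_del_mem g hx k
      have hw' : g⁻¹ * w * g ∈ Q₁ := by simpa using hQ₁n.conj_mem w hw g⁻¹
      set z := (del g)^[b] (g⁻¹ * w * g) with hz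
      have hzQ : z ∈ Q₁ := iterate_del_mem g hw' b
      have hgz : g * z * g⁻¹ = (del g)^[b] w := by
        have e : del (g * g * g⁻¹) = del g := by rw [mul_inv_cancel_right]
        rw [hz, ← iterate_del_conj, e, show g * (g⁻¹ * w * g) * g⁻¹ = w by group]
      have hgzQ : g * z * g⁻¹ ∈ Q₁ := hQ₁n.conj_mem z hzQ g
      have key : q ⁅del g y, g * z * g⁻¹⁆ = del (q g) (q ⁅y, z⁆) * (q ⁅y, del g z⁆)⁻¹ := by
        have h1 : q g * q ⁅y, z⁆ * (q g)⁻¹ =
            q ⁅del g y, g * z * g⁻¹⁆ * (q ⁅y, del g z⁆ * q ⁅y, z⁆) := by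
          rw [← hcL hyU (del_mem g hzQ) hzQ, ← map_inv, ← map_mul, ← map_mul]
          have e1 : del g z * z = g * z * g⁻¹ := by simp [del, mul_assoc]
          rw [e1, ← hcR (del_mem g hyU) hyU hgzQ]
          have e2 : del g y * y = g * y * g⁻¹ := by simp [del, mul_assoc]
          rw [e2]
          congr 1
          simp only [commutatorElement_def]
          group
        show _ = q g * q ⁅y, z⁆ * (q g)⁻¹ * (q ⁅y, z⁆)⁻¹ * (q ⁅y, del g z⁆)⁻¹
        rw [h1]
        group
      rw [show (del g)^[k + 1] x = del g y by rw [hy, Function.iterate_succ_apply'], ← hgz, key,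
        iterate_del_mul (U := R.map q) (q g) (del_mem _ (hβR hyU hzQ))
          (inv_mem (hβR hyU (del_mem g hzQ))),
        iterate_del_inv (U := R.map q) (q g) (hβR hyU (del_mem g hzQ)),
        ← Function.iterate_succ_apply, hy, hz, ih (a + 1) b (by omega) x hx _ hw',
        ← Function.iterate_succ_apply' (del g) b,
        ih a (b + 1) (by omega) x hx _ hw', inv_one, one_mul]
  have hKl : ∀ u ∈ U₁, ∀ w ∈ Q₁, q ⁅(del g)^[i + j - 1] u, w⁆ = 1 := fun u hu w hw => by
    simpa using main (i + j - 1) 0 0 (by omega) u hu w hw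
  let Kl : Subgroup G :=
    { carrier := {x | x ∈ U₁ ∧ ∀ w ∈ Q₁, q ⁅x, w⁆ = 1}
      one_mem' := ⟨one_mem _, fun w _ => by rw [commutatorElement_one_left, map_one]⟩
      mul_mem' := fun {a b} ha hb => ⟨mul_mem ha.1 hb.1, fun w hw => by
        rw [hcR ha.1 hb.1 hw, ha.2 w hw, hb.2 w hw, one_mul]⟩
      inv_mem' := fun {a} ha => ⟨inv_mem ha.1, fun w hw => by
        have h1 := hcR (inv_mem ha.1) ha.1 hw
        rw [inv_mul_cancel, commutatorElement_one_left, map_one, ha.2 w hw, mul_one] at h1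
        exact h1.symm⟩ }
  have hKn : Kl.Normal := ⟨fun x hx t => ⟨hU₁n.conj_mem x hx.1 t, fun w hw => by
    have h1 := hx.2 (t⁻¹ * w * t) (by simpa using hQ₁n.conj_mem w hw t⁻¹)
    rw [show ⁅t * x * t⁻¹, w⁆ = t * ⁅x, t⁻¹ * w * t⁆ * t⁻¹ by
      simp only [commutatorElement_def]; group, map_mul, map_mul, h1, mul_one, map_inv,
      mul_inv_cancel]⟩⟩
  have hKU : Kl ≠ U₁ := by
    intro e
    refine hR₁₂.1.not_ge (commutator_le.mpr fun x hx w hw => (QuotientGroup.eq_one_iff _).mp ?_)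
    exact ((e.symm ▸ hx : x ∈ Kl)).2 w hw
  exact fun u hu => hsmall Kl hKn (fun x hx => hx.1) hKU ⟨iterate_del_mem g hu _, hKl u hu⟩

end del

section existence

variable {P : Type*} [Group P] [Finite P] {p : ℕ} [hp : Fact p.Prime]

/-- Thompson's critical subgroup. -/
theorem exists_critical (hP : IsPGroup p P) :
    ∃ A : Subgroup P, A.Characteristic ∧ ⁅(⊤ : Subgroup P), A⁆ ≤ A ⊓ centralizer (A : Set P) ∧
      (∀ a ∈ A, a ^ p ∈ A ⊓ centralizer (A : Set P)) ∧ centralizer (A : Set P) ≤ A := by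
  obtain ⟨A, ⟨hAc, hA3, hA1⟩, hmax⟩ := wellFounded_gt.has_min
    {A : Subgroup P | A.Characteristic ∧ ⁅(⊤ : Subgroup P), A⁆ ≤ A ⊓ centralizer (A : Set P) ∧
      ∀ a ∈ A, a ^ p ∈ A ⊓ centralizer (A : Set P)}
    ⟨⊥, inferInstance, by rw [commutator_bot_right]; exact bot_le, fun a ha => by
      rw [mem_bot.mp ha, one_pow]; exact one_mem _⟩
  refine ⟨A, hAc, hA3, hA1, ?_⟩
  by_contra hC
  haveI := hAc
  set Z := A ⊓ centralizer (A : Set P) with hZ
  haveI hZc : Z.Characteristic := inferInstance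
  obtain ⟨x, hx, hxA, hxQ⟩ := exists_central_step (Q := ⊤) hP
    (by rw [normalizer_eq_top]) hC
  have hxK : x ∈ commKer Z (⊤ : Subgroup P) := ⟨centralizer_le (by exact inf_le_left) hx, hxQ⟩
  obtain ⟨y, hy, hyA, hyK, hyp⟩ : ∃ y, y ∈ centralizer (A : Set P) ∧ y ∉ A ∧
      y ∈ commKer Z (⊤ : Subgroup P) ∧ y ^ p ∈ A := by
    obtain ⟨k, hk⟩ := hP x
    by_contra hcon
    push Not at hcon
    have : ∀ j, x ^ p ^ j ∉ A := by
      intro j
      induction j with
      | zero => simpa using hxA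
      | succ j ih =>
        rw [pow_succ, pow_mul]
        exact hcon _ (pow_mem hx _) ih (pow_mem hxK _)
    exact this k (hk ▸ one_mem A)
  let M : Subgroup P :=
    { carrier := {z | z ∈ centralizer (A : Set P) ∧ z ∈ commKer Z (⊤ : Subgroup P) ∧ z ^ p ∈ Z}
      one_mem' := ⟨one_mem _, one_mem _, by rw [one_pow]; exact one_mem _⟩
      mul_mem' := fun {a b} ha hb => ⟨mul_mem ha.1 hb.1, mul_mem ha.2.1 hb.2.1, by
        have hc : Commute (QuotientGroup.mk' Z a) (QuotientGroup.mk' Z b) :=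
          commutatorElement_eq_one_iff_commute.mp (by
            rw [← map_commutatorElement]
            exact (QuotientGroup.eq_one_iff _).mpr (ha.2.1.2 b (mem_top b)))
        refine (QuotientGroup.eq_one_iff _).mp ?_
        show QuotientGroup.mk' Z ((a * b) ^ p) = 1
        rw [map_pow, map_mul, hc.mul_pow, ← map_pow, ← map_pow,
          show QuotientGroup.mk' Z (a ^ p) = 1 from (QuotientGroup.eq_one_iff _).mpr ha.2.2,
          show QuotientGroup.mk' Z (b ^ p) = 1 from (QuotientGroup.eq_one_iff _).mpr hb.2.2,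
          one_mul]⟩
      inv_mem' := fun {a} ha => ⟨inv_mem ha.1, inv_mem ha.2.1, by
        rw [inv_pow]; exact inv_mem ha.2.2⟩ }
  haveI hM : M.Characteristic := by
    refine characteristic_iff_le_comap.mpr fun φ z hz => ?_
    have hmem : ∀ (H : Subgroup P), H.Characteristic → ∀ w, w ∈ H → φ w ∈ H := fun H hH w hw =>
      (characteristic_iff_le_comap.mp hH φ) hw
    refine ⟨hmem _ inferInstance z hz.1, ⟨hmem _ inferInstance z hz.2.1.1, fun t _ => ?_⟩, ?_⟩
    · show ⁅φ z, t⁆ ∈ Z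
      rw [← φ.apply_symm_apply t, ← map_commutatorElement]
      exact hmem _ hZc _ (hz.2.1.2 (φ.symm t) (mem_top _))
    · show φ z ^ p ∈ Z
      rw [← map_pow]
      exact hmem _ hZc _ hz.2.2
  have hMC : M ≤ centralizer (A : Set P) := fun z hz => hz.1
  have hZA' : Z ≤ centralizer ((A ⊔ M : Subgroup P) : Set P) :=
    le_centralizer_iff.mpr (sup_le (le_centralizer_iff.mp inf_le_right)
      (hMC.trans (centralizer_le (by exact inf_le_left))))
  have hcomm : ⁅(⊤ : Subgroup P), A ⊔ M⁆ ≤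
      (A ⊔ M) ⊓ centralizer ((A ⊔ M : Subgroup P) : Set P) := by
    rw [Subgroup.commutator_comm]
    refine (commutator_le_of_le_commKer (sup_le (le_commKer (le_centralizer_iff.mp inf_le_right)
      ((Subgroup.commutator_comm A ⊤).le.trans hA3))
      (show M ≤ commKer Z ⊤ from fun z hz => hz.2.1))).trans
      (le_inf (inf_le_left.trans le_sup_left) hZA')
  refine hmax (A ⊔ M) ⟨inferInstance, hcomm, fun a ha => ?_⟩
    (lt_of_le_of_ne le_sup_left fun e => hyA (e.symm ▸ mem_sup_right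
      (⟨hy, hyK, hyp, pow_mem hy p⟩ : y ∈ M)))
  have hMA : M ≤ normalizer (A : Set P) := by rw [normalizer_eq_top]; exact le_top
  rw [← SetLike.mem_coe, coe_mul_of_right_le_normalizer_left _ _ hMA, Set.mem_mul] at ha
  obtain ⟨b, hb, z, hz, rfl⟩ := ha
  rw [(show Commute b z from mem_centralizer_iff.mp hz.1 b hb).mul_pow]
  exact (le_inf (inf_le_left.trans le_sup_left) hZA' : Z ≤ _) (mul_mem (hA1 b hb) hz.2.2)

omit hp in
/-- An automorphism of order prime to `p` fixing a self-centralizing subgroup is trivial. -/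
theorem eq_one_of_fix_critical [Fact p.Prime] (hP : IsPGroup p P) {A : Subgroup P} (hAn : A.Normal)
    (hC : centralizer (A : Set P) ≤ A) (φ : MulAut P) (hφ : (orderOf φ).Coprime p)
    (hfix : ∀ a ∈ A, φ a = a) : φ = 1 := by
  refine MulEquiv.ext fun t => ?_
  set b := t⁻¹ * φ t with hb
  have hbC : b ∈ centralizer (A : Set P) := by
    refine mem_centralizer_iff.mpr fun a ha => ?_
    have h1 : φ t * a * (φ t)⁻¹ = t * a * t⁻¹ := by
      conv_lhs => rw [← hfix a ha]
      rw [← map_inv, ← map_mul, ← map_mul]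
      exact hfix _ (hAn.conj_mem a ha t)
    calc a * b = t⁻¹ * (t * a * t⁻¹) * φ t := by rw [hb]; group
      _ = t⁻¹ * (φ t * a * (φ t)⁻¹) * φ t := by rw [h1]
      _ = b * a := by rw [hb]; group
  have hn : ∀ n : ℕ, (φ ^ n) t = t * b ^ n := by
    intro n
    induction n with
    | zero => simp
    | succ n ih =>
      rw [pow_succ', MulAut.mul_apply, ih, map_mul, map_pow, hfix b (hC hbC), pow_succ',
        ← mul_assoc]
      congr 1
      rw [hb, mul_inv_cancel_left]
  have h2 := hn (orderOf φ)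
  rw [pow_orderOf_eq_one, MulAut.one_apply, left_eq_mul] at h2
  obtain ⟨k, hk⟩ := hP b
  have h3 : b = 1 := Components.eq_one_of_pow_prime_pow_of_coprime hφ hk h2
  rw [MulAut.one_apply]
  exact (inv_mul_eq_one.mp h3).symm

end existence

section quotient

variable {G : Type*} [Group G] [Finite G] {p : ℕ} [hp : Fact p.Prime]

/-- A quadratic, nontrivial action on a chief factor contradicts `p`-stability of a quotient. -/
theorem not_pStable_of_factor {U V : Subgroup G} [V.Normal] (hUV : IsChiefFactor U V)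
    (hU : IsPGroup p U) {g : G} (hq2 : ⁅⁅U, zpowers g⁆, zpowers g⁆ ≤ V)
    (hmove : ¬ ⁅U, zpowers g⁆ ≤ V) : ¬ IsNormalizerPStable p (G ⧸ V) := by
  intro hst
  haveI := hUV.2.1
  set q := QuotientGroup.mk' V with hq
  have hqs : Function.Surjective q := QuotientGroup.mk'_surjective _
  haveI hUn : (U.map q).Normal := Normal.map inferInstance q hqs
  have hquad : ⁅⁅U.map q, zpowers (q g)⁆, zpowers (q g)⁆ = ⊥ := by
    rw [← MonoidHom.map_zpowers, ← map_commutator, ← map_commutator, Subgroup.map_eq_bot_iff,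
      QuotientGroup.ker_mk']
    exact hq2
  have hgN : q g ∈ normalizer ((U.map q : Subgroup (G ⧸ V)) : Set (G ⧸ V)) := by
    rw [normalizer_eq_top]; trivial
  have hmem := hst (U.map q) (hU.map q) (q g) hgN hquad
  set C := centralizer ((U.map q : Subgroup (G ⧸ V)) : Set (G ⧸ V)) with hC
  set N := normalizer ((U.map q : Subgroup (G ⧸ V)) : Set (G ⧸ V))
  have hNt : N = ⊤ := normalizer_eq_top (U.map q)
  set C' := C.subgroupOf N
  set K : Subgroup (G ⧸ V) :=
    ((Cfsg.pCore p (↥N ⧸ C')).comap (QuotientGroup.mk' C')).map N.subtype with hK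
  haveI hKn : K.Normal := by
    haveI := LocalEvenA.pCore_normal' p (↥N ⧸ C')
    refine normalizer_eq_top_iff.mp (top_le_iff.mp ?_)
    refine le_trans ?_ (le_normalizer_map N.subtype)
    rw [normalizer_eq_top, ← MonoidHom.range_eq_map, range_subtype, hNt]
  have hgK : q g ∈ K := ⟨⟨q g, hgN⟩, hmem, rfl⟩
  have hpow : ∀ x ∈ K, ∃ k : ℕ, x ^ p ^ k ∈ C := by
    rintro _ ⟨⟨x, hx⟩, hxK, rfl⟩
    obtain ⟨k, hk⟩ := (LocalEvenA.pCore_isPGroup' p (↥N ⧸ C')) ⟨_, hxK⟩
    refine ⟨k, ?_⟩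
    have := congrArg Subtype.val hk
    rw [SubgroupClass.coe_pow, ← map_pow] at this
    have h2 := (QuotientGroup.eq_one_iff _).mp this
    simpa [C', mem_subgroupOf] using h2
  obtain ⟨P₀, hP₀⟩ := exists_isSylIn (p := p) K
  have hCK : C ≤ K := by
    intro c hc
    refine ⟨⟨c, by rw [hNt]; trivial⟩, ?_, rfl⟩
    show QuotientGroup.mk' C' _ ∈ Cfsg.pCore p (↥N ⧸ C')
    rw [show QuotientGroup.mk' C' (⟨c, _⟩ : ↥N) = 1 from
      (QuotientGroup.eq_one_iff _).mpr (mem_subgroupOf.mpr hc)]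
    exact one_mem _
  have hKle : K ≤ C ⊔ P₀ := by
    refine le_sup_of_coprime_le hCK hP₀ fun y hy hyp => ?_
    obtain ⟨k, hk⟩ := hpow y hy
    obtain ⟨m, hm⟩ := exists_pow_eq_self_of_coprime
      (Nat.Coprime.pow_left k hyp.symm : (p ^ k).Coprime (orderOf y))
    rw [← hm]
    exact pow_mem hk m
  refine hmove ?_
  rw [← QuotientGroup.ker_mk' V, ← Subgroup.map_eq_bot_iff, map_commutator, MonoidHom.map_zpowers,
    eq_bot_iff]
  have hUmin : ∀ M : Subgroup (G ⧸ V), M.Normal → M ≤ U.map q → M = ⊥ ∨ M = U.map q := by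
    intro M hM hMU
    have h1 : V ≤ M.comap q := by
      conv_lhs => rw [← QuotientGroup.ker_mk' V]
      exact comap_mono (f := q) bot_le
    have h2 : M.comap q ≤ U := by
      refine (comap_mono hMU).trans ?_
      rw [comap_map_eq, QuotientGroup.ker_mk', sup_eq_left.mpr hUV.1.le]
    rcases hUV.2.2.2 _ (hM.comap q) h1 h2 with e | e
    · left
      rw [← map_comap_eq_self_of_surjective hqs M, e, QuotientGroup.map_mk'_self]
    · right
      rw [← map_comap_eq_self_of_surjective hqs M, e]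
  rcases hUmin ⁅U.map q, K⁆ inferInstance (commutator_le_left _ _) with e | e
  · exact le_trans (commutator_mono le_rfl (zpowers_le.mpr hgK)) e.le
  exfalso
  have hsp : IsPGroup p (U.map q ⊔ P₀ : Subgroup (G ⧸ V)) :=
    (hU.map q).to_sup_of_normal_left hP₀.2.1
  haveI := hsp.isNilpotent
  have h3 : U.map q ≤ ⊥ := by
    refine Transfer.le_of_le_sup_commutator (S := U.map q ⊔ P₀) le_sup_left
      (by rw [normalizer_eq_top]; exact le_top) ?_
    rw [bot_sup_eq]
    conv_lhs => rw [← e, Subgroup.commutator_comm]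
    rw [commutator_le]
    intro k hk u hu
    rw [← SetLike.mem_coe, Subgroup.commutator_comm]
    have hk' := hKle hk
    haveI : C.Normal := by rw [hC]; infer_instance
    obtain ⟨c, hc, r, hr, rfl⟩ := mem_sup_of_normal_left.mp hk'
    rw [show ⁅c * r, u⁆ = c * ⁅r, u⁆ * c⁻¹ * ⁅c, u⁆ by simp only [commutatorElement_def]; group,
      commutatorElement_eq_one_iff_mul_comm.mpr (mem_centralizer_iff.mp hc u hu).symm, mul_one,
      ← mem_centralizer_iff.mp hc _ (commutator_le_right (⊤ : Subgroup (G ⧸ V)) (U.map q)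
        (commutator_mem_commutator (mem_top r) hu)), mul_inv_cancel_right]
    exact commutator_mem_commutator (mem_sup_right hr) hu
  exact hUV.1.not_ge (by
    have h4 := (map_le_iff_le_comap.mp h3)
    rw [MonoidHom.comap_bot, QuotientGroup.ker_mk'] at h4
    exact h4)

end quotient

end Cfsg.Agent.ConjFunctor

namespace Cfsg.Agent.ConjFunctor

open Subgroup Cfsg
open scoped commutatorElement

universe u

variable {G : Type u} [Group G] [Finite G] {p : ℕ} [hp : Fact p.Prime]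

/-- The consequences drawn from a critical subgroup of `O_p`. -/
theorem exists_element_of_not_normal (S : Sylow p G)
    (hK : ¬ (inducedFunctor kInfLower (S : Subgroup G)).Normal ∨
      ¬ (inducedFunctor kInfUpper (S : Subgroup G)).Normal) :
    ∃ g : G, g ∈ (S : Subgroup G) ∧ g ∉ pCore p G ∧
      (∀ U V : Subgroup G, IsChiefFactor U V → U ≤ pCore p G →
        iterCommutator U (zpowers g) 4 ≤ V) ∧
      ⁅⁅pCore p G ⊓ centralizer ((pCore p G : Subgroup G) : Set G), zpowers g⁆, zpowers g⁆ = ⊥ ∧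
      (centralizer ((pCore p G : Subgroup G) : Set G) ≤ pCore p G →
        ∃ (N : Subgroup G) (_ : N.Normal), ¬ IsNormalizerPStable p (G ⧸ N)) := by
  haveI := LocalEvenA.pCore_normal' p G
  set T := pCore p G with hT
  have hTp : IsPGroup p T := LocalEvenA.pCore_isPGroup' p G
  obtain ⟨A₀, hA₀c, hA₀3, hA₀1, hA₀C⟩ := exists_critical hTp
  haveI := hA₀c
  set A := A₀.map T.subtype with hA
  haveI hAn : A.Normal := inferInstance
  have hAT : A ≤ T := map_subtype_le _
  have hZA : A ⊓ centralizer (A : Set G) = (A₀ ⊓ centralizer (A₀ : Set T)).map T.subtype :=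
    (map_centralizer_inter T.subtype T.subtype_injective A₀).symm
  have hA3 : ⁅T, A⁆ ≤ A ⊓ centralizer (A : Set G) := by
    rw [hZA]
    refine le_trans (le_of_eq ?_) (map_mono hA₀3)
    rw [map_commutator, ← MonoidHom.range_eq_map, range_subtype]
  have hA2 : ⁅A, A⁆ ≤ centralizer (A : Set G) :=
    (commutator_mono hAT le_rfl).trans (hA3.trans inf_le_right)
  have hCT : ∀ z ∈ T, z ∈ centralizer (A : Set G) → z ∈ A := by
    intro z hz hzC
    refine ⟨⟨z, hz⟩, hA₀C (mem_centralizer_iff.mpr fun a ha => Subtype.ext ?_), rfl⟩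
    exact mem_centralizer_iff.mp hzC (a : G) (mem_map_of_mem _ ha)
  obtain ⟨g, hgS, hgT, hg3, hgZ, hgC⟩ := exists_witness (S := S) (A := A)
    ⟨hAT, hAn, hA2, hA3, fun φ hφ hfix => eq_one_of_fix_critical hTp inferInstance hA₀C φ hφ
      fun a ha => hfix a (mem_map_of_mem _ ha)⟩ hK
  refine ⟨g, hgS, hgT, fun U V hUV hUT => ?_, ?_, fun hc => ?_⟩
  · have hZ2 : ∀ z ∈ A ⊓ centralizer (A : Set G), (del g)^[2] z = 1 := by
      intro z hz
      exact mem_bot.mp (hgZ ▸ iterate_del_mem_iterCommutator hz (mem_zpowers g) 2)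
    have hQi : ∀ U V : Subgroup G, IsChiefFactor U V → U ≤ A → ∀ u ∈ U, (del g)^[3] u ∈ V :=
      fun U V hUV hUA => iterate_del_mem_of_layer hUV (hTp.to_le (hUA.trans hAT)) hUA g 3
        (fun a ha => hg3 (iterate_del_mem_iterCommutator ha (mem_zpowers g) 3))
        (fun z hz => by rw [Function.iterate_succ_apply', hZ2 z hz]; simp [del])
    have hZj : ∀ U V : Subgroup G, IsChiefFactor U V → U ≤ A ⊓ centralizer (A : Set G) →
        ∀ u ∈ U, (del g)^[2] u ∈ V := fun U V hUV hU u hu => by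
      rw [hZ2 u (hU hu)]; exact one_mem V
    exact iterCommutator_le_of_del hUV (hTp.to_le hUT) g 4 (iterate_del_mem_of_critical hTp hAT hA3
      (fun z hz => ⟨hCT z hz.1 hz.2, hz.2⟩) g 3 2 (by omega) (by omega) hQi hZj hUV hUT)
  · refine le_bot_iff.mp (hgZ ▸ commutator_mono (commutator_mono ?_ le_rfl) le_rfl)
    exact fun z hz => ⟨hCT z hz.1 (centralizer_le hAT hz.2), centralizer_le hAT hz.2⟩
  · obtain ⟨U, V, hUV, hUA, hq, hmove⟩ := hgC hc
    haveI := hUV.2.2.1
    exact ⟨V, hUV.2.2.1, not_pStable_of_factor hUV (hTp.to_le (hUA.trans hAT)) hq hmove⟩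

end Cfsg.Agent.ConjFunctor
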