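import Cfsg.Agent.Lib.ConjFunctor.FusionStep

/-!
# Control of fusion from factorizations
-/

set_option autoImplicit false
set_option linter.style.haveILetI false
set_option linter.unusedSectionVars false

namespace Cfsg.Agent.ConjFunctor

open Subgroup

variable {G : Type*} [Group G] [Finite G] {p : ℕ} [hp : Fact p.Prime]
  {W W₁ W₂ : Subgroup G → Subgroup G} {S : Sylow p G}

theorem fusionAt_of_normal {𝒲 : Set (Subgroup G → Subgroup G)} (hW : W ∈ 𝒲)
    (h : (W (S : Subgroup G)).Normal) : FusionAt 𝒲 ⊤ (S : Subgroup G) := by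
  haveI := h
  intro A g _ hA hgA
  refine Reach.single hW ⟨trivial, ?_⟩ hgA
  rw [normalizer_eq_top]
  trivial

theorem fusionAt_of_factor (hW₁ : Cfsg.IsConjugacyFunctor p W₁)
    (hW₂ : Cfsg.IsConjugacyFunctor p W₂)
    (h : ∀ x : G, ∃ a ∈ normalizer ((W₁ (S : Subgroup G) : Subgroup G) : Set G),
      ∃ b ∈ normalizer ((W₂ (S : Subgroup G) : Subgroup G) : Set G), x = a * b) :
    FusionAt {W₁, W₂} ⊤ (S : Subgroup G) := by
  intro A g _ hA hgA
  obtain ⟨n₁, h₁, n₂, h₂, rfl⟩ := h g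
  set N₁ := normalizer ((W₁ (S : Subgroup G) : Subgroup G) : Set G)
  set N₂ := normalizer ((W₂ (S : Subgroup G) : Subgroup G) : Set G)
  have hS₁ : (S : Subgroup G) ≤ N₁ := self_le_normalizer_functor hW₁ S.2
  have hS₂ : (S : Subgroup G) ≤ N₂ := self_le_normalizer_functor hW₂ S.2
  have hPp : IsPGroup p (closure (cS n₂ A) : Subgroup G) :=
    (cj_isPGroup n₂ S.2).to_le ((closure_le _).mpr (by rw [coe_cj]; exact mem_cS_mono hA))
  obtain ⟨m, hm, hle⟩ := exists_conj_le_of_isSylIn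
    (isSylIn_of_le (isSylIn_top S) (le_inf hS₁ hS₂) le_top)
    (Q := closure (cS n₂ A)) (by
      rw [closure_le]
      rintro _ ⟨a, ha, rfl⟩
      refine ⟨?_, N₂.mul_mem (N₂.mul_mem h₂ (hS₂ (hA ha))) (N₂.inv_mem h₂)⟩
      have := N₁.mul_mem (N₁.mul_mem (N₁.inv_mem h₁) (hS₁ (hgA ⟨a, ha, rfl⟩))) h₁
      simpa [mul_assoc] using this) hPp
  have h3 : cS (m * n₂) A ⊆ (S : Subgroup G) := by
    rw [cS_mul]
    rintro _ ⟨x, hx, rfl⟩
    exact hle (conj_mem_cj (Subgroup.subset_closure hx))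
  have r₁ : Reach {W₁, W₂} ⊤ (S : Subgroup G) A (m * n₂) :=
    Reach.single (W := W₂) (Or.inr rfl) ⟨trivial, N₂.mul_mem hm.2 h₂⟩ h3
  have r₂ : Reach {W₁, W₂} ⊤ (S : Subgroup G) (cS (m * n₂) A) (n₁ * m⁻¹) :=
    Reach.single (W := W₁) (Or.inl rfl) ⟨trivial, N₁.mul_mem h₁ (N₁.inv_mem hm.1)⟩ (by
      rw [← cS_mul]
      simpa [mul_assoc] using hgA)
  simpa [mul_assoc] using r₁.mul r₂

end Cfsg.Agent.ConjFunctor
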