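import Cfsg.Agent.Lib.ConjFunctor.Basic

/-!
# Conjugation families, well-placed subgroups, Alperin's theorem
-/

set_option autoImplicit false
set_option linter.style.haveILetI false
set_option linter.unusedSectionVars false

namespace Cfsg.Agent.ConjFunctor

open Subgroup

variable {G : Type*} [Group G] {p : ℕ}

/-- The image of a set under conjugation. -/
abbrev cS (g : G) (A : Set G) : Set G := (fun a => g * a * g⁻¹) '' A

theorem cS_mul (a b : G) (A : Set G) : cS (a * b) A = cS a (cS b A) := by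
  rw [cS, cS, cS, Set.image_image]
  refine Set.image_congr fun x _ => ?_
  group

@[simp] theorem cS_one (A : Set G) : cS 1 A = A := by simp [cS]

theorem cS_inv_cS (a : G) (A : Set G) : cS a⁻¹ (cS a A) = A := by
  rw [← cS_mul]; simp

theorem mem_cS_mono {g : G} {A B : Set G} (h : A ⊆ B) : cS g A ⊆ cS g B := Set.image_mono h

theorem coe_cj (g : G) (H : Subgroup G) : ((cj g H : Subgroup G) : Set G) = cS g (H : Set G) := rfl

theorem cS_subset_of_mem {g : G} {A : Set G} {T : Subgroup G} (hg : g ∈ normalizer (T : Set G))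
    (h : A ⊆ T) : cS g A ⊆ T := by
  rintro _ ⟨a, ha, rfl⟩
  exact (mem_normalizer_iff.mp hg a).mp (h ha)

theorem cj_le_of_cS {g : G} {A : Set G} {H : Subgroup G} (h : cS g A ⊆ H) :
    cj g (closure A) ≤ H := by
  rw [cj, MonoidHom.map_closure, closure_le]
  exact h

/-- `g` is a product of elements normalizing members of `ℱ`, moving `A` step by step. -/
inductive Steps (ℱ : Set (Subgroup G)) (A : Set G) : G → Prop
  | one : Steps ℱ A 1
  | step {c x : G} {T : Subgroup G} : Steps ℱ A c → T ∈ ℱ → cS c A ⊆ (T : Set G) →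
      x ∈ normalizer (T : Set G) → Steps ℱ A (x * c)

variable {ℱ : Set (Subgroup G)} {A B : Set G}

theorem Steps.single {x : G} {T : Subgroup G} (hT : T ∈ ℱ) (hA : A ⊆ (T : Set G))
    (hx : x ∈ normalizer (T : Set G)) : Steps ℱ A x := by
  simpa using Steps.step Steps.one hT (by simpa using hA) hx

theorem Steps.mono {g : G} (h : Steps ℱ A g) (hB : B ⊆ A) : Steps ℱ B g := by
  induction h with
  | one => exact Steps.one
  | step _ hT hc hx ih => exact Steps.step ih hT ((mem_cS_mono hB).trans hc) hx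

theorem Steps.mono_family {ℱ' : Set (Subgroup G)} {g : G} (h : Steps ℱ A g)
    (hℱ : ∀ T ∈ ℱ, T ∈ ℱ') : Steps ℱ' A g := by
  induction h with
  | one => exact Steps.one
  | step _ hT hc hx ih => exact Steps.step ih (hℱ _ hT) hc hx

theorem Steps.trans {c d : G} (h₁ : Steps ℱ A c) (h₂ : Steps ℱ (cS c A) d) :
    Steps ℱ A (d * c) := by
  induction h₂ with
  | one => simpa using h₁
  | step _ hT hc hx ih =>
    rw [mul_assoc]
    exact Steps.step ih hT (by rwa [cS_mul]) hx

theorem Steps.inv {c : G} (h : Steps ℱ A c) : Steps ℱ (cS c A) c⁻¹ := by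
  induction h with
  | one => simpa using Steps.one
  | @step c x T _ hT hc hx ih =>
    rw [mul_inv_rev]
    refine Steps.trans (Steps.single hT ?_ (inv_mem hx)) ?_
    · rw [cS_mul]; exact cS_subset_of_mem hx hc
    · rwa [cS_mul, cS_inv_cS]

/-- Any relation closed under composition that holds for the steps holds for `Steps`. -/
theorem Steps.induction_rel {R : Set G → G → Prop} (h1 : ∀ A, R A 1)
    (hmul : ∀ A c d, R A c → R (cS c A) d → R A (d * c))
    (hstep : ∀ T ∈ ℱ, ∀ B : Set G, B ⊆ (T : Set G) → ∀ x ∈ normalizer (T : Set G), R B x)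
    {g : G} (h : Steps ℱ A g) : R A g := by
  induction h with
  | one => exact h1 A
  | step _ hT hc hx ih => exact hmul _ _ _ ih (hstep _ hT _ hc _ hx)

variable [Finite G] [hp : Fact p.Prime]

/-- Alperin's theorem in the form needed for conjugation families. -/
theorem alperin (S : Sylow p G) (ℱ : Set (Subgroup G))
    (h : ∀ T : Subgroup G, T ≤ (S : Subgroup G) → ∃ U ∈ ℱ, (∃ g : G, cj g T = U) ∧
      IsFN p (S : Subgroup G) U)
    (A : Set G) (g : G) (hA : A ⊆ (S : Subgroup G)) (hg : cS g A ⊆ (S : Subgroup G)) :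
    Steps ℱ A g := by
  suffices H : ∀ n, ∀ T : Subgroup G, T ≤ (S : Subgroup G) → Nat.card (S : Subgroup G) ≤
      Nat.card T + n → ∀ g : G, cj g T ≤ (S : Subgroup G) → Steps ℱ (T : Set G) g by
    exact (H (Nat.card (S : Subgroup G)) (closure A) ((closure_le _).mpr hA)
      (Nat.le_add_left _ _) g (cj_le_of_cS hg)).mono subset_closure
  intro n
  induction n with
  | zero =>
    intro T hT hn g hg
    have hTS : T = (S : Subgroup G) := eq_of_le_of_card_ge hT (by simpa using hn)
    subst hTS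
    obtain ⟨U, hU, ⟨a, ha⟩, hUS⟩ := h _ le_rfl
    have : U = (S : Subgroup G) :=
      eq_of_le_of_card_ge hUS.1 (by rw [← ha, cj_card])
    subst this
    refine Steps.single hU (Set.Subset.refl _) (cj_eq_iff.mp ?_)
    exact eq_of_le_of_card_ge hg (by rw [cj_card])
  | succ n ih =>
    intro T hT hn g hg
    by_cases hTS : T = (S : Subgroup G)
    · subst hTS
      exact ih _ le_rfl (Nat.le_add_right _ _) g hg
    have key : ∀ V : Subgroup G, V ≤ (S : Subgroup G) → Nat.card V = Nat.card T →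
        ∀ a U, U ∈ ℱ → IsFN p (S : Subgroup G) U → cj a V = U →
        ∃ m ∈ normalizer (U : Set G), cj (m * a) V = U ∧ Steps ℱ (V : Set G) (m * a) := by
      intro V hV hVc a U _ hUS ha
      have hne : V ≠ (S : Subgroup G) := fun hh =>
        hTS (eq_of_le_of_card_ge hT (by rw [← hVc, hh]))
      obtain ⟨m, hm, h1, h2⟩ := exists_conj_nS S.2 hUS a ha
      refine ⟨m, hm, h1, (ih (nS (S : Subgroup G) V) inf_le_left ?_ (m * a)
        (h2.trans inf_le_left)).mono (le_nS hV)⟩
      have hlt : Nat.card V < Nat.card (nS (S : Subgroup G) V : Subgroup G) := by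
        refine lt_of_le_of_ne (card_le_of_le (le_nS hV)) fun hc => ?_
        exact (lt_nS S.2 hV hne).ne (eq_of_le_of_card_ge (le_nS hV) hc.ge)
      omega
    obtain ⟨U, hU, ⟨a, ha⟩, hUS⟩ := h T hT
    obtain ⟨m₁, hm₁, h₁, s₁⟩ := key T hT rfl a U hU hUS ha
    obtain ⟨m₂, hm₂, h₂, s₂⟩ := key (cj g T) hg (cj_card g T) (a * g⁻¹) U hU hUS
      (by rw [← cj_mul]; simpa using ha)
    set a₁ := m₁ * a
    set a₂ := m₂ * (a * g⁻¹)
    have hn' : a₂ * g * a₁⁻¹ ∈ normalizer (U : Set G) := by
      have : a₂ * g * a₁⁻¹ = m₂ * m₁⁻¹ := by simp [a₁, a₂, mul_assoc]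
      rw [this]
      exact mul_mem hm₂ (inv_mem hm₁)
    have hA₁ : cS a₁ (T : Set G) = (U : Set G) := by rw [← coe_cj, h₁]
    have hA₂ : cS a₂ ((cj g T : Subgroup G) : Set G) = (U : Set G) := by rw [← coe_cj, h₂]
    have s₃ : Steps ℱ (cS a₁ (T : Set G)) (a₂ * g * a₁⁻¹) :=
      Steps.single hU hA₁.le hn'
    have s₂' : Steps ℱ (U : Set G) a₂⁻¹ := by
      have := s₂.inv
      rwa [hA₂] at this
    have e1 : cS (a₂ * g * a₁⁻¹ * a₁) (T : Set G) = (U : Set G) := by
      rw [inv_mul_cancel_right, cS_mul, ← coe_cj g T, hA₂]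
    have := (s₁.trans s₃).trans (by rw [e1]; exact s₂')
    simpa [mul_assoc] using this

/-- All fully normalized subgroups of `S`. -/
def fnFamily (p : ℕ) (S : Subgroup G) : Set (Subgroup G) := {T | IsFN p S T}

theorem alperin_fn (S : Sylow p G) (A : Set G) (g : G) (hA : A ⊆ (S : Subgroup G))
    (hg : cS g A ⊆ (S : Subgroup G)) : Steps (fnFamily p (S : Subgroup G)) A g := by
  refine alperin S _ (fun T hT => ?_) A g hA hg
  obtain ⟨a, ha⟩ := exists_isFN S hT
  exact ⟨_, ha, ⟨a, rfl⟩, ha⟩

/-! ### Bridge to `IsConjugationFamily` -/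

theorem Steps.to_list {g : G} (h : Steps ℱ A g) :
    ∃ (n : ℕ) (T : Fin n → Subgroup G) (x : Fin n → G), (List.ofFn x).prod = g⁻¹ ∧
      (∀ i, T i ∈ ℱ) ∧ (∀ i, x i ∈ normalizer ((T i : Subgroup G) : Set G)) ∧
      (∀ h : 0 < n, A ⊆ T ⟨0, h⟩) ∧
      ∀ (i : Fin n) (h : i.val + 1 < n),
        (fun a => (((List.ofFn x).take (i.val + 1)).prod)⁻¹ * a *
          ((List.ofFn x).take (i.val + 1)).prod) '' A ⊆ T ⟨i.val + 1, h⟩ := by
  induction h with
  | one => exact ⟨0, Fin.elim0, Fin.elim0, by simp, (fun i => i.elim0), (fun i => i.elim0),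
      fun h => absurd h (lt_irrefl 0), fun i => i.elim0⟩
  | @step c y T' _ hT' hc hy ih =>
    obtain ⟨n, T, x, hx, hℱ, hN, h0, hi⟩ := ih
    have hlist : List.ofFn (Fin.snoc x y⁻¹ : Fin (n + 1) → G) = List.ofFn x ++ [y⁻¹] := by
      rw [List.ofFn_succ']
      simp [List.concat_eq_append]
    have htake : ∀ k, k ≤ n →
        (List.ofFn (Fin.snoc x y⁻¹ : Fin (n + 1) → G)).take k = (List.ofFn x).take k := by
      intro k hk
      rw [hlist, List.take_append_of_le_length (by simpa using hk)]
    refine ⟨n + 1, Fin.snoc T T', Fin.snoc x y⁻¹, ?_, ?_, ?_, ?_, ?_⟩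
    · rw [hlist, List.prod_append, hx]; simp
    · intro i
      refine Fin.lastCases ?_ (fun j => ?_) i
      · simpa using hT'
      · simpa using hℱ j
    · intro i
      refine Fin.lastCases ?_ (fun j => ?_) i
      · simpa using hy
      · simpa using hN j
    · intro _
      rcases Nat.eq_zero_or_pos n with hn | hn
      · subst hn
        have hc1 : c = 1 := by simpa using hx.symm
        subst hc1
        have : (⟨0, by omega⟩ : Fin (0 + 1)) = Fin.last 0 := rfl
        rw [this, Fin.snoc_last]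
        simpa using hc
      · have : (⟨0, by omega⟩ : Fin (n + 1)) = Fin.castSucc ⟨0, hn⟩ := rfl
        rw [this, Fin.snoc_castSucc]
        exact h0 hn
    · intro i hi'
      have hin : i.val + 1 ≤ n := by omega
      simp only [htake _ hin]
      rcases lt_or_eq_of_le hin with hlt | heq
      · have : (⟨i.val + 1, hi'⟩ : Fin (n + 1)) = Fin.castSucc ⟨i.val + 1, hlt⟩ := rfl
        rw [this, Fin.snoc_castSucc]
        exact hi ⟨i.val, by omega⟩ hlt
      · have : (⟨i.val + 1, hi'⟩ : Fin (n + 1)) = Fin.last n := Fin.ext (by simp [heq])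
        rw [this, Fin.snoc_last]
        have hfull : (List.ofFn x).take (i.val + 1) = List.ofFn x :=
          List.take_of_length_le (by simp [heq])
        rw [hfull, hx]
        simpa [cS] using hc

theorem isConjugationFamily_of_steps (S : Subgroup G) (hℱ : ∀ T ∈ ℱ, T ≤ S)
    (h : ∀ (A : Set G) (g : G), A ⊆ S → cS g A ⊆ S → Steps ℱ A g) :
    Cfsg.IsConjugationFamily ℱ S := by
  refine ⟨hℱ, fun A g _ hA hg => ?_⟩
  obtain ⟨n, T, x, h1, h2⟩ := (h A g⁻¹ hA (by simpa [cS] using hg)).to_list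
  exact ⟨n, T, x, by simpa using h1, h2⟩

theorem steps_of_isConjugationFamily {S : Subgroup G} (h : Cfsg.IsConjugationFamily ℱ S)
    (A : Set G) (g : G) (hne : A.Nonempty) (hA : A ⊆ S) (hg : cS g A ⊆ S) : Steps ℱ A g := by
  obtain ⟨n, T, x, hx, hℱ, hN, h0, hi⟩ := h.2 A g⁻¹ hne hA (by simpa [cS] using hg)
  have key : ∀ k, k ≤ n → Steps ℱ A ((List.ofFn x).take k).prod⁻¹ := by
    intro k
    induction k with
    | zero => intro _; simpa using Steps.one
    | succ k ih =>
      intro hk
      rw [List.take_add_one, List.getElem?_ofFn, dif_pos (by omega), Option.toList_some,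
        List.prod_append, List.prod_singleton, mul_inv_rev]
      refine Steps.step (ih (by omega)) (hℱ ⟨k, by omega⟩) ?_ (inv_mem (hN _))
      rcases k with _ | k
      · simpa using h0 (by omega)
      · simpa [cS] using hi ⟨k, by omega⟩ (show k + 1 < n by omega)
  have := key n le_rfl
  rw [List.take_of_length_le (by simp), hx, inv_inv] at this
  exact this

/-! ### Well-placed subgroups -/

theorem tower_shift (W : Subgroup G → Subgroup G) (S T : Subgroup G) (i : ℕ) :
    Cfsg.functorTower W S T (i + 1) = Cfsg.functorTower W S (W (nS S T)) i := by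
  induction i with
  | zero => rfl
  | succ i ih =>
    show W (S ⊓ normalizer ((Cfsg.functorTower W S T (i + 1) : Subgroup G) : Set G)) =
      W (S ⊓ normalizer ((Cfsg.functorTower W S (W (nS S T)) i : Subgroup G) : Set G))
    rw [ih]

variable {W : Subgroup G → Subgroup G} (S : Sylow p G)

theorem wellPlaced_fn {T : Subgroup G} (h : Cfsg.IsWellPlaced p W (S : Subgroup G) T) :
    IsFN p (S : Subgroup G) T := ⟨h.1, h.2 0⟩

theorem wellPlaced_next (hW : Cfsg.IsConjugacyFunctor p W) {T : Subgroup G}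
    (h : Cfsg.IsWellPlaced p W (S : Subgroup G) T) :
    Cfsg.IsWellPlaced p W (S : Subgroup G) (W (nS (S : Subgroup G) T)) :=
  ⟨(functor_le hW S.2.to_inf_left).trans inf_le_left,
    fun i => by rw [← tower_shift]; exact h.2 (i + 1)⟩

theorem nS_le_nS_next (hW : Cfsg.IsConjugacyFunctor p W) (T : Subgroup G) :
    nS (S : Subgroup G) T ≤ nS (S : Subgroup G) (W (nS (S : Subgroup G) T)) :=
  le_inf inf_le_left (self_le_normalizer_functor hW S.2.to_inf_left)

theorem nS_lt_nS_next (hW : Cfsg.IsConjugacyFunctor p W) {T : Subgroup G}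
    (h : nS (S : Subgroup G) T ≠ (S : Subgroup G)) :
    nS (S : Subgroup G) T < nS (S : Subgroup G) (W (nS (S : Subgroup G) T)) :=
  lt_of_lt_of_le (lt_nS S.2 inf_le_left h)
    (inf_le_inf_left _ (normalizer_le_functor hW S.2.to_inf_left))

theorem card_lt_of_lt' {H K : Subgroup G} (h : H < K) : Nat.card H < Nat.card K :=
  lt_of_le_of_ne (card_le_of_le h.le) fun hc => h.ne (eq_of_le_of_card_ge h.le hc.ge)

/-- Induction along the towers of well-placed subgroups. -/
theorem tower_induction (hW : Cfsg.IsConjugacyFunctor p W) (P : Subgroup G → Prop)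
    (hbase : ∀ T, Cfsg.IsWellPlaced p W (S : Subgroup G) T →
      nS (S : Subgroup G) T = (S : Subgroup G) → P T)
    (hstep : ∀ T, Cfsg.IsWellPlaced p W (S : Subgroup G) T →
      nS (S : Subgroup G) T ≠ (S : Subgroup G) → P (W (nS (S : Subgroup G) T)) → P T)
    (T : Subgroup G) (hT : Cfsg.IsWellPlaced p W (S : Subgroup G) T) : P T := by
  suffices H : ∀ n T, Cfsg.IsWellPlaced p W (S : Subgroup G) T →
      Nat.card (S : Subgroup G) ≤ Nat.card (nS (S : Subgroup G) T : Subgroup G) + n → P T by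
    exact H _ T hT (Nat.le_add_left _ _)
  intro n
  induction n with
  | zero => intro T hT hn; exact hbase T hT (eq_of_le_of_card_ge inf_le_left (by simpa using hn))
  | succ n ih =>
    intro T hT hn
    by_cases h : nS (S : Subgroup G) T = (S : Subgroup G)
    · exact hbase T hT h
    · refine hstep T hT h (ih _ (wellPlaced_next S hW hT) ?_)
      have := card_lt_of_lt' (nS_lt_nS_next S hW h)
      omega

theorem nS_S : nS (S : Subgroup G) (S : Subgroup G) = (S : Subgroup G) :=
  inf_eq_left.mpr le_normalizer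

theorem isFN_of_nS_eq {T : Subgroup G} (hT : T ≤ (S : Subgroup G))
    (h : nS (S : Subgroup G) T = (S : Subgroup G)) : IsFN p (S : Subgroup G) T :=
  ⟨hT, fun hdvd => S.not_dvd_index (hdvd.trans
    (by rw [h]; exact relIndex_dvd_index_of_le (inf_eq_left.mp h)))⟩

theorem exists_wellPlaced (hW : Cfsg.IsConjugacyFunctor p W) {T : Subgroup G}
    (hT : T ≤ (S : Subgroup G)) :
    ∃ g : G, Cfsg.IsWellPlaced p W (S : Subgroup G) (cj g T) := by
  suffices H : ∀ n T, T ≤ (S : Subgroup G) →
      Nat.card (S : Subgroup G) ≤ Nat.card (nS (S : Subgroup G) T : Subgroup G) + n →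
      ∃ g : G, Cfsg.IsWellPlaced p W (S : Subgroup G) (cj g T) by
    exact H _ T hT (Nat.le_add_left _ _)
  intro n
  induction n with
  | zero =>
    intro T hT hn
    have hfix : nS (S : Subgroup G) T = (S : Subgroup G) :=
      eq_of_le_of_card_ge inf_le_left (by simpa using hn)
    refine ⟨1, ?_⟩
    rw [cj_one]
    refine ⟨hT, fun i => ?_⟩
    suffices ∀ i, nS (S : Subgroup G) (Cfsg.functorTower W (S : Subgroup G) T i) =
        (S : Subgroup G) ∧ Cfsg.functorTower W (S : Subgroup G) T i ≤ (S : Subgroup G) from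
      (isFN_of_nS_eq S (this i).2 (this i).1).2
    intro i
    induction i with
    | zero => exact ⟨hfix, hT⟩
    | succ i ih =>
      have e : Cfsg.functorTower W (S : Subgroup G) T (i + 1) = W (S : Subgroup G) := by
        show W _ = _
        rw [show (S : Subgroup G) ⊓ normalizer ((Cfsg.functorTower W (S : Subgroup G) T i :
          Subgroup G) : Set G) = (S : Subgroup G) from ih.1]
      rw [e]
      exact ⟨inf_eq_left.mpr (self_le_normalizer_functor hW S.2), functor_le hW S.2⟩
  | succ n ih =>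
    intro T hT hn
    by_cases hfix : nS (S : Subgroup G) T = (S : Subgroup G)
    · exact ih T hT (by rw [hfix]; omega)
    obtain ⟨a, ha⟩ := exists_isFN S hT
    set T₀ := cj a T with hT₀
    have hge : Nat.card (nS (S : Subgroup G) T : Subgroup G) ≤
        Nat.card (nS (S : Subgroup G) T₀ : Subgroup G) := by
      obtain ⟨m, hm, -, h2⟩ := exists_conj_nS S.2 ha a rfl
      have := card_le_of_le h2
      rwa [cj_card] at this
    by_cases hfix₀ : nS (S : Subgroup G) T₀ = (S : Subgroup G)
    · obtain ⟨g, hg⟩ := ih T₀ ha.1 (by rw [hfix₀]; omega)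
      exact ⟨g * a, by rwa [cj_mul]⟩
    set S₁ := nS (S : Subgroup G) T₀ with hS₁
    obtain ⟨b, hb⟩ := ih (W S₁) ((functor_le hW S.2.to_inf_left).trans inf_le_left) (by
      have := card_lt_of_lt' (nS_lt_nS_next S hW hfix₀)
      rw [← hS₁] at *
      omega)
    obtain ⟨m, hm, h1, h2⟩ := exists_conj_nS S.2 (wellPlaced_fn S hb) b rfl
    set c := m * b
    have hcS₁ : cj c S₁ ≤ (S : Subgroup G) :=
      ((cj_le_cj.mpr (nS_le_nS_next S hW T₀)).trans h2).trans inf_le_left
    have hsyl : IsSylIn p (cj c S₁) (normalizer ((cj c T₀ : Subgroup G) : Set G)) := by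
      have := isSylIn_map (ha.sylIn S.2) c
      rwa [cj_normalizer] at this
    have heq : nS (S : Subgroup G) (cj c T₀) = cj c S₁ :=
      eq_of_isSylIn_of_le hsyl (le_inf hcS₁ hsyl.1) inf_le_right S.2.to_inf_left
    refine ⟨c * a, ?_⟩
    rw [cj_mul, ← hT₀]
    refine ⟨(cj_le_cj.mpr (le_nS ha.1)).trans hcS₁, fun i => ?_⟩
    rcases i with _ | i
    · show ¬ p ∣ (nS (S : Subgroup G) (cj c T₀)).relIndex _
      rw [heq]
      exact hsyl.2.2
    · rw [tower_shift, heq, functor_cj hW S.2.to_inf_left, h1]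
      exact hb.2 i

theorem alperin_wellPlaced (hW : Cfsg.IsConjugacyFunctor p W) (A : Set G) (g : G)
    (hA : A ⊆ (S : Subgroup G)) (hg : cS g A ⊆ (S : Subgroup G)) :
    Steps {T | Cfsg.IsWellPlaced p W (S : Subgroup G) T} A g := by
  refine alperin S _ (fun T hT => ?_) A g hA hg
  obtain ⟨a, ha⟩ := exists_wellPlaced S hW hT
  exact ⟨_, ha, ⟨a, rfl⟩, wellPlaced_fn S ha⟩

end Cfsg.Agent.ConjFunctor
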