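import Cfsg.Agent.Lib.ConjFunctor.Family

/-!
# Strong fusion: chains, and the passage from local to global control
-/

set_option autoImplicit false
set_option linter.style.haveILetI false
set_option linter.unusedSectionVars false

namespace Cfsg.Agent.ConjFunctor

open Subgroup

variable {G : Type*} [Group G] {p : ℕ}

/-- A chain of conjugations inside the normalizers `N_H(W T)`, all images of `A` staying in `T`. -/
inductive Chain (𝒲 : Set (Subgroup G → Subgroup G)) (H T : Subgroup G) (A : Set G) : G → Prop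
  | one : Chain 𝒲 H T A 1
  | step {c x : G} {W : Subgroup G → Subgroup G} : Chain 𝒲 H T A c → W ∈ 𝒲 →
      x ∈ H ⊓ normalizer ((W T : Subgroup G) : Set G) → cS (x * c) A ⊆ (T : Set G) →
      Chain 𝒲 H T A (x * c)

/-- The map `a ↦ g a g⁻¹` on `A` is realised by a chain. -/
def Reach (𝒲 : Set (Subgroup G → Subgroup G)) (H T : Subgroup G) (A : Set G) (g : G) : Prop :=
  ∃ c, Chain 𝒲 H T A c ∧ ∀ a ∈ A, c * a * c⁻¹ = g * a * g⁻¹

/-- `𝒲` controls strong fusion in `H` at the Sylow subgroup `T`. -/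
def FusionAt (𝒲 : Set (Subgroup G → Subgroup G)) (H T : Subgroup G) : Prop :=
  ∀ (A : Set G) (h : G), h ∈ H → A ⊆ (T : Set G) → cS h A ⊆ (T : Set G) → Reach 𝒲 H T A h

variable {𝒲 : Set (Subgroup G → Subgroup G)} {H T : Subgroup G} {A B : Set G}

theorem Chain.mono {c : G} (h : Chain 𝒲 H T A c) (hB : B ⊆ A) : Chain 𝒲 H T B c := by
  induction h with
  | one => exact .one
  | step _ hW hx hc ih => exact .step ih hW hx ((mem_cS_mono hB).trans hc)

theorem Chain.trans {c d : G} (h₁ : Chain 𝒲 H T A c) (h₂ : Chain 𝒲 H T (cS c A) d) :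
    Chain 𝒲 H T A (d * c) := by
  induction h₂ with
  | one => simpa using h₁
  | step _ hW hx hc ih =>
    rw [mul_assoc]
    exact .step ih hW hx (by rwa [← mul_assoc, cS_mul])

theorem Chain.image_subset {c : G} (h : Chain 𝒲 H T A c) (hA : A ⊆ (T : Set G)) :
    cS c A ⊆ (T : Set G) := by
  cases h with
  | one => simpa using hA
  | step _ _ _ hc => exact hc

theorem Chain.inv {c : G} (h : Chain 𝒲 H T A c) (hA : A ⊆ (T : Set G)) :
    Chain 𝒲 H T (cS c A) c⁻¹ := by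
  induction h with
  | one => simpa using Chain.one
  | @step c x W hc hW hx hxc ih =>
    rw [mul_inv_rev]
    refine Chain.trans ?_ ?_ (c := x⁻¹)
    · have h2 : cS (x⁻¹ * 1) (cS (x * c) A) ⊆ (T : Set G) := by
        rw [mul_one, cS_mul x c, cS_inv_cS]
        exact hc.image_subset hA
      have := Chain.step (Chain.one (𝒲 := 𝒲) (H := H) (T := T) (A := cS (x * c) A)) hW
        (inv_mem hx) h2
      simpa using this
    · rwa [cS_mul x c, cS_inv_cS]

theorem cS_congr {g h : G} (he : ∀ a ∈ A, g * a * g⁻¹ = h * a * h⁻¹) : cS g A = cS h A :=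
  Set.image_congr he

theorem Reach.one : Reach 𝒲 H T A 1 := ⟨1, .one, fun _ _ => rfl⟩

theorem Reach.mul {g h : G} (h₁ : Reach 𝒲 H T A g) (h₂ : Reach 𝒲 H T (cS g A) h) :
    Reach 𝒲 H T A (h * g) := by
  obtain ⟨c, hc, e₁⟩ := h₁
  obtain ⟨d, hd, e₂⟩ := h₂
  refine ⟨d * c, hc.trans (by rwa [cS_congr e₁]), fun a ha => ?_⟩
  calc d * c * a * (d * c)⁻¹ = d * (c * a * c⁻¹) * d⁻¹ := by group
    _ = d * (g * a * g⁻¹) * d⁻¹ := by rw [e₁ a ha]
    _ = h * (g * a * g⁻¹) * h⁻¹ := e₂ _ ⟨a, ha, rfl⟩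
    _ = h * g * a * (h * g)⁻¹ := by group

theorem Reach.mono {g : G} (h : Reach 𝒲 H T A g) (hB : B ⊆ A) : Reach 𝒲 H T B g := by
  obtain ⟨c, hc, e⟩ := h
  exact ⟨c, hc.mono hB, fun a ha => e a (hB ha)⟩

theorem Reach.of_agree {g g' : G} (h : Reach 𝒲 H T A g)
    (he : ∀ a ∈ A, g * a * g⁻¹ = g' * a * g'⁻¹) : Reach 𝒲 H T A g' := by
  obtain ⟨c, hc, e⟩ := h
  exact ⟨c, hc, fun a ha => (e a ha).trans (he a ha)⟩

theorem Reach.inv {g : G} (h : Reach 𝒲 H T A g) (hA : A ⊆ (T : Set G)) :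
    Reach 𝒲 H T (cS g A) g⁻¹ := by
  obtain ⟨c, hc, e⟩ := h
  refine ⟨c⁻¹, cS_congr e ▸ hc.inv hA, ?_⟩
  rintro _ ⟨a, ha, rfl⟩
  calc c⁻¹ * (g * a * g⁻¹) * c⁻¹⁻¹ = c⁻¹ * (c * a * c⁻¹) * c⁻¹⁻¹ := by rw [e a ha]
    _ = g⁻¹ * (g * a * g⁻¹) * g⁻¹⁻¹ := by group

theorem Reach.single {W : Subgroup G → Subgroup G} {x : G} (hW : W ∈ 𝒲)
    (hx : x ∈ H ⊓ normalizer ((W T : Subgroup G) : Set G)) (hA : cS x A ⊆ (T : Set G)) :
    Reach 𝒲 H T A x :=
  ⟨x, by simpa using Chain.step Chain.one hW hx (by simpa using hA), fun _ _ => rfl⟩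

/-! ### Moving the Sylow subgroup -/

theorem Chain.cj (k : G) (hk : ∀ W ∈ 𝒲, W (cj k T) = ConjFunctor.cj k (W T)) {c : G}
    (h : Chain 𝒲 H T A c) :
    Chain 𝒲 (ConjFunctor.cj k H) (ConjFunctor.cj k T) (cS k A) (k * c * k⁻¹) := by
  induction h with
  | one => simpa using Chain.one
  | @step c x W _ hW hx hc ih =>
    rw [show k * (x * c) * k⁻¹ = k * x * k⁻¹ * (k * c * k⁻¹) by group]
    refine .step ih hW ?_ ?_
    · rw [hk W hW, ← cj_normalizer, ← cj_inf]
      exact conj_mem_cj hx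
    · rw [← cS_mul, show k * x * k⁻¹ * (k * c * k⁻¹) * k = k * (x * c) by group, cS_mul, coe_cj]
      exact mem_cS_mono hc

theorem FusionAt.cj (k : G) (hk : ∀ W ∈ 𝒲, W (cj k T) = ConjFunctor.cj k (W T))
    (h : FusionAt 𝒲 H T) : FusionAt 𝒲 (ConjFunctor.cj k H) (ConjFunctor.cj k T) := by
  intro A g hg hA hgA
  have hA' : cS k⁻¹ A ⊆ (T : Set G) := by
    have := mem_cS_mono (g := k⁻¹) hA
    rwa [coe_cj, cS_inv_cS] at this
  have hgA' : cS (k⁻¹ * g * k) (cS k⁻¹ A) ⊆ (T : Set G) := by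
    have := mem_cS_mono (g := k⁻¹) hgA
    rw [coe_cj, cS_inv_cS] at this
    rwa [← cS_mul, show k⁻¹ * g * k * k⁻¹ = k⁻¹ * g by group, cS_mul]
  obtain ⟨c, hc, e⟩ := h _ _ (mem_cj.mp hg) hA' hgA'
  refine ⟨k * c * k⁻¹, ?_, fun a ha => ?_⟩
  · have := hc.cj k hk
    rwa [← cS_mul, mul_inv_cancel, cS_one] at this
  · calc k * c * k⁻¹ * a * (k * c * k⁻¹)⁻¹
        = k * (c * (k⁻¹ * a * k⁻¹⁻¹) * c⁻¹) * k⁻¹ := by group
      _ = k * (k⁻¹ * g * k * (k⁻¹ * a * k⁻¹⁻¹) * (k⁻¹ * g * k)⁻¹) * k⁻¹ := by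
          rw [e _ ⟨a, ha, rfl⟩]
      _ = g * a * g⁻¹ := by group

/-! ### The two ways of stating control -/

theorem chain_of_fin {n : ℕ} (c : Fin (n + 1) → G) (h0 : c 0 = 1)
    (hs : ∀ i : Fin n, ∃ W ∈ 𝒲,
      c i.succ * (c i.castSucc)⁻¹ ∈ H ⊓ normalizer ((W T : Subgroup G) : Set G))
    (hi : ∀ i : Fin (n + 1), (fun a => c i * a * (c i)⁻¹) '' A ⊆ T) :
    Chain 𝒲 H T A (c (Fin.last n)) := by
  suffices ∀ i : Fin (n + 1), Chain 𝒲 H T A (c i) from this _
  intro i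
  induction i using Fin.induction with
  | zero => rw [h0]; exact .one
  | succ i ih =>
    obtain ⟨W, hW, hx⟩ := hs i
    have := Chain.step ih hW hx (by rw [inv_mul_cancel_right]; exact hi i.succ)
    rwa [inv_mul_cancel_right] at this

theorem Chain.to_fin {c : G} (h : Chain 𝒲 H T A c) (hA : A ⊆ (T : Set G)) :
    ∃ (n : ℕ) (f : Fin (n + 1) → G), f 0 = 1 ∧ f (Fin.last n) = c ∧
      (∀ i : Fin n, ∃ W ∈ 𝒲,
        f i.succ * (f i.castSucc)⁻¹ ∈ H ⊓ normalizer ((W T : Subgroup G) : Set G)) ∧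
      ∀ i : Fin (n + 1), (fun a => f i * a * (f i)⁻¹) '' A ⊆ T := by
  induction h with
  | one => exact ⟨0, fun _ => 1, rfl, rfl, fun i => i.elim0, fun _ => by simpa using hA⟩
  | @step c x W _ hW hx hc ih =>
    obtain ⟨n, f, h0, hlast, hs, hi⟩ := ih
    refine ⟨n + 1, Fin.snoc f (x * c), ?_, by simp, fun i => ?_, fun i => ?_⟩
    · rw [show (0 : Fin (n + 1 + 1)) = Fin.castSucc 0 from rfl, Fin.snoc_castSucc, h0]
    · refine Fin.lastCases ?_ (fun j => ?_) i
      · refine ⟨W, hW, ?_⟩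
        rw [Fin.succ_last, Fin.snoc_last, Fin.snoc_castSucc, hlast]
        simpa using hx
      · rw [Fin.succ_castSucc, Fin.snoc_castSucc, Fin.snoc_castSucc]
        exact hs j
    · refine Fin.lastCases ?_ (fun j => ?_) i
      · simpa [cS] using hc
      · simpa using hi j

theorem familyFusion_of_at {p : ℕ} {H T : Subgroup G} (hT : IsSylIn p T H)
    (h : FusionAt 𝒲 H T) : Cfsg.FamilyControlsStrongFusionIn p 𝒲 H := by
  refine ⟨T, hT.1, hT.2.1, hT.2.2, fun A g hg hA hgA => ?_⟩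
  obtain ⟨c, hc, e⟩ := h A g hg hA hgA
  obtain ⟨n, f, h0, hlast, hs, hi⟩ := hc.to_fin hA
  exact ⟨n, f, h0, hs, hi, fun a ha => by rw [hlast]; exact e a ha⟩

theorem at_of_familyFusion {p : ℕ} {H : Subgroup G}
    (h : Cfsg.FamilyControlsStrongFusionIn p 𝒲 H) :
    ∃ T, IsSylIn p T H ∧ FusionAt 𝒲 H T := by
  obtain ⟨T, h1, h2, h3, h⟩ := h
  refine ⟨T, ⟨h1, h2, h3⟩, fun A g hg hA hgA => ?_⟩
  obtain ⟨n, f, h0, hs, hi, e⟩ := h A g hg hA hgA
  exact ⟨_, chain_of_fin f h0 hs hi, e⟩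

variable {W : Subgroup G → Subgroup G}

theorem Chain.mem_single {c : G} (h : Chain {W} H T A c) :
    c ∈ H ⊓ normalizer ((W T : Subgroup G) : Set G) := by
  induction h with
  | one => exact one_mem _
  | step _ hW hx _ ih =>
    rw [Set.mem_singleton_iff] at hW
    subst hW
    exact mul_mem hx ih

theorem singleFusion_of_at {p : ℕ} {H T : Subgroup G} (hT : IsSylIn p T H)
    (h : FusionAt {W} H T) : Cfsg.ControlsStrongFusionIn p W H := by
  refine ⟨T, hT.1, hT.2.1, hT.2.2, fun A g hg hA hgA => ?_⟩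
  obtain ⟨c, hc, e⟩ := h A g hg hA hgA
  exact ⟨c, hc.mem_single, e⟩

theorem at_of_singleFusion {p : ℕ} {H : Subgroup G} (h : Cfsg.ControlsStrongFusionIn p W H) :
    ∃ T, IsSylIn p T H ∧ FusionAt {W} H T := by
  obtain ⟨T, h1, h2, h3, h⟩ := h
  refine ⟨T, ⟨h1, h2, h3⟩, fun A g hg hA hgA => ?_⟩
  obtain ⟨x, hx, e⟩ := h A g hg hA hgA
  refine (Reach.single (Set.mem_singleton W) hx ?_).of_agree e
  rw [cS_congr e]
  exact hgA

section Finite

variable [Finite G] [hp : Fact p.Prime]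

theorem FusionAt.move (h𝒲 : ∀ W ∈ 𝒲, Cfsg.IsConjugacyFunctor p W) {H T T' : Subgroup G}
    (hT : IsSylIn p T H) (hT' : IsSylIn p T' H) (h : FusionAt 𝒲 H T) : FusionAt 𝒲 H T' := by
  obtain ⟨k, hk, e⟩ := isSylIn_conj hT' hT
  have := h.cj k fun W hW => functor_cj (h𝒲 W hW) hT.2.1 k
  rwa [cj_eq_of_mem hk, e] at this

/-- What is needed at a member `T` of a conjugation family. -/
def StepOK (𝒲 : Set (Subgroup G → Subgroup G)) (S T : Subgroup G) : Prop :=
  ∀ (B : Set G) (x : G), x ∈ normalizer (T : Set G) → B ⊆ (nS S T : Set G) →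
    cS x B ⊆ (nS S T : Set G) → Reach 𝒲 ⊤ S B x

theorem stepOK_of_local {S T : Subgroup G}
    (hloc : FusionAt 𝒲 (normalizer (T : Set G)) (nS S T))
    (hstep : ∀ W ∈ 𝒲, ∀ (B : Set G) (y : G),
      y ∈ normalizer (T : Set G) ⊓ normalizer ((W (nS S T) : Subgroup G) : Set G) →
      B ⊆ (nS S T : Set G) → cS y B ⊆ (nS S T : Set G) → Reach 𝒲 ⊤ S B y) :
    StepOK 𝒲 S T := by
  intro B x hx hB hxB
  obtain ⟨c, hc, e⟩ := hloc B x hx hB hxB
  suffices Reach 𝒲 ⊤ S B c from this.of_agree e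
  clear e
  induction hc with
  | one => exact Reach.one
  | @step c y W hc hW hy hyc ih =>
    refine ih.mul (hstep W hW _ y hy (hc.image_subset hB) ?_)
    rwa [← cS_mul]

/-- From a conjugation family to the whole group. -/
theorem fusionAt_top (S : Sylow p G) (ℱ : Set (Subgroup G)) (hℱ : ∀ T ∈ ℱ, T ≤ (S : Subgroup G))
    (hsteps : ∀ (A : Set G) (g : G), A ⊆ (S : Subgroup G) → cS g A ⊆ (S : Subgroup G) →
      Steps ℱ A g)
    (hok : ∀ T ∈ ℱ, T ≠ ⊥ → StepOK 𝒲 (S : Subgroup G) T) :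
    FusionAt 𝒲 ⊤ (S : Subgroup G) := by
  intro A g _ hA hgA
  refine (hsteps A g hA hgA).induction_rel (R := fun A g => Reach 𝒲 ⊤ (S : Subgroup G) A g)
    (fun _ => Reach.one) (fun _ _ _ h1 h2 => h1.mul h2) fun T hT B hB x hx => ?_
  by_cases hb : T = ⊥
  · subst hb
    refine Reach.one.of_agree fun a ha => ?_
    rw [show a = 1 from mem_bot.mp (hB ha)]
    simp
  · exact hok T hT hb B x hx (hB.trans (le_nS (hℱ T hT)))
      ((cS_subset_of_mem hx hB).trans (le_nS (hℱ T hT)))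

/-- Local control at all fully normalized subgroups gives global control. -/
theorem fusion_of_locals (S : Sylow p G) (h𝒲 : ∀ W ∈ 𝒲, Cfsg.IsConjugacyFunctor p W)
    (hloc : ∀ T : Subgroup G, T ≠ ⊥ → IsFN p (S : Subgroup G) T →
      FusionAt 𝒲 (normalizer (T : Set G)) (nS (S : Subgroup G) T)) :
    FusionAt 𝒲 ⊤ (S : Subgroup G) := by
  refine fusionAt_top S (fnFamily p (S : Subgroup G)) (fun T hT => hT.1) (alperin_fn S) ?_
  suffices H : ∀ n T, T ≠ ⊥ → IsFN p (S : Subgroup G) T → Nat.card (S : Subgroup G) ≤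
      Nat.card (nS (S : Subgroup G) T : Subgroup G) + n → StepOK 𝒲 (S : Subgroup G) T from
    fun T hT hb => H _ T hb hT (Nat.le_add_left _ _)
  intro n
  induction n with
  | zero =>
    intro T hb hT hn
    have hfix : nS (S : Subgroup G) T = (S : Subgroup G) :=
      eq_of_le_of_card_ge inf_le_left (by simpa using hn)
    refine stepOK_of_local (hloc T hb hT) fun W hW B y hy hB hyB => ?_
    rw [hfix] at hy hyB
    exact Reach.single hW ⟨trivial, hy.2⟩ hyB
  | succ n ih =>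
    intro T hb hT hn
    refine stepOK_of_local (hloc T hb hT) fun W hW B y hy hB hyB => ?_
    set S₁ := nS (S : Subgroup G) T with hS₁
    by_cases hfix : S₁ = (S : Subgroup G)
    · rw [hfix] at hy hyB
      exact Reach.single hW ⟨trivial, hy.2⟩ hyB
    have hS₁p : IsPGroup p S₁ := S.2.to_inf_left
    set U := W S₁ with hU
    have hUS : U ≤ (S : Subgroup G) := (functor_le (h𝒲 W hW) hS₁p).trans inf_le_left
    have hlt : Nat.card S₁ < Nat.card (nS (S : Subgroup G) U : Subgroup G) :=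
      card_lt_of_lt' (nS_lt_nS_next S (h𝒲 W hW) hfix)
    obtain ⟨a₀, ha₀⟩ := exists_isFN S hUS
    obtain ⟨m, -, h1, h2⟩ := exists_conj_nS S.2 ha₀ a₀ rfl
    set a := m * a₀
    set U' := cj a₀ U
    have hUb : U ≠ ⊥ := functor_ne_bot (h𝒲 W hW) hS₁p fun h => hb (by
      rw [← le_bot_iff, ← h]; exact le_nS hT.1)
    have hcard : Nat.card S₁ < Nat.card (nS (S : Subgroup G) U' : Subgroup G) := by
      have := card_le_of_le h2
      rw [cj_card] at this
      omega
    have hn1 : Nat.card (S : Subgroup G) ≤ Nat.card S₁ + (n + 1) := hn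
    -- the conjugation by `a` on `N_S(U)`
    have hsub : cS a ((nS (S : Subgroup G) U : Subgroup G) : Set G) ⊆
        ((nS (S : Subgroup G) U' : Subgroup G) : Set G) := by rw [← coe_cj]; exact h2
    have hst := alperin_fn S ((nS (S : Subgroup G) U : Subgroup G) : Set G) a
      (fun x hx => hx.1) (hsub.trans fun x hx => hx.1)
    have hreach : Reach 𝒲 ⊤ (S : Subgroup G) ((nS (S : Subgroup G) U : Subgroup G) : Set G) a := by
      refine (hst.induction_rel (R := fun C g => Nat.card S₁ < C.ncard →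
        Reach 𝒲 ⊤ (S : Subgroup G) C g) (fun _ _ => Reach.one)
        (fun C c d hc hd hC => (hc hC).mul (hd ?_)) ?_) ?_
      · exact (Set.ncard_image_of_injective C (f := fun a => c * a * c⁻¹)
          (MulAut.conj c).injective).symm ▸ hC
      · intro T' hT' C hC x hx hcardC
        have hT'S : T' ≤ (S : Subgroup G) := hT'.1
        have h3 : Nat.card S₁ < Nat.card T' :=
          hcardC.trans_le (Set.ncard_le_ncard hC (Set.toFinite _))
        have h4 := card_le_of_le (le_nS hT'S)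
        refine ih T' (fun h => ?_) hT' (by omega) C x hx (hC.trans (le_nS hT'S))
          ((cS_subset_of_mem hx hC).trans (le_nS hT'S))
        rw [h, card_bot] at h3
        have := Nat.card_pos (α := S₁)
        omega
      · exact hlt.trans_le (Nat.card_coe_set_eq _).le
    have hle : (S₁ : Set G) ⊆ ((nS (S : Subgroup G) U : Subgroup G) : Set G) :=
      nS_le_nS_next S (h𝒲 W hW) T
    have r₁ : Reach 𝒲 ⊤ (S : Subgroup G) B a := hreach.mono (hB.trans hle)
    have hay : a * y * a⁻¹ ∈ normalizer (U' : Set G) := by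
      rw [← h1, ← cj_normalizer]
      exact conj_mem_cj hy.2
    have r₂ : Reach 𝒲 ⊤ (S : Subgroup G) (cS a B) (a * y * a⁻¹) := by
      refine ih U' (fun h => hUb ?_) ha₀ (by omega) _ _ hay
        ((mem_cS_mono (hB.trans hle)).trans hsub) ?_
      · rwa [cj_eq_bot] at h
      · rw [← cS_mul, inv_mul_cancel_right, cS_mul]
        exact (mem_cS_mono (hyB.trans hle)).trans hsub
    have r₃ : Reach 𝒲 ⊤ (S : Subgroup G) (cS a (cS y B)) a⁻¹ :=
      (hreach.mono (hyB.trans hle)).inv fun x hx => (hyB hx).1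
    have := (r₁.mul r₂).mul (g := a * y * a⁻¹ * a) (h := a⁻¹)
      (by rwa [inv_mul_cancel_right, cS_mul])
    simpa [mul_assoc] using this

/-- Local control at well-placed subgroups gives global control, for a single functor. -/
theorem fusion_of_wellPlaced (S : Sylow p G) (hW : Cfsg.IsConjugacyFunctor p W)
    (hloc : ∀ T : Subgroup G, T ≠ ⊥ → Cfsg.IsWellPlaced p W (S : Subgroup G) T →
      FusionAt {W} (normalizer (T : Set G)) (nS (S : Subgroup G) T)) :
    FusionAt {W} ⊤ (S : Subgroup G) := by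
  refine fusionAt_top S {T | Cfsg.IsWellPlaced p W (S : Subgroup G) T} (fun T hT => hT.1)
    (alperin_wellPlaced S hW) fun T hT => ?_
  refine tower_induction S hW (fun T => T ≠ ⊥ → StepOK {W} (S : Subgroup G) T) ?_ ?_ T hT
  · intro T hT hfix hb
    refine stepOK_of_local (hloc T hb hT) fun W' hW' B y hy hB hyB => ?_
    rw [hfix] at hy hyB
    exact Reach.single hW' ⟨trivial, hy.2⟩ hyB
  · intro T hT hfix ih hb
    refine stepOK_of_local (hloc T hb hT) fun W' hW' B y hy hB hyB => ?_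
    rw [Set.mem_singleton_iff] at hW'
    subst hW'
    refine ih (functor_ne_bot hW S.2.to_inf_left fun h => hb ?_) B y hy.2
      (hB.trans (nS_le_nS_next S hW T)) (hyB.trans (nS_le_nS_next S hW T))
    rw [← le_bot_iff, ← h]
    exact le_nS hT.1

end Finite

end Cfsg.Agent.ConjFunctor
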