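import Cfsg.Agent.Lib.ConjFunctor.XferStep
import Cfsg.Agent.Lib.Transfer.Residual

/-!
# Normal subgroups of index p from control of transfer
-/

set_option autoImplicit false
set_option linter.style.haveILetI false
set_option linter.unusedSectionVars false

namespace Cfsg.Agent.ConjFunctor

open Subgroup
open scoped commutatorElement Pointwise

universe u

variable {X : Type u} [Group X] [Finite X] {p : ℕ} [hp : Fact p.Prime]

theorem not_le_commutator_of_normal (S : Sylow p X) [hn : (S : Subgroup X).Normal]
    (hS : (S : Subgroup X) ≠ ⊥)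
    (hN : ∀ g : X, (orderOf g).Coprime p → g ∈ centralizer ((S : Subgroup X) : Set X)) :
    ¬ (S : Subgroup X) ≤ _root_.commutator X := by
  obtain ⟨H, hH⟩ := exists_right_complement'_of_coprime S.card_coprime_index
  have hHi : Nat.card H = (S : Subgroup X).index := by
    rw [← hH.symm.index_eq_card]
  have hHp : (Nat.card H).Coprime p := by
    rw [hHi]
    exact (hp.out.coprime_iff_not_dvd.mpr S.not_dvd_index).symm
  have hHC : H ≤ centralizer ((S : Subgroup X) : Set X) := fun h hh =>
    hN h (hHp.coprime_dvd_left (orderOf_dvd_natCard H hh))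
  have htop : (S : Subgroup X) ⊔ H = ⊤ := hH.sup_eq_top
  haveI hHn : H.Normal := normalizer_eq_top_iff.mp (top_le_iff.mp (htop ▸ sup_le
    ((le_centralizer_iff.mp hHC).trans (centralizer_le_normalizer _)) le_normalizer))
  intro hle
  have h1 : (S : Subgroup X) ≤ H ⊔ ⁅(S : Subgroup X), (S : Subgroup X)⁆ := by
    refine hle.trans ?_
    rw [_root_.commutator_def, commutator_le]
    intro a _ b _
    set J := H ⊔ ⁅(S : Subgroup X), (S : Subgroup X)⁆
    have key : ∀ x : X, ∃ s ∈ (S : Subgroup X),
        QuotientGroup.mk' J x = QuotientGroup.mk' J s := by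
      intro x
      obtain ⟨s, hs, h, hh, rfl⟩ :=
        mem_sup_of_normal_right.mp (htop ▸ mem_top x : x ∈ (S : Subgroup X) ⊔ H)
      exact ⟨s, hs, by rw [map_mul, show QuotientGroup.mk' J h = 1 from
        (QuotientGroup.eq_one_iff h).mpr (mem_sup_left hh), mul_one]⟩
    obtain ⟨s, hs, ea⟩ := key a
    obtain ⟨t, ht, eb⟩ := key b
    refine (QuotientGroup.eq_one_iff (N := J) _).mp ?_
    show QuotientGroup.mk' J ⁅a, b⁆ = 1
    rw [map_commutatorElement, ea, eb, ← map_commutatorElement]
    exact (QuotientGroup.eq_one_iff _).mpr (mem_sup_right (commutator_mem_commutator hs ht))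
  haveI : Group.IsNilpotent (S : Subgroup X) := S.2.isNilpotent
  have h2 := Transfer.le_of_le_sup_commutator le_rfl (by rw [normalizer_eq_top]; exact le_top) h1
  refine hS ?_
  rw [← inf_eq_left.mpr h2]
  exact inf_eq_bot_of_coprime hHp S.2

/-- A Sylow subgroup outside the derived subgroup gives a normal subgroup of index `p`. -/
theorem exists_index_p_of_not_le (S : Sylow p X) (h : ¬ (S : Subgroup X) ≤ _root_.commutator X) :
    ∃ N : Subgroup X, N.Normal ∧ N.index = p := by
  set q := QuotientGroup.mk' (_root_.commutator X) with hq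
  let P : Sylow p (X ⧸ _root_.commutator X) :=
    S.mapSurjective (QuotientGroup.mk'_surjective _)
  haveI : IsMulCommutative (X ⧸ _root_.commutator X) :=
    Normal.quotient_commutative_iff_commutator_le.mpr le_rfl
  open scoped IsMulCommutative in
  have hcomm : ∀ a b : X ⧸ _root_.commutator X, a * b = b * a := fun a b => mul_comm a b
  haveI hPn : (P : Subgroup (X ⧸ _root_.commutator X)).Normal :=
    ⟨fun x hx g => by rw [hcomm g x, mul_inv_cancel_right]; exact hx⟩
  obtain ⟨M, hM⟩ := exists_right_complement'_of_coprime P.card_coprime_index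
  haveI hMn : M.Normal := ⟨fun x hx g => by rw [hcomm g x, mul_inv_cancel_right]; exact hx⟩
  have hne : (P : Subgroup (X ⧸ _root_.commutator X)) ≠ ⊥ := by
    rw [Sylow.coe_mapSurjective, Ne, Subgroup.map_eq_bot_iff, QuotientGroup.ker_mk']
    exact h
  obtain ⟨k, hk⟩ := P.2.exists_card_eq
  have hMi : (M.comap q).index = p ^ k := by
    rw [index_comap_of_surjective _ (QuotientGroup.mk'_surjective _), hM.index_eq_card, hk]
  have hres : Cfsg.pResidual p X ≠ ⊤ := by
    intro ht
    have h1 := Transfer.pResidual_le_of_index_eq_pow (M.comap q) hMi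
    rw [ht, top_le_iff, ← index_eq_one, hMi] at h1
    apply (one_lt_card_iff_ne_bot _).mpr hne |>.ne'
    rw [hk, h1]
  obtain ⟨n, hn⟩ := Transfer.exists_index_pResidual_eq_pow (p := p) (G := X)
  have hn0 : n ≠ 0 := fun h0 => hres (index_eq_one.mp (by rw [hn, h0, pow_zero]))
  have hcard : Nat.card (X ⧸ Cfsg.pResidual p X) = p ^ n := hn
  obtain ⟨N, hN⟩ := Sylow.exists_subgroup_card_pow_prime (G := X ⧸ Cfsg.pResidual p X) p
    (n := n - 1) (by rw [hcard]; exact pow_dvd_pow p (Nat.sub_le n 1))
  have hNi : N.index = p := by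
    have := N.card_mul_index
    rw [hN, hcard, ← Nat.sub_add_cancel (show 1 ≤ n by omega), pow_succ, Nat.add_sub_cancel]
      at this
    exact Nat.eq_of_mul_eq_mul_left (pow_pos hp.out.pos _) this
  haveI : N.Normal := normal_of_index_eq_minFac_card (by
    rw [hNi, hcard, Nat.pow_minFac hn0, hp.out.minFac_eq])
  refine ⟨N.comap (QuotientGroup.mk' _), inferInstance, ?_⟩
  rw [index_comap_of_surjective _ (QuotientGroup.mk'_surjective _), hNi]

end Cfsg.Agent.ConjFunctor
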