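import Cfsg.Agent.Lib.ConjFunctor.Family
import Mathlib.GroupTheory.Focal

/-!
# Control of transfer: from local to global
-/

set_option autoImplicit false
set_option linter.style.haveILetI false
set_option linter.unusedSectionVars false

namespace Cfsg.Agent.ConjFunctor

open Subgroup
open scoped commutatorElement

variable {G : Type*} [Group G] {p : ℕ}

/-- The part of `T` coming from the derived subgroups of the normalizers `N_H(W T)`. -/
def xCtl (𝒲 : Set (Subgroup G → Subgroup G)) (H T : Subgroup G) : Subgroup G :=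
  ⨆ W ∈ 𝒲, T ⊓ ⁅H ⊓ normalizer ((W T : Subgroup G) : Set G),
    H ⊓ normalizer ((W T : Subgroup G) : Set G)⁆

/-- `𝒲` controls transfer in `H` at the Sylow subgroup `T`. -/
def XferAt (𝒲 : Set (Subgroup G → Subgroup G)) (H T : Subgroup G) : Prop :=
  T ⊓ ⁅H, H⁆ ≤ xCtl 𝒲 H T

variable {𝒲 : Set (Subgroup G → Subgroup G)} {W : Subgroup G → Subgroup G} {H T : Subgroup G}

theorem xCtl_le : xCtl 𝒲 H T ≤ T ⊓ ⁅H, H⁆ :=
  iSup₂_le fun _ _ => inf_le_inf_left _ (commutator_mono inf_le_left inf_le_left)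

theorem XferAt.eq (h : XferAt 𝒲 H T) : T ⊓ ⁅H, H⁆ = xCtl 𝒲 H T := le_antisymm h xCtl_le

theorem le_xCtl (hW : W ∈ 𝒲) :
    T ⊓ ⁅H ⊓ normalizer ((W T : Subgroup G) : Set G),
      H ⊓ normalizer ((W T : Subgroup G) : Set G)⁆ ≤ xCtl 𝒲 H T :=
  le_iSup₂_of_le W hW le_rfl

theorem inf_le_xCtl_top (hW : W ∈ 𝒲) :
    T ⊓ ⁅normalizer ((W T : Subgroup G) : Set G), normalizer ((W T : Subgroup G) : Set G)⁆ ≤
      xCtl 𝒲 ⊤ T := by
  have := le_xCtl (T := T) (H := (⊤ : Subgroup G)) hW
  rwa [top_inf_eq] at this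

theorem xCtl_single : xCtl {W} H T = T ⊓ ⁅H ⊓ normalizer ((W T : Subgroup G) : Set G),
    H ⊓ normalizer ((W T : Subgroup G) : Set G)⁆ := by
  simp [xCtl]

theorem xCtl_cj (k : G) (hk : ∀ W ∈ 𝒲, W (cj k T) = cj k (W T)) :
    xCtl 𝒲 (cj k H) (cj k T) = cj k (xCtl 𝒲 H T) := by
  simp only [xCtl, cj, Subgroup.map_iSup]
  refine iSup_congr fun W => iSup_congr fun hW => ?_
  show cj k T ⊓ ⁅cj k H ⊓ _, cj k H ⊓ _⁆ = cj k _
  rw [cj_inf, cj_commutator, cj_inf, cj_normalizer, hk W hW]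

theorem XferAt.cj (k : G) (hk : ∀ W ∈ 𝒲, W (cj k T) = ConjFunctor.cj k (W T))
    (h : XferAt 𝒲 H T) : XferAt 𝒲 (ConjFunctor.cj k H) (ConjFunctor.cj k T) := by
  rw [XferAt, ← cj_commutator, ← cj_inf, xCtl_cj k hk]
  exact cj_le_cj.mpr h

theorem familyTransfer_of_at {p : ℕ} {H T : Subgroup G} (hT : IsSylIn p T H) (h : XferAt 𝒲 H T) :
    Cfsg.FamilyControlsTransferIn p 𝒲 H :=
  ⟨T, hT.1, hT.2.1, hT.2.2, h.eq⟩

theorem at_of_familyTransfer {p : ℕ} {H : Subgroup G}
    (h : Cfsg.FamilyControlsTransferIn p 𝒲 H) : ∃ T, IsSylIn p T H ∧ XferAt 𝒲 H T := by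
  obtain ⟨T, h1, h2, h3, h⟩ := h
  exact ⟨T, ⟨h1, h2, h3⟩, h.le⟩

theorem singleTransfer_of_at {p : ℕ} {H T : Subgroup G} (hT : IsSylIn p T H)
    (h : XferAt {W} H T) : Cfsg.ControlsTransferIn p W H :=
  ⟨T, hT.1, hT.2.1, hT.2.2, by rw [h.eq, xCtl_single]⟩

theorem at_of_singleTransfer {p : ℕ} {H : Subgroup G}
    (h : Cfsg.ControlsTransferIn p W H) : ∃ T, IsSylIn p T H ∧ XferAt {W} H T := by
  obtain ⟨T, h1, h2, h3, h⟩ := h
  exact ⟨T, ⟨h1, h2, h3⟩, by rw [XferAt, xCtl_single, h]⟩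

section Finite

variable [Finite G] [hp : Fact p.Prime]

theorem XferAt.move (h𝒲 : ∀ W ∈ 𝒲, Cfsg.IsConjugacyFunctor p W) {H T T' : Subgroup G}
    (hT : IsSylIn p T H) (hT' : IsSylIn p T' H) (h : XferAt 𝒲 H T) : XferAt 𝒲 H T' := by
  obtain ⟨k, hk, e⟩ := isSylIn_conj hT' hT
  have := h.cj k fun W hW => functor_cj (h𝒲 W hW) hT.2.1 k
  rwa [cj_eq_of_mem hk, e] at this

/-- The fusion relation "each element moves inside `E`". -/
def EqMod (E : Subgroup G) (A : Set G) (g : G) : Prop := ∀ a ∈ A, a⁻¹ * (g * a * g⁻¹) ∈ E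

omit [Finite G] hp in
theorem EqMod.one (E : Subgroup G) (A : Set G) : EqMod E A 1 := fun a _ => by simp

omit [Finite G] hp in
theorem EqMod.mul {E : Subgroup G} {A : Set G} {c d : G} (h₁ : EqMod E A c)
    (h₂ : EqMod E (cS c A) d) : EqMod E A (d * c) := fun a ha => by
  have := mul_mem (h₁ a ha) (h₂ _ ⟨a, ha, rfl⟩)
  simpa [mul_assoc] using this

omit [Finite G] hp in
theorem eqMod_member {E T : Subgroup G} {B : Set G} {x : G} (hB : B ⊆ (T : Set G))
    (hx : x ∈ normalizer (T : Set G))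
    (hE : T ⊓ ⁅normalizer (T : Set G), normalizer (T : Set G)⁆ ≤ E) : EqMod E B x := by
  intro b hb
  refine hE (mem_inf.mpr ⟨mul_mem (inv_mem (hB hb)) ((mem_normalizer_iff.mp hx b).mp (hB hb)), ?_⟩)
  have := commutator_mem_commutator (H₁ := normalizer (T : Set G)) (H₂ := normalizer (T : Set G))
    (inv_mem (le_normalizer (hB hb))) hx
  simpa [commutatorElement_def, mul_assoc] using this

/-- The focal subgroup is generated through a conjugation family. -/
theorem inf_commutator_le (S : Sylow p G) (ℱ : Set (Subgroup G))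
    (hsteps : ∀ (A : Set G) (g : G), A ⊆ (S : Subgroup G) → cS g A ⊆ (S : Subgroup G) →
      Steps ℱ A g)
    (E : Subgroup G)
    (hE : ∀ T ∈ ℱ, T ≠ ⊥ → T ⊓ ⁅normalizer (T : Set G), normalizer (T : Set G)⁆ ≤ E) :
    (S : Subgroup G) ⊓ ⁅(⊤ : Subgroup G), ⊤⁆ ≤ E := by
  rw [inf_comm, ← _root_.commutator_def, commutator_inf_eq_focalSubgroup S, focalSubgroup_def,
    closure_le]
  rintro z ⟨hz, x, hx, u, rfl⟩
  have h1 : u * x⁻¹ * u⁻¹ ∈ (S : Subgroup G) := by
    have := mul_mem (inv_mem hx) hz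
    simpa [commutatorElement_def, mul_assoc] using this
  have hst := hsteps {x⁻¹} u (Set.singleton_subset_iff.mpr (inv_mem hx))
    (by rintro _ ⟨a, ha, rfl⟩; rw [Set.mem_singleton_iff.mp ha]; exact h1)
  have := hst.induction_rel (R := fun A g => EqMod E A g) (EqMod.one E)
    (fun _ _ _ => EqMod.mul) (fun T hT B hB y hy => by
      by_cases hb : T = ⊥
      · subst hb
        intro b hb'
        rw [mem_bot.mp (hB hb')]
        simp
      · exact eqMod_member hB hy (hE T hT hb)) x⁻¹ rfl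
  simpa [commutatorElement_def, mul_assoc] using this

omit [Finite G] hp in
theorem member_le {E T S : Subgroup G} (hT : T ≤ S)
    (h : nS S T ⊓ ⁅normalizer (T : Set G), normalizer (T : Set G)⁆ ≤ E) :
    T ⊓ ⁅normalizer (T : Set G), normalizer (T : Set G)⁆ ≤ E :=
  (inf_le_inf_right _ (le_nS hT)).trans h

/-- Local control of transfer at all fully normalized subgroups gives global control. -/
theorem xfer_of_locals (S : Sylow p G) (h𝒲 : ∀ W ∈ 𝒲, Cfsg.IsConjugacyFunctor p W)
    (hloc : ∀ T : Subgroup G, T ≠ ⊥ → IsFN p (S : Subgroup G) T →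
      XferAt 𝒲 (normalizer (T : Set G)) (nS (S : Subgroup G) T)) :
    XferAt 𝒲 ⊤ (S : Subgroup G) := by
  refine inf_commutator_le S _ (alperin_fn S) _ ?_
  suffices H : ∀ n T, T ≠ ⊥ → IsFN p (S : Subgroup G) T → Nat.card (S : Subgroup G) ≤
      Nat.card (nS (S : Subgroup G) T : Subgroup G) + n →
      nS (S : Subgroup G) T ⊓ ⁅normalizer (T : Set G), normalizer (T : Set G)⁆ ≤
        xCtl 𝒲 ⊤ (S : Subgroup G) from
    fun T hT hb => member_le hT.1 (H _ T hb hT (Nat.le_add_left _ _))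
  intro n
  induction n with
  | zero =>
    intro T hb hT hn
    have hfix : nS (S : Subgroup G) T = (S : Subgroup G) :=
      eq_of_le_of_card_ge inf_le_left (by simpa using hn)
    refine le_trans (hloc T hb hT) (iSup₂_le fun W hW => ?_)
    rw [hfix]
    exact le_trans (inf_le_inf_left _ (commutator_mono inf_le_right inf_le_right))
      (inf_le_xCtl_top hW)
  | succ n ih =>
    intro T hb hT hn
    refine le_trans (hloc T hb hT) (iSup₂_le fun W hW => ?_)
    set S₁ := nS (S : Subgroup G) T with hS₁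
    by_cases hfix : S₁ = (S : Subgroup G)
    · rw [hfix]
      exact le_trans (inf_le_inf_left _ (commutator_mono inf_le_right inf_le_right))
        (inf_le_xCtl_top hW)
    have hS₁p : IsPGroup p S₁ := S.2.to_inf_left
    set U := W S₁ with hU
    have hUS : U ≤ (S : Subgroup G) := (functor_le (h𝒲 W hW) hS₁p).trans inf_le_left
    have hlt : Nat.card S₁ < Nat.card (nS (S : Subgroup G) U : Subgroup G) :=
      card_lt_of_lt' (nS_lt_nS_next S (h𝒲 W hW) hfix)
    obtain ⟨a₀, ha₀⟩ := exists_isFN S hUS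
    obtain ⟨m, -, h1, h2⟩ := exists_conj_nS S.2 ha₀ a₀ rfl
    set a := m * a₀
    set U' := cj a₀ U
    have hUb : U ≠ ⊥ := functor_ne_bot (h𝒲 W hW) hS₁p fun h => hb (by
      rw [← le_bot_iff, ← h]; exact le_nS hT.1)
    have hcard : Nat.card S₁ < Nat.card (nS (S : Subgroup G) U' : Subgroup G) := by
      have := card_le_of_le h2
      rw [cj_card] at this
      omega
    have hn1 : Nat.card (S : Subgroup G) ≤ Nat.card S₁ + (n + 1) := hn
    have hU' : nS (S : Subgroup G) U' ⊓ ⁅normalizer (U' : Set G), normalizer (U' : Set G)⁆ ≤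
        xCtl 𝒲 ⊤ (S : Subgroup G) :=
      ih U' (fun h => hUb (by rwa [cj_eq_bot] at h)) ha₀ (by omega)
    have hsub : cS a ((nS (S : Subgroup G) U : Subgroup G) : Set G) ⊆
        ((nS (S : Subgroup G) U' : Subgroup G) : Set G) := by rw [← coe_cj]; exact h2
    have hst := alperin_fn S ((nS (S : Subgroup G) U : Subgroup G) : Set G) a
      (fun x hx => hx.1) (hsub.trans fun x hx => hx.1)
    have hreach : EqMod (xCtl 𝒲 ⊤ (S : Subgroup G))
        ((nS (S : Subgroup G) U : Subgroup G) : Set G) a := by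
      refine (hst.induction_rel (R := fun C g => Nat.card S₁ < C.ncard →
        EqMod (xCtl 𝒲 ⊤ (S : Subgroup G)) C g) (fun _ _ => EqMod.one _ _)
        (fun C c d hc hd hC => (hc hC).mul (hd ?_)) ?_) ?_
      · exact (Set.ncard_image_of_injective C (f := fun a => c * a * c⁻¹)
          (MulAut.conj c).injective).symm ▸ hC
      · intro T' hT' C hC x hx hcardC
        have h3 : Nat.card S₁ < Nat.card T' :=
          hcardC.trans_le (Set.ncard_le_ncard hC (Set.toFinite _))
        have h4 := card_le_of_le (le_nS hT'.1)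
        refine eqMod_member hC hx (member_le hT'.1 (ih T' (fun h => ?_) hT' (by omega)))
        rw [h, card_bot] at h3
        have := Nat.card_pos (α := S₁)
        omega
      · exact hlt.trans_le (Nat.card_coe_set_eq _).le
    intro x hx
    have hxU : x ∈ nS (S : Subgroup G) U := nS_le_nS_next S (h𝒲 W hW) T hx.1
    have h3 : a * x * a⁻¹ ∈ nS (S : Subgroup G) U' ⊓
        ⁅normalizer (U' : Set G), normalizer (U' : Set G)⁆ := by
      refine mem_inf.mpr ⟨h2 (conj_mem_cj hxU), ?_⟩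
      rw [← h1, ← cj_normalizer, ← cj_commutator]
      exact conj_mem_cj (commutator_mono inf_le_right inf_le_right hx.2)
    have := mul_mem (hU' h3) (inv_mem (hreach x hxU))
    simpa [mul_assoc] using this

/-- Local control at well-placed subgroups gives global control, for a single functor. -/
theorem xfer_of_wellPlaced (S : Sylow p G) (hW : Cfsg.IsConjugacyFunctor p W)
    (hloc : ∀ T : Subgroup G, T ≠ ⊥ → Cfsg.IsWellPlaced p W (S : Subgroup G) T →
      XferAt {W} (normalizer (T : Set G)) (nS (S : Subgroup G) T)) :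
    XferAt {W} ⊤ (S : Subgroup G) := by
  refine inf_commutator_le S _ (alperin_wellPlaced S hW) _ fun T hT hb => member_le hT.1 ?_
  refine tower_induction S hW (fun T => T ≠ ⊥ →
    nS (S : Subgroup G) T ⊓ ⁅normalizer (T : Set G), normalizer (T : Set G)⁆ ≤
      xCtl {W} ⊤ (S : Subgroup G)) ?_ ?_ T hT hb
  · intro T hT hfix hb
    refine le_trans (hloc T hb hT) ?_
    rw [xCtl_single, hfix]
    exact le_trans (inf_le_inf_left _ (commutator_mono inf_le_right inf_le_right))
      (inf_le_xCtl_top (Set.mem_singleton W))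
  · intro T hT hfix ih hb
    refine le_trans (hloc T hb hT) ?_
    rw [xCtl_single]
    refine le_trans (inf_le_inf (nS_le_nS_next S hW T)
      (commutator_mono inf_le_right inf_le_right)) (ih ?_)
    refine functor_ne_bot hW S.2.to_inf_left fun h => hb ?_
    rw [← le_bot_iff, ← h]
    exact le_nS hT.1

end Finite

end Cfsg.Agent.ConjFunctor
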