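import Cfsg.Agent.Lib.ConjFunctor.Fusion
import Cfsg.Agent.Lib.ConjFunctor.Xfer

/-!
# Functors induced on a group by isomorphism-invariant functors; behaviour under homomorphisms
-/

set_option autoImplicit false
set_option linter.style.haveILetI false
set_option linter.unusedSectionVars false

namespace Cfsg.Agent.ConjFunctor

open Subgroup

universe u

variable {G H : Type u} [Group G] [Group H] {p : ℕ}
  {W : ∀ (Q : Type u) [Group Q], Subgroup Q} {𝒲 : Set (∀ (Q : Type u) [Group Q], Subgroup Q)}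

/-- The family of conjugacy functors induced on `G`. -/
abbrev indFam (𝒲 : Set (∀ (Q : Type u) [Group Q], Subgroup Q)) (G : Type u) [Group G] :
    Set (Subgroup G → Subgroup G) :=
  (fun W => Cfsg.inducedFunctor (G := G) W) '' 𝒲

theorem inducedFunctor_le (P : Subgroup G) : Cfsg.inducedFunctor W P ≤ P :=
  map_subtype_le _

/-- An isomorphism-invariant functor commutes with homomorphisms injective on the `p`-group. -/
theorem inducedFunctor_map [Finite G] (hW : Cfsg.IsCharPFunctor.{u} p W) (f : G →* H)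
    (P : Subgroup G) (hP : IsPGroup p P) (hf : Set.InjOn f (P : Set G)) :
    Cfsg.inducedFunctor W (P.map f) = (Cfsg.inducedFunctor W P).map f := by
  let φ : ↥P →* ↥(P.map f) := f.subgroupMap P
  have hbij : Function.Bijective φ :=
    ⟨fun a b h => Subtype.ext (hf a.2 b.2 (congrArg Subtype.val h)), f.subgroupMap_surjective P⟩
  have he := hW.2 ↥P ↥(P.map f) hP (MulEquiv.ofBijective φ hbij)
  unfold Cfsg.inducedFunctor
  rw [← he, Subgroup.map_map, Subgroup.map_map]
  rfl

theorem isConjugacyFunctor_induced [Finite G] (hW : Cfsg.IsCharPFunctor.{u} p W) :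
    Cfsg.IsConjugacyFunctor p (Cfsg.inducedFunctor (G := G) W) := by
  intro P hP
  refine ⟨inducedFunctor_le P, fun hne h => ?_, fun g => ?_⟩
  · refine hW.1 ↥P hP ((Subgroup.nontrivial_iff_ne_bot P).mpr hne) ?_
    exact (map_eq_bot_iff_of_injective _ P.subtype_injective).mp h
  · exact inducedFunctor_map hW _ P hP (MulAut.conj g).injective.injOn

theorem isConjugacyFunctor_indFam [Finite G] (h𝒲 : ∀ W ∈ 𝒲, Cfsg.IsCharPFunctor.{u} p W) :
    ∀ W' ∈ indFam 𝒲 G, Cfsg.IsConjugacyFunctor p W' := by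
  rintro _ ⟨W, hW, rfl⟩
  exact isConjugacyFunctor_induced (h𝒲 W hW)

theorem map_normalizer_of_injective (f : G →* H) (hf : Function.Injective f) (U : Subgroup G) :
    (normalizer (U : Set G)).map f = f.range ⊓ normalizer ((U.map f : Subgroup H) : Set H) := by
  refine le_antisymm (le_inf (map_le_range f _) (le_normalizer_map f)) ?_
  rintro y ⟨⟨x, rfl⟩, hy⟩
  refine ⟨x, ?_, rfl⟩
  refine mem_normalizer_iff.mpr fun u => ?_
  have := mem_normalizer_iff.mp hy (f u)
  rw [← map_inv, ← map_mul, ← map_mul, mem_map_iff_mem hf, mem_map_iff_mem hf] at this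
  exact this

theorem map_inf_normalizer_of_injective (f : G →* H) (hf : Function.Injective f)
    (K U : Subgroup G) :
    (K ⊓ normalizer (U : Set G)).map f =
      K.map f ⊓ normalizer ((U.map f : Subgroup H) : Set H) := by
  rw [map_inf _ _ _ hf, map_normalizer_of_injective f hf, ← inf_assoc,
    inf_eq_left.mpr (map_le_range f K)]

variable [Finite G] [Finite H]

theorem xCtl_map (h𝒲 : ∀ W ∈ 𝒲, Cfsg.IsCharPFunctor.{u} p W) (f : G →* H)
    (hf : Function.Injective f) (K T : Subgroup G) (hT : IsPGroup p T) :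
    xCtl (indFam 𝒲 H) (K.map f) (T.map f) = (xCtl (indFam 𝒲 G) K T).map f := by
  simp only [xCtl, Subgroup.map_iSup, iSup_image]
  refine iSup_congr fun W => iSup_congr fun hW => ?_
  rw [map_inf _ _ _ hf, map_commutator, map_inf_normalizer_of_injective f hf,
    inducedFunctor_map (h𝒲 W hW) f T hT hf.injOn]

theorem XferAt.map (h𝒲 : ∀ W ∈ 𝒲, Cfsg.IsCharPFunctor.{u} p W) (f : G →* H)
    (hf : Function.Injective f) {K T : Subgroup G} (hT : IsPGroup p T)
    (h : XferAt (indFam 𝒲 G) K T) : XferAt (indFam 𝒲 H) (K.map f) (T.map f) := by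
  rw [XferAt, xCtl_map h𝒲 f hf K T hT, ← map_commutator, ← map_inf _ _ _ hf]
  exact map_mono h

theorem isSylIn_map_injective [Fact p.Prime] (f : G →* H) (hf : Function.Injective f)
    {K T : Subgroup G} (hT : IsSylIn p T K) : IsSylIn p (T.map f) (K.map f) :=
  ⟨map_mono hT.1, hT.2.1.map f, by rw [relIndex_map_map_of_injective _ _ hf]; exact hT.2.2⟩

theorem Chain.map (h𝒲 : ∀ W ∈ 𝒲, Cfsg.IsCharPFunctor.{u} p W) (f : G →* H)
    (hf : Function.Injective f) {K T : Subgroup G} (hT : IsPGroup p T) {A : Set G} {c : G}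
    (h : Chain (indFam 𝒲 G) K T A c) :
    Chain (indFam 𝒲 H) (K.map f) (T.map f) (f '' A) (f c) := by
  induction h with
  | one => rw [map_one]; exact .one
  | @step c x W' _ hW hx hc ih =>
    obtain ⟨W, hW, rfl⟩ := hW
    rw [map_mul]
    refine .step ih ⟨W, hW, rfl⟩ ?_ ?_
    · show f x ∈ K.map f ⊓ normalizer ((Cfsg.inducedFunctor W (T.map f) : Subgroup H) : Set H)
      rw [inducedFunctor_map (h𝒲 W hW) f T hT hf.injOn, ← map_inf_normalizer_of_injective f hf]
      exact mem_map_of_mem f hx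
    · rintro _ ⟨_, ⟨a, ha, rfl⟩, rfl⟩
      exact ⟨_, hc ⟨a, ha, rfl⟩, by simp [map_mul]⟩

theorem FusionAt.map (h𝒲 : ∀ W ∈ 𝒲, Cfsg.IsCharPFunctor.{u} p W) (f : G →* H)
    (hf : Function.Injective f) {K T : Subgroup G} (hT : IsPGroup p T)
    (h : FusionAt (indFam 𝒲 G) K T) : FusionAt (indFam 𝒲 H) (K.map f) (T.map f) := by
  intro A g hg hA hgA
  obtain ⟨g₀, hg₀, rfl⟩ := hg
  have hA' : f '' (f ⁻¹' A) = A := Set.image_preimage_eq_of_subset fun a ha => by
    obtain ⟨b, -, e⟩ := hA ha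
    exact ⟨b, e⟩
  obtain ⟨c, hc, e⟩ := h (f ⁻¹' A) g₀ hg₀
    (fun a ha => by
      obtain ⟨b, hb, e⟩ := hA ha
      exact hf e ▸ hb)
    (by
      rintro _ ⟨a, ha, rfl⟩
      obtain ⟨b, hb, e⟩ := hgA ⟨f a, ha, rfl⟩
      have : g₀ * a * g₀⁻¹ = b := hf (by rw [e]; simp [map_mul])
      show g₀ * a * g₀⁻¹ ∈ T
      rw [this]; exact hb)
  refine ⟨f c, hA' ▸ hc.map h𝒲 f hf hT, fun a ha => ?_⟩
  obtain ⟨b, -, rfl⟩ := hA ha
  simpa using congrArg f (e b ha)

end Cfsg.Agent.ConjFunctor
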