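import Cfsg.Agent.Lib.ConjFunctor.NormalComplement

/-!
# Constrained groups with maximal Sylow subgroup: the action on chief factors
-/

set_option autoImplicit false
set_option linter.style.haveILetI false
set_option linter.unusedSectionVars false
set_option linter.unusedVariables false

namespace Cfsg.Agent.ConjFunctor

open Subgroup Cfsg
open scoped commutatorElement

universe u

variable {X : Type u} [Group X] [Finite X] {p : ℕ} [hp : Fact p.Prime]

/-- A chief factor centralized by `M` is central when `X = M T` with `T` a `p`-group over it. -/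
theorem factor_central {U V M T : Subgroup X} (hUV : IsChiefFactor U V) [M.Normal] [V.Normal]
    (hM : M ≤ factorKer U V) (hT : IsPGroup p T) (hUT : U ≤ T) (hMT : M ⊔ T = ⊤) :
    factorKer U V = ⊤ := by
  haveI := hUV.2.1
  rw [← top_le_iff, ← commutator_le_iff_factorKer]
  rcases hUV.2.2.2 (V ⊔ ⁅U, (⊤ : Subgroup X)⁆) inferInstance le_sup_left
      (sup_le hUV.1.le (commutator_le_left _ _)) with e | e
  · exact sup_eq_left.mp e
  exfalso
  haveI : Group.IsNilpotent T := hT.isNilpotent
  refine hUV.1.not_ge (Transfer.le_of_le_sup_commutator hUT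
    (by rw [normalizer_eq_top]; exact le_top) (e.ge.trans (sup_le le_sup_left ?_)))
  rw [Subgroup.commutator_comm, commutator_le]
  intro x _ u hu
  obtain ⟨m, hm, t, ht, rfl⟩ :=
    (Basics.mem_sup_of_le_normalizer (N := M) (H := T) le_normalizer_of_normal).mp
      (hMT.ge (mem_top x))
  have h1 : ⁅t, u⁆ ∈ ⁅U, T⁆ := by
    rw [Subgroup.commutator_comm]; exact commutator_mem_commutator ht hu
  have h2 : ⁅t, u⁆ ∈ U := commutator_le_left U T h1
  rw [show ⁅m * t, u⁆ = ⁅m, ⁅t, u⁆⁆ * ⁅t, u⁆ * ⁅m, u⁆ by
    simp only [commutatorElement_def]; group]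
  exact mul_mem (mul_mem (mem_sup_left (mem_factorKer.mp (hM hm) _ h2)) (mem_sup_right h1))
    (mem_sup_left (mem_factorKer.mp (hM hm) _ hu))

/-- An element of the Sylow subgroup outside `O_p` moves the `p'`-part of the quotient by `O_p`. -/
theorem not_mem_factorKer_residual (T : Sylow p X)
    (hnil : HasNormalPComplement p (X ⧸ pCore p X)) {g : X} (hgT : g ∈ (T : Subgroup X))
    (hg : g ∉ pCore p X) : ∃ m ∈ (pResidual p (X ⧸ pCore p X)).comap (QuotientGroup.mk' _),
      ⁅g, m⁆ ∉ pCore p X := by
  haveI := LocalEvenA.pCore_normal' p X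
  set q := QuotientGroup.mk' (pCore p X)
  set M := (pResidual p (X ⧸ pCore p X)).comap q
  set N := factorKer M (pCore p X)
  by_contra hcon
  push Not at hcon
  have hgN : g ∈ N := mem_factorKer.mpr hcon
  have hMT : M ⊔ (T : Subgroup X) = ⊤ := by
    have h1 := Transfer.pResidual_sup_sylow (T.mapSurjective (QuotientGroup.mk'_surjective (pCore p X)))
    rw [Sylow.coe_mapSurjective] at h1
    have h2 := congrArg (Subgroup.comap q) h1
    rw [comap_top, ← Subgroup.comap_sup_eq _ _ _ (QuotientGroup.mk'_surjective _), comap_map_eq,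
      QuotientGroup.ker_mk'] at h2
    rw [← h2, sup_eq_left.mpr (pCore_le_sylow T)]
  refine hg (LocalEvenA.le_pCore_of_normal ?_ T.2.to_inf_left
    (show g ∈ (T : Subgroup X) ⊓ N from ⟨hgT, hgN⟩))
  rw [← normalizer_eq_top_iff, ← top_le_iff, ← hMT]
  have hcore : pCore p X ≤ (T : Subgroup X) ⊓ N := le_inf (pCore_le_sylow T) fun z hz =>
    mem_factorKer.mpr fun m hm => commutator_le_left _ ⊤ (commutator_mem_commutator hz (mem_top m))
  refine sup_le (fun m hm => ?_) (le_normalizer_inf' le_normalizer
    (by rw [normalizer_eq_top]; exact le_top))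
  refine cj_eq_iff.mp (eq_of_le_of_card_ge ?_ (cj_card m _).ge)
  rintro _ ⟨z, hz, rfl⟩
  show m * z * m⁻¹ ∈ _
  have h1 : m * z * m⁻¹ * z⁻¹ ∈ pCore p X := by
    have := inv_mem (mem_factorKer.mp hz.2 m hm)
    rwa [commutatorElement_inv, commutatorElement_def] at this
  simpa using mul_mem (hcore h1) hz

theorem residual_pow_mem (hnil : HasNormalPComplement p (X ⧸ pCore p X)) (m : X)
    (hm : m ∈ (pResidual p (X ⧸ pCore p X)).comap (QuotientGroup.mk' _)) :
    m ^ Nat.card ↥(pResidual p (X ⧸ pCore p X)) ∈ pCore p X := by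
  rw [← QuotientGroup.eq_one_iff, QuotientGroup.mk_pow]
  exact congrArg Subtype.val (pow_card_eq_one' (x := (⟨_, hm⟩ : ↥(pResidual p (X ⧸ pCore p X)))))

/-- No element outside `O_p` acts on a chief factor below `O_p` nontrivially with
`(g - 1)^(p-1) = 0`. -/
theorem false_of_moved_factor (T : Sylow p X)
    (hnil : HasNormalPComplement p (X ⧸ pCore p X)) (hT : IsCoatom (T : Subgroup X)) {g : X}
    (hgT : g ∈ (T : Subgroup X)) (hg : g ∉ pCore p X) {U V : Subgroup X} (hUV : IsChiefFactor U V)
    (hUQ : U ≤ pCore p X) (hq : iterCommutator U (zpowers g) (p - 1) ≤ V)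
    (hmove : ¬ ⁅U, zpowers g⁆ ≤ V) : False := by
  haveI := hUV.2.1
  haveI := hUV.2.2.1
  haveI := LocalEvenA.pCore_normal' p X
  have hQp : IsPGroup p (pCore p X) := LocalEvenA.pCore_isPGroup' p X
  set q := QuotientGroup.mk' (pCore p X)
  set M := (pResidual p (X ⧸ pCore p X)).comap q with hMdef
  have hQk : pCore p X ≤ factorKer U V :=
    commutator_le_iff_factorKer.mp (chief_commutator_le hUV hQp hUQ)
  have hQM : pCore p X ≤ M := fun x hx => by
    show q x ∈ pResidual p (X ⧸ pCore p X)
    rw [show q x = 1 from (QuotientGroup.eq_one_iff x).mpr hx]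
    exact one_mem _
  obtain ⟨hmin, hab⟩ := maximalShape hnil T hT
  rcases hmin (M ⊓ factorKer U V) inferInstance (le_inf hQM hQk) inf_le_left with e | e
  · obtain ⟨m, hm, hgm⟩ := not_mem_factorKer_residual T hnil hgT hg
    refine hgm (e.le ⟨?_, ?_⟩)
    · rw [commutatorElement_def]
      exact M.mul_mem ((inferInstance : M.Normal).conj_mem m hm g) (M.inv_mem hm)
    · refine factor_commute hUV (hQp.to_le hUQ) (fun u hu => hq
        (iterate_del_mem_iterCommutator hu (mem_zpowers g) _)) (hab.trans hQk)
        (fun a ha => ⟨_, ?_, hQk (residual_pow_mem hnil a ha)⟩) m hm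
      exact (hp.out.coprime_iff_not_dvd.mpr (Transfer.hasNormalPComplement_iff.mp hnil)).symm
  · apply hmove
    rw [commutator_le_iff_factorKer, factor_central hUV (e.ge.trans inf_le_right) T.2
      (hUQ.trans (pCore_le_sylow T))]
    · exact le_top
    · rcases eq_or_lt_of_le (le_sup_right : (T : Subgroup X) ≤ M ⊔ T) with h | h
      · exfalso
        obtain ⟨m, hm, hgm⟩ := not_mem_factorKer_residual T hnil hgT hg
        have h1 : q m = 1 := by
          have hmT : m ∈ (T : Subgroup X) := h.ge (mem_sup_left hm)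
          obtain ⟨k, hk⟩ := T.2 ⟨m, hmT⟩
          refine LocalEvenA.eq_one_of_pPow_of_coprime (p := p) (k := k) ?_ ?_
          · rw [← map_pow]
            exact (congrArg q (congrArg Subtype.val hk)).trans (map_one q)
          · refine ((hp.out.coprime_iff_not_dvd.mpr
              (Transfer.hasNormalPComplement_iff.mp hnil)).symm).coprime_dvd_left ?_
            rw [← Subgroup.orderOf_mk (q m) (show q m ∈ pResidual p (X ⧸ pCore p X) from hm)]
            exact orderOf_dvd_natCard _
        refine hgm ?_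
        rw [commutatorElement_def]
        exact mul_mem (Normal.conj_mem inferInstance m ((QuotientGroup.eq_one_iff m).mp h1) g)
          (inv_mem ((QuotientGroup.eq_one_iff m).mp h1))
      · exact hT.2 _ h

end Cfsg.Agent.ConjFunctor
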