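import Cfsg.Agent.Lib.ConjFunctor.JOffender
import Cfsg.Agent.Lib.ConjFunctor.ComplementControl
import Cfsg.Agent.Lib.ConjFunctor.LocalCases
import Cfsg.Agent.Lib.Transfer.WeakClosureJ
import Cfsg.Agent.Lib.Basics.CoprimeGen
import Cfsg.Agent.Lib.Basics.FpfAbelian

/-!
# `J` and normal `p`-complements for `p ≥ 5`
-/

set_option autoImplicit false
set_option linter.style.haveILetI false
set_option linter.unusedSectionVars false
set_option linter.unusedVariables false

namespace Cfsg.Agent.ConjFunctor.JDeg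

open Subgroup Cfsg
open scoped commutatorElement

universe u

variable {p : ℕ} [hp : Fact p.Prime]

theorem pow_bound {p k : ℕ} (h5 : 5 ≤ p) (hk : 2 ≤ k) : 2 * k + 5 ≤ p ^ (k - 1) * (p - 1) := by
  obtain ⟨m, rfl⟩ : ∃ m, k = m + 2 := ⟨k - 2, by omega⟩
  rw [show m + 2 - 1 = m + 1 by omega]
  refine le_trans ?_ (Nat.mul_le_mul (Nat.pow_le_pow_left h5 (m + 1))
    (show 4 ≤ p - 1 by omega))
  have : ∀ m : ℕ, 2 * (m + 2) + 5 ≤ 5 ^ (m + 1) * 4 := by
    intro m
    induction m with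
    | zero => norm_num
    | succ m ih => rw [pow_succ]; omega
  exact this m

variable {Y : Type u} [Group Y] [Finite Y]

/-- The core: a constrained group with cyclic `T/Q` acting on an abelian `p'`-group over `Q`
has no abelian subgroup of largest order of `T` outside `Q`. -/
theorem core (h5 : 5 ≤ p) (Q T M : Subgroup Y) [Q.Normal] [M.Normal] (hT : IsPGroup p T)
    (hQT : Q ≤ T) (hC : centralizer (Q : Set Y) ≤ Q) (hQM : Q ≤ M) (hMab : ⁅M, M⁆ ≤ Q)
    (hMord : ∀ m ∈ M, ∃ n : ℕ, n.Coprime p ∧ m ^ n ∈ Q)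
    (hcyc : ∀ R : Subgroup Y, R ≤ T → ∃ r ∈ R, R ≤ (R ⊓ Q) ⊔ zpowers r)
    (hmove : ∃ x ∈ T, x ∉ Q ∧ x ^ p ∈ Q ∧ ∃ m ∈ M, ⁅x, m⁆ ∉ Q)
    (A₁ : Subgroup Y) (hA₁ : Transfer.IsMaxAbIn 0 T A₁) (hA₁Q : ¬ A₁ ≤ Q) : False := by
  classical
  have hQp : IsPGroup p Q := hT.to_le hQT
  obtain ⟨x₀, hx₀T, hx₀Q, hx₀p, m₀, hm₀, hxm₀⟩ := hmove
  -- the normal subgroup moved
  set S₀ : Set Y := {y | y ∈ Q} ∪ {y | ∃ m ∈ M, ⁅x₀, m⁆ = y}
  set L := normalClosure S₀
  have hQL : Q ≤ L := fun q hq => subset_normalClosure (Or.inl hq)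
  have hLM : L ≤ M := normalClosure_le_normal (by
    rintro y (hy | ⟨m, hm, rfl⟩)
    · exact hQM hy
    · rw [commutatorElement_def]
      exact M.mul_mem (‹M.Normal›.conj_mem m hm x₀) (M.inv_mem hm))
  set K := closure {y : Y | y ∈ L ∧ (orderOf y).Coprime p}
  haveI hKn : K.Normal := by
    refine ⟨fun y hy t => ?_⟩
    have : K ≤ K.comap (MulAut.conj t).toMonoidHom := (closure_le _).mpr fun z hz =>
      subset_closure ⟨(inferInstance : L.Normal).conj_mem z hz.1 t, by
        rw [MulEquiv.coe_toMonoidHom, MulEquiv.orderOf_eq]; exact hz.2⟩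
    exact this hy
  have hKL : L ≤ Q ⊔ K := by
    intro y hy
    obtain ⟨u, v, hu, hv, huv, ⟨i, hi⟩, hvc⟩ := Transfer.exists_pPart_mul (p := p) y
    obtain ⟨n, hn, hnQ⟩ := hMord y (hLM hy)
    rw [← huv]
    refine mul_mem (mem_sup_left ?_) (mem_sup_right (subset_closure
      ⟨(zpowers_le.mpr hy) hv, hvc⟩))
    rw [← QuotientGroup.eq_one_iff]
    refine LocalEvenA.eq_one_of_pPow_of_coprime (p := p) (k := i) ?_ ?_
    · rw [← QuotientGroup.mk_pow, orderOf_dvd_iff_pow_eq_one.mp hi, QuotientGroup.mk_one]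
    · refine hn.coprime_dvd_left ((orderOf_dvd_of_pow_eq_one ?_))
      have hyq : ((y : Y ⧸ Q)) ^ n = 1 := by
        rw [← QuotientGroup.mk_pow, QuotientGroup.eq_one_iff]; exact hnQ
      obtain ⟨z, rfl⟩ := mem_zpowers_iff.mp hu
      rw [QuotientGroup.mk_zpow, ← zpow_natCast, zpow_comm, zpow_natCast, hyq, one_zpow]
  -- minimal moved normal subgroup
  have hexU : ∃ U : Subgroup Y, (U.Normal ∧ U ≤ Q ∧ ¬ ⁅U, K⁆ ≤ ⊥) := by
    refine ⟨Q, inferInstance, le_rfl, fun h => hxm₀ ?_⟩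
    have hK : K ≤ Q := by
      refine le_trans ?_ hC
      rw [← commutator_eq_bot_iff_le_centralizer, Subgroup.commutator_comm]
      exact le_bot_iff.mp h
    exact (hKL.trans (sup_le le_rfl hK)) (subset_normalClosure (Or.inr ⟨m₀, hm₀, rfl⟩))
  obtain ⟨U, ⟨hUn, hUQ, hUK⟩, hUmin⟩ := Set.exists_min_image
    {U : Subgroup Y | U.Normal ∧ U ≤ Q ∧ ¬ ⁅U, K⁆ ≤ ⊥} (fun U => Nat.card U) (Set.toFinite _) hexU
  haveI := hUn
  have hprop : ∀ W : Subgroup Y, W.Normal → W < U → ⁅W, K⁆ = ⊥ := fun W hW hlt => by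
    by_contra h
    exact (Basics.card_lt_of_lt hlt).not_ge
      (hUmin W ⟨hW, hlt.le.trans hUQ, fun h' => h (le_bot_iff.mp h')⟩)
  have hUU : ⁅U, K⁆ = U := by
    by_contra hne
    have hlt : ⁅U, K⁆ < U := lt_of_le_of_ne (commutator_le_left _ _) hne
    have h0 := hprop _ inferInstance hlt
    refine hUK (le_of_eq (commutator_eq_bot_iff_le_centralizer.mpr fun u hu => ?_))
    have : K ≤ centralizer {u} := (closure_le _).mpr fun h hh => by
      refine mem_centralizer_singleton_iff.mpr (LocalEvenA.comm_of_coprime_chain hh.2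
        (a := u) (p := p) ?_ ?_).eq
      · have hmem : u⁻¹ * (h * u * h⁻¹) ∈ U :=
          mul_mem (inv_mem hu) (hUn.conj_mem u hu h)
        obtain ⟨k, hk⟩ := (hQp.to_le hUQ) ⟨_, hmem⟩
        exact ⟨k, congrArg Subtype.val hk⟩
      · have hmem : u⁻¹ * (h * u * h⁻¹) ∈ ⁅U, K⁆ := by
          have := commutator_mem_commutator (inv_mem hu) (subset_closure hh : h ∈ K)
          simpa [commutatorElement_def, mul_assoc] using this
        exact (mem_centralizer_iff.mp (commutator_eq_bot_iff_le_centralizer.mp h0 hmem) h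
          (subset_closure hh))
    exact mem_centralizer_iff.mpr fun y hy => mem_centralizer_singleton_iff.mp (this hy)
  have hU0 : U ≠ ⊥ := fun h => hUK (by rw [h, commutator_bot_left])
  obtain ⟨V, hUV⟩ := exists_chief_below hUn hU0
  haveI hVn := hUV.2.2.1
  have hVU := hUV.1.le
  have hVK : ⁅V, K⁆ = ⊥ := hprop V hVn hUV.1
  have hUVc : ⁅U, V⁆ = ⊥ := by
    have h1 : ⁅⁅V, K⁆, U⁆ = ⊥ := by rw [hVK, commutator_bot_left]
    have h2 : ⁅⁅U, V⁆, K⁆ = ⊥ := by
      rw [← le_bot_iff, ← hVK]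
      exact commutator_mono (commutator_le_right _ _) le_rfl
    have h3 : ⁅⁅K, U⁆, V⁆ = ⊥ := commutator_commutator_eq_bot_of_rotate h2 h1
    rwa [Subgroup.commutator_comm K U, hUU] at h3
  have hVc : ∀ x ∈ V, ∀ y ∈ V, Commute x y := fun x hx y hy =>
    commutatorElement_eq_one_iff_commute.mp
      (mem_bot.mp (hUVc ▸ commutator_mem_commutator (hVU hx) hy))
  -- the choice of `A`
  obtain ⟨A, ⟨hA, hAQ⟩, hAmax⟩ := Set.exists_max_image
    {R : Subgroup Y | Transfer.IsMaxAbIn 0 T R ∧ ¬ R ≤ Q}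
    (fun R => Nat.card (R ⊓ V : Subgroup Y)) (Set.toFinite _) ⟨A₁, hA₁, hA₁Q⟩
  obtain ⟨a, haA, hgen⟩ := hcyc A hA.1
  have haQ : a ∉ Q := fun h => hAQ (hgen.trans (sup_le inf_le_right (zpowers_le.mpr h)))
  have haT := hA.1 haA
  obtain ⟨k, hk, hkmin⟩ : ∃ k, a ^ p ^ k ∈ Q ∧ ∀ j < k, a ^ p ^ j ∉ Q := by
    obtain ⟨i, hi⟩ := hT ⟨a, haT⟩
    have hex : ∃ k, a ^ p ^ k ∈ Q := ⟨i, by
      rw [show a ^ p ^ i = 1 from congrArg Subtype.val hi]; exact one_mem _⟩
    exact ⟨Nat.find hex, Nat.find_spec hex, fun j hj => Nat.find_min hex hj⟩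
  have hk1 : 1 ≤ k := by
    rcases Nat.eq_zero_or_pos k with rfl | h
    · exact absurd (by simpa using hk) haQ
    · exact h
  have hcard : Nat.card A ≤ Nat.card (A ⊓ Q : Subgroup Y) * p ^ k := by
    let f : ↥(A ⊓ Q : Subgroup Y) × Fin (p ^ k) → ↥A := fun z =>
      ⟨(z.1 : Y) * a ^ (z.2 : ℕ), mul_mem z.1.2.1 (pow_mem haA _)⟩
    refine (Nat.card_le_card_of_surjective f ?_).trans_eq (by simp [Nat.card_prod])
    intro ⟨y, hy⟩
    have hn : zpowers a ≤ normalizer ((A ⊓ Q : Subgroup Y) : Set Y) := zpowers_le.mpr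
      (mem_normalizer_of_conj fun z hz => by
        rwa [(Transfer.AbExp.commute hA.2.1 haA hz.1).eq, mul_inv_cancel_right])
    obtain ⟨c, hc, s, hs, rfl⟩ := (Basics.mem_sup_of_le_normalizer hn).mp (hgen hy)
    obtain ⟨n, rfl⟩ := (isOfFinOrder_of_finite a).mem_powers_iff_mem_zpowers.mpr hs
    refine ⟨(⟨c * (a ^ p ^ k) ^ (n / p ^ k), mul_mem hc
      (pow_mem (show a ^ p ^ k ∈ A ⊓ Q from ⟨pow_mem haA _, hk⟩) _)⟩, ⟨n % p ^ k, Nat.mod_lt _ (pow_pos hp.out.pos k)⟩),
      Subtype.ext ?_⟩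
    show c * (a ^ p ^ k) ^ (n / p ^ k) * a ^ (n % p ^ k) = c * a ^ n
    rw [mul_assoc, ← pow_mul, ← pow_add, Nat.div_add_mod]
  have H : Setup p k Q T U V A a := ⟨inferInstance, hUn, hVn, hT, hQT, hUQ, hVU, hUVc,
    chief_commutator_le hUV hQp hUQ, hA, haA, hgen, hcard⟩
  set L₀ := if k = 1 then 4 else 2 * k + 5 with hL₀
  have hdeg : ∀ b ∈ U, (del a)^[L₀] b ∈ V := by
    intro b hb
    rcases exists_split hVc (hVU.trans (hUQ.trans hQT)) hA
      (fun R hR hRQ => hAmax R ⟨hR, hRQ⟩) with hI | ⟨U₀, C, h1, h2, h3, h4, h5'⟩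
    · have hI' : ∀ v ∈ V, del a v ∈ A := fun v hv => hI v hv a haA
      rcases eq_or_ne k 1 with h | h
      · rw [hL₀, if_pos h, H.degree_one hI' h hb]; exact one_mem _
      · rw [hL₀, if_neg h, H.degree_general hI' hb]; exact one_mem _
    · have h := H.degree_offender h1 (fun v hv => h2 v hv a haA) h3 h4 h5' hb
      have hle : k + 3 ≤ L₀ := by rw [hL₀]; split <;> omega
      rw [show L₀ = (L₀ - (k + 3)) + (k + 3) by omega, Function.iterate_add_apply]
      exact iterate_del_mem a h _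
  have hbound : L₀ ≤ p ^ (k - 1) * (p - 1) := by
    rw [hL₀]
    split
    · next h => subst h; simp; omega
    · next h => exact pow_bound h5 (by omega)
  -- the element of order `p` modulo `Q`
  set x := a ^ p ^ (k - 1) with hx
  have hxQ : x ∉ Q := hkmin _ (by omega)
  have hxp : x ^ p ∈ Q := by
    rw [hx, ← pow_mul, ← pow_succ, Nat.sub_add_cancel hk1]; exact hk
  have hxdeg : ∀ u ∈ U, (del x)^[p - 1] u ∈ V := by
    set q := QuotientGroup.mk' V with hq
    have hqs : Function.Surjective q := QuotientGroup.mk'_surjective V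
    haveI : (U.map q).Normal := hUn.map q hqs
    haveI : IsMulCommutative ↥(U.map q) := by
      rw [← le_centralizer_iff_isMulCommutative, ← commutator_eq_bot_iff_le_centralizer,
        ← map_commutator, Subgroup.map_eq_bot_iff, QuotientGroup.ker_mk']
      exact chief_commutator_self hUV (hQp.to_le hUQ)
    have hexp : ∀ w ∈ U.map q, w ^ p = 1 := by
      rintro _ ⟨u, hu, rfl⟩
      rw [← map_pow, hq, QuotientGroup.mk'_apply, QuotientGroup.eq_one_iff]
      exact chief_pow_mem hUV (hQp.to_le hUQ) hu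
    have h := iterate_del_pow_eq_one (p := p) hexp (q a) (L := L₀) (j := k - 1)
      (by
        rintro _ ⟨u, hu, rfl⟩
        rw [← map_iterate_del, hq, QuotientGroup.mk'_apply, QuotientGroup.eq_one_iff]
        exact hdeg u hu) hbound
    intro u hu
    rw [← QuotientGroup.eq_one_iff, ← QuotientGroup.mk'_apply, ← hq, map_iterate_del]
    rw [hx, map_pow]
    exact h _ (mem_map_of_mem q hu)
  have hQk : Q ≤ factorKer U V := commutator_le_iff_factorKer.mp (chief_commutator_le hUV hQp hUQ)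
  have hxker : ∀ m ∈ M, ⁅x, m⁆ ∈ factorKer U V :=
    factor_commute hUV (hQp.to_le hUQ) hxdeg (hMab.trans hQk) fun m hm => by
      obtain ⟨n, hn, hnQ⟩ := hMord m hm
      exact ⟨n, hn, hQk hnQ⟩
  -- the unique subgroup of order `p`
  have hx₀ker : ∀ m ∈ M, ⁅x₀, m⁆ ∈ factorKer U V := by
    set R := zpowers x₀ ⊔ zpowers x
    obtain ⟨r, hr, hR⟩ := hcyc R (sup_le (zpowers_le.mpr hx₀T) (zpowers_le.mpr (pow_mem haT _)))
    set q := QuotientGroup.mk' Q with hq
    have hrange : ∀ y ∈ R, q y ∈ zpowers (q r) := by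
      intro y hy
      have h1 := mem_map_of_mem q (hR hy)
      rw [Subgroup.map_sup, MonoidHom.map_zpowers,
        show (R ⊓ Q).map q = ⊥ from le_bot_iff.mp ((map_mono inf_le_right).trans
          (QuotientGroup.map_mk'_self Q).le), bot_sup_eq] at h1
      exact h1
    have e1 : orderOf (q x) = p := orderOf_eq_prime
      (by rw [← map_pow]; exact (QuotientGroup.eq_one_iff _).mpr hxp)
      (fun h => hxQ ((QuotientGroup.eq_one_iff _).mp h))
    have e0 : orderOf (q x₀) = p := orderOf_eq_prime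
      (by rw [← map_pow]; exact (QuotientGroup.eq_one_iff _).mpr hx₀p)
      (fun h => hx₀Q ((QuotientGroup.eq_one_iff _).mp h))
    have heq : zpowers (q x₀) = zpowers (q x) := by
      haveI : IsCyclic ↥(zpowers (q r)) := inferInstance
      have hc : ∀ H : Subgroup (Y ⧸ Q), H ≤ zpowers (q r) →
          ∀ H' : Subgroup (Y ⧸ Q), H' ≤ zpowers (q r) → Nat.card H = Nat.card H' → H = H' := by
        intro H hH H' hH' hcard
        have := Basics.cyclic_subgroup_eq_of_card_eq (S := ↥(zpowers (q r)))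
          (A := H.subgroupOf _) (B := H'.subgroupOf _)
          (by rw [Basics.card_subgroupOf hH, Basics.card_subgroupOf hH', hcard])
        rw [← inf_eq_left.mpr hH, ← inf_eq_left.mpr hH', ← subgroupOf_map_subtype, this,
          subgroupOf_map_subtype]
      exact hc _ (zpowers_le.mpr (hrange _ (mem_sup_left (mem_zpowers x₀)))) _
        (zpowers_le.mpr (hrange _ (mem_sup_right (mem_zpowers x))))
        (by rw [Nat.card_zpowers, Nat.card_zpowers, e0, e1])
    obtain ⟨i, hi⟩ := mem_zpowers_iff.mp (heq.le (mem_zpowers (q x₀)))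
    intro m hm
    have hFQ : ∀ y : Y, q y = 1 → y ∈ factorKer U V := fun y hy =>
      hQk ((QuotientGroup.eq_one_iff y).mp hy)
    have hxi : ∀ j : ℕ, ⁅x ^ j, m⁆ ∈ factorKer U V := by
      intro j
      induction j with
      | zero => rw [pow_zero, commutatorElement_one_left]; exact one_mem _
      | succ j ih =>
        rw [pow_succ', commutatorElement_mul_left_eq_conj_mul]
        exact mul_mem ((factorKer_normal U V).conj_mem _ ih x) (hxker m hm)
    obtain ⟨j, hj⟩ := (isOfFinOrder_of_finite (q x)).mem_powers_iff_mem_zpowers.mpr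
      (mem_zpowers_iff.mpr ⟨i, hi⟩)
    have hd : x₀ * (x ^ j)⁻¹ ∈ factorKer U V := hFQ _ (by
      rw [map_mul, map_inv, map_pow]
      exact mul_inv_eq_one.mpr hj.symm)
    have hd' : ⁅x₀ * (x ^ j)⁻¹, m⁆ ∈ factorKer U V := by
      rw [commutatorElement_def, mul_assoc (x₀ * (x ^ j)⁻¹) m, mul_assoc (x₀ * (x ^ j)⁻¹)]
      exact mul_mem hd ((factorKer_normal U V).conj_mem _ (inv_mem hd) m)
    rw [show x₀ = x₀ * (x ^ j)⁻¹ * x ^ j by rw [inv_mul_cancel_right],
      commutatorElement_mul_left_eq_conj_mul]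
    exact mul_mem ((factorKer_normal U V).conj_mem _ (hxi j) _) hd'
  have hLker : L ≤ factorKer U V := normalClosure_le_normal (by
    rintro y (hy | ⟨m, hm, rfl⟩)
    · exact hQk hy
    · exact hx₀ker m hm)
  have hKker : K ≤ factorKer U V := (closure_le _).mpr fun y hy => hLker hy.1
  exact hUV.1.not_ge (hUU.symm.le.trans (commutator_le_iff_factorKer.mpr hKker))

end Cfsg.Agent.ConjFunctor.JDeg

namespace Cfsg.Agent.ConjFunctor

open Subgroup Cfsg
open scoped commutatorElement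

universe u

variable {p : ℕ} [hp : Fact p.Prime] {X : Type u} [Group X] [Finite X]

/-- In a constrained group with maximal Sylow subgroup `J` lies in `O_p`, for `p ≥ 5`. -/
theorem maxAb_le_pCore (h5 : 5 ≤ p) (T : Sylow p X)
    (hC : centralizer ((pCore p X : Subgroup X) : Set X) ≤ pCore p X)
    (hnil : HasNormalPComplement p (X ⧸ pCore p X)) (hT : IsCoatom (T : Subgroup X))
    (A : Subgroup X) (hA : Transfer.IsMaxAbIn 0 (T : Subgroup X) A) : A ≤ pCore p X := by
  classical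
  by_contra hAQ
  haveI := LocalEvenA.pCore_normal' p X
  set Q := pCore p X with hQdef
  have hQp : IsPGroup p Q := LocalEvenA.pCore_isPGroup' p X
  have hQT : Q ≤ (T : Subgroup X) := pCore_le_sylow T
  obtain ⟨-, hab⟩ := maximalShape hnil T hT
  set M := (pResidual p (X ⧸ Q)).comap (QuotientGroup.mk' Q) with hMdef
  haveI := hA.2.1.1
  have hQM : Q ≤ M := fun x hx => by
    show QuotientGroup.mk' Q x ∈ pResidual p (X ⧸ Q)
    rw [show QuotientGroup.mk' Q x = 1 from (QuotientGroup.eq_one_iff x).mpr hx]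
    exact one_mem _
  have hMord : ∀ m ∈ M, ∃ n : ℕ, n.Coprime p ∧ m ^ n ∈ Q := fun m hm =>
    ⟨_, (hp.out.coprime_iff_not_dvd.mpr (Transfer.hasNormalPComplement_iff.mp hnil)).symm,
      residual_pow_mem hnil m hm⟩
  have hTM : ∀ t ∈ (T : Subgroup X), t ∈ M → t ∈ Q := by
    intro t ht htM
    obtain ⟨n, hn, hnQ⟩ := hMord t htM
    obtain ⟨i, hi⟩ := T.2 ⟨t, ht⟩
    rw [← QuotientGroup.eq_one_iff]
    refine LocalEvenA.eq_one_of_pPow_of_coprime (p := p) (k := i) ?_
      (hn.coprime_dvd_left (orderOf_dvd_of_pow_eq_one ?_))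
    · rw [← QuotientGroup.mk_pow, show t ^ p ^ i = 1 from congrArg Subtype.val hi,
        QuotientGroup.mk_one]
    · rw [← QuotientGroup.mk_pow, QuotientGroup.eq_one_iff]; exact hnQ
  set q := QuotientGroup.mk' Q with hq
  -- elements of `M` fixed by `A₁` modulo `Q`
  let C : Subgroup X → Subgroup X := fun B =>
    (centralizer ((B.map q : Subgroup (X ⧸ Q)) : Set (X ⧸ Q))).comap q ⊓ M
  have hmemC : ∀ (B : Subgroup X) (m : X), m ∈ C B ↔ m ∈ M ∧ ∀ e ∈ B, ⁅e, m⁆ ∈ Q := by
    intro B m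
    have key : ∀ e : X, ⁅e, m⁆ ∈ Q ↔ q e * q m = q m * q e := fun e => by
      rw [← QuotientGroup.eq_one_iff, ← QuotientGroup.mk'_apply, ← hq, map_commutatorElement,
        commutatorElement_eq_one_iff_mul_comm]
    constructor
    · exact fun h => ⟨h.2, fun e he => (key e).mpr
        (mem_centralizer_iff.mp h.1 _ (mem_map_of_mem q he))⟩
    · rintro ⟨hm, h⟩
      exact ⟨mem_centralizer_iff.mpr (by rintro _ ⟨e, he, rfl⟩; exact (key e).mp (h e he)), hm⟩
  have hex : ∃ B, A ⊓ Q ≤ B ∧ B ≤ A ∧ ¬ C B ≤ C A := by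
    refine ⟨A ⊓ Q, le_rfl, inf_le_left, fun hle => ?_⟩
    obtain ⟨e, heA, heQ⟩ := SetLike.not_le_iff_exists.mp hAQ
    obtain ⟨m, hm, hem⟩ := not_mem_factorKer_residual T hnil (hA.1 heA) heQ
    refine hem (((hmemC A m).mp (hle ((hmemC _ m).mpr ⟨hm, fun d hd => ?_⟩))).2 e heA)
    rw [commutatorElement_def, mul_assoc d m, mul_assoc d]
    exact mul_mem hd.2 (‹Q.Normal›.conj_mem _ (inv_mem hd.2) m)
  obtain ⟨A₁, ⟨hA₁0, hA₁A, hA₁⟩, hA₁max⟩ := Set.exists_max_image
    {B : Subgroup X | A ⊓ Q ≤ B ∧ B ≤ A ∧ ¬ C B ≤ C A} (fun B => Nat.card B) (Set.toFinite _) hex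
  obtain ⟨m₀, hm₀, hm₀A⟩ := SetLike.not_le_iff_exists.mp hA₁
  have hne : A₁ ≠ A := fun h => hA₁ (h ▸ le_rfl)
  have hstrict : ∀ e ∈ A, e ∉ A₁ → ∀ m ∈ C A₁, ⁅e, m⁆ ∈ Q → m ∈ C A := by
    intro e he heA₁ m hm hem
    have hle : C (A₁ ⊔ zpowers e) ≤ C A := by
      by_contra hn
      have h := hA₁max _ ⟨hA₁0.trans le_sup_left, sup_le hA₁A (zpowers_le.mpr he), hn⟩
      exact heA₁ ((eq_of_le_of_card_ge le_sup_left h).ge (mem_sup_right (mem_zpowers e)))
    refine hle ⟨?_, hm.2⟩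
    show q m ∈ centralizer _
    rw [Subgroup.map_sup, MonoidHom.map_zpowers, mem_centralizer_iff]
    have : A₁.map q ⊔ zpowers (q e) ≤ centralizer {q m} := by
      refine sup_le (fun y hy => mem_centralizer_singleton_iff.mpr
        (mem_centralizer_iff.mp hm.1 y hy)) (zpowers_le.mpr (mem_centralizer_singleton_iff.mpr ?_))
      rwa [← commutatorElement_eq_one_iff_mul_comm, ← map_commutatorElement, hq,
        QuotientGroup.mk'_apply, QuotientGroup.eq_one_iff]
    exact fun y hy => mem_centralizer_singleton_iff.mp (this hy)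
  have hAC : ∀ B : Subgroup X, B ≤ A → A ≤ normalizer (C B : Set X) := by
    intro B hB e he
    refine JDeg.mem_normalizer_of_conj fun m hm => (hmemC B _).mpr
      ⟨(inferInstance : M.Normal).conj_mem m hm.2 e, fun d hd => ?_⟩
    have h := ‹Q.Normal›.conj_mem _ (((hmemC B m).mp hm).2 d hd) e
    rwa [conjugate_commutatorElement, show e * d * e⁻¹ = d by
      rw [(Transfer.AbExp.commute hA.2.1 he (hB hd)).eq, mul_inv_cancel_right]] at h
  -- the abelian quotient is cyclic
  have hA1n : (A₁.subgroupOf A).Normal := inferInstance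
  have hcycA : IsCyclic (↥A ⧸ A₁.subgroupOf A) := by
    by_contra hc
    open scoped IsMulCommutative in
    letI : CommGroup ↥A := inferInstance
    obtain ⟨u, v, hu, hv, hv1, huv⟩ := Basics.exists_two_of_not_isCyclic_pGroup
      ((T.2.to_le hA.1).to_quotient (A₁.subgroupOf A)) hc
    obtain ⟨e, rfl⟩ := QuotientGroup.mk_surjective u
    obtain ⟨f, rfl⟩ := QuotientGroup.mk_surjective v
    rw [← QuotientGroup.mk_pow, QuotientGroup.eq_one_iff, mem_subgroupOf,
      SubgroupClass.coe_pow] at hu hv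
    have hf : (f : X) ∉ A₁ := fun h => hv1 ((QuotientGroup.eq_one_iff f).mpr (mem_subgroupOf.mpr h))
    have hej : ∀ j : ℕ, (e : X) * (f : X) ^ j ∉ A₁ := by
      intro j h
      refine huv ?_
      have h1 : ((e * f ^ j : ↥A) : ↥A ⧸ A₁.subgroupOf A) = 1 :=
        (QuotientGroup.eq_one_iff _).mpr (by rw [mem_subgroupOf]; simpa using h)
      rw [QuotientGroup.mk_mul, QuotientGroup.mk_pow, mul_eq_one_iff_eq_inv] at h1
      rw [h1]
      exact inv_mem (pow_mem (mem_zpowers _) j)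
    have hK := Basics.le_genCent (A.map q) p (q (e : X)) (q (f : X)) (mem_map_of_mem q e.2)
      (mem_map_of_mem q f.2) ((C A₁).map q)
      ((map_mono (hAC A₁ hA₁A)).trans (le_normalizer_map q)) ?_ ?_ ?_ ?_
    · have hsub : Basics.genCent (q (e : X)) (q (f : X)) ((C A₁).map q) ≤
          (C A).map q := by
        have h : ∀ g ∈ A, g ∉ A₁ →
            (C A₁).map q ⊓ centralizer {q g} ≤ (C A).map q := by
          rintro g hg hg1 _ ⟨⟨m, hm, rfl⟩, hc⟩
          refine mem_map_of_mem q (hstrict g hg hg1 m hm ?_)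
          rw [← QuotientGroup.eq_one_iff, ← QuotientGroup.mk'_apply, ← hq, map_commutatorElement,
            commutatorElement_eq_one_iff_mul_comm]
          exact (mem_centralizer_singleton_iff.mp hc).symm
        refine sup_le (iSup_le fun j => ?_) (h f f.2 hf)
        rw [← map_pow, ← map_mul]
        exact h _ (mul_mem e.2 (pow_mem f.2 j)) (hej j)
      obtain ⟨m', hm', hmm'⟩ := hsub (hK (mem_map_of_mem q hm₀))
      refine hm₀A ?_
      have hd : m'⁻¹ * m₀ ∈ Q := QuotientGroup.eq.mp hmm'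
      rw [show m₀ = m' * (m'⁻¹ * m₀) by rw [mul_inv_cancel_left]]
      refine mul_mem hm' ((hmemC A _).mpr ⟨hQM hd, fun d _ => ?_⟩)
      rw [commutatorElement_def]
      exact mul_mem (‹Q.Normal›.conj_mem _ hd d) (inv_mem hd)
    all_goals first
      | (refine mem_centralizer_iff.mpr ?_
         rintro _ ⟨m, hm, rfl⟩
         rw [← map_pow]
         exact (mem_centralizer_iff.mp hm.1 _ (mem_map_of_mem q (by assumption))).symm)
      | skip
    · obtain ⟨i, hi⟩ := ((T.2.to_le hA.1).map q).exists_card_eq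
      rw [hi]
      refine Nat.Coprime.pow_left i ?_
      exact (Transfer.hasNormalPComplement_iff.mp hnil |> fun h =>
        (hp.out.coprime_iff_not_dvd.mpr h).coprime_dvd_right
          (card_dvd_of_le ((map_mono inf_le_right).trans (map_comap_le _ _))))
    · exact (hp.out.coprime_iff_not_dvd.mpr (Transfer.hasNormalPComplement_iff.mp hnil)
        ).coprime_dvd_right (card_dvd_of_le ((map_mono inf_le_right).trans (map_comap_le _ _)))
  -- the subgroup `Y`
  set Y := C A₁ ⊔ A with hYdef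
  have hQC : Q ≤ C A₁ := fun y hy => (hmemC A₁ y).mpr ⟨hQM hy, fun d _ => by
    rw [commutatorElement_def]
    exact mul_mem (‹Q.Normal›.conj_mem _ hy d) (inv_mem hy)⟩
  set Q' := Q ⊔ A₁ with hQ'def
  have hQ'Y : Q' ≤ Y := sup_le (hQC.trans le_sup_left) (hA₁A.trans le_sup_right)
  have hTle : Q ⊔ A ≤ (T : Subgroup X) := sup_le hQT hA.1
  have hTY : Q ⊔ A ≤ Y := sup_le (hQC.trans le_sup_left) le_sup_right
  set M' := C A₁ ⊔ A₁ with hM'def
  have hM'Y : M' ≤ Y := sup_le le_sup_left (hA₁A.trans le_sup_right)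
  have hC1 : C A₁ ≤ normalizer (Q' : Set X) := by
    intro m hm
    refine JDeg.mem_normalizer_of_conj fun y hy => ?_
    rw [hQ'def, ← SetLike.mem_coe, normal_mul Q A₁] at hy
    obtain ⟨c, hc, d, hd, rfl⟩ := hy
    rw [show m * (c * d) * m⁻¹ = m * c * m⁻¹ * (⁅d, m⁆⁻¹ * d) by
      simp only [commutatorElement_def]; group]
    exact mul_mem (mem_sup_left (‹Q.Normal›.conj_mem c hc m))
      (mul_mem (mem_sup_left (inv_mem (((hmemC A₁ m).mp hm).2 d hd))) (mem_sup_right hd))
  have hAn : A ≤ normalizer (A₁ : Set X) := fun e he => JDeg.mem_normalizer_of_conj fun d hd => by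
    rwa [(Transfer.AbExp.commute hA.2.1 he (hA₁A hd)).eq, mul_inv_cancel_right]
  have hAQn : A ≤ normalizer (Q' : Set X) := fun e he => by
    have h1 := hAn he
    rw [mem_normalizer_iff_map_conj_eq] at h1 ⊢
    rw [hQ'def, Subgroup.map_sup, h1, mem_normalizer_iff_map_conj_eq.mp
      ((normalizer_eq_top (H := Q)).symm ▸ mem_top e)]
  have hYQ' : Y ≤ normalizer (Q' : Set X) := sup_le hC1 hAQn
  have hA1C : A₁ ≤ normalizer (C A₁ : Set X) := hA₁A.trans (hAC A₁ hA₁A)
  have hYM' : Y ≤ normalizer (M' : Set X) := by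
    have hmm : ∀ m ∈ C A₁, ∀ d ∈ A₁, m * d * m⁻¹ ∈ M' := by
      intro m hm d hd
      rw [show m * d * m⁻¹ = ⁅d, m⁆⁻¹ * d by simp only [commutatorElement_def]; group]
      exact mul_mem (mem_sup_left (hQC (inv_mem (((hmemC A₁ m).mp hm).2 d hd))))
        (mem_sup_right hd)
    refine sup_le (fun m hm => JDeg.mem_normalizer_of_conj fun y hy => ?_) fun e he => ?_
    · have hle : M' ≤ M'.comap (MulAut.conj m).toMonoidHom := sup_le
        (fun z hz => mem_sup_left (mul_mem (mul_mem hm hz) (inv_mem hm)))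
        (fun d hd => hmm m hm d hd)
      exact hle hy
    · have h1 := hAn he
      have h2 := hAC A₁ hA₁A he
      rw [mem_normalizer_iff_map_conj_eq] at h1 h2 ⊢
      rw [hM'def, Subgroup.map_sup, h1, h2]
  haveI : (Q'.subgroupOf Y).Normal := normal_subgroupOf_of_le_normalizer hYQ'
  haveI : (M'.subgroupOf Y).Normal := normal_subgroupOf_of_le_normalizer hYM'
  have hAQ' : A ⊓ Q' = A₁ := by
    refine le_antisymm (fun y hy => ?_) (le_inf hA₁A le_sup_right)
    obtain ⟨hyA, hy⟩ := hy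
    change y ∈ Q ⊔ A₁ at hy
    rw [← SetLike.mem_coe, normal_mul Q A₁] at hy
    obtain ⟨c, hc, d, hd, rfl⟩ := hy
    refine mul_mem (hA₁0 ⟨?_, hc⟩) hd
    have := mul_mem (show c * d ∈ A from hyA) (A.inv_mem (hA₁A hd))
    simpa using this
  have hAQY : ∀ y ∈ Q ⊔ A, ∃ c ∈ Q, ∃ e ∈ A, c * e = y := fun y hy => by
    rw [← SetLike.mem_coe, normal_mul Q A] at hy
    exact hy
  have hCQ' : ∀ m ∈ C A₁, m ∈ Q' → m ∈ Q := fun m hm hmQ =>
    hTM m ((sup_le hQT (hA₁A.trans hA.1) : Q' ≤ (T : Subgroup X)) hmQ) hm.2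
  refine JDeg.core (p := p) (Y := ↥Y) h5 (Q'.subgroupOf Y) ((Q ⊔ A).subgroupOf Y)
    (M'.subgroupOf Y) ((T.2.to_le hTle).comap_subtype)
    (subgroupOf_mono _ (sup_le_sup_left hA₁A Q)) ?_ (subgroupOf_mono _ (sup_le_sup_right hQC A₁)) ?_
    ?_ ?_ ?_ (A.subgroupOf Y) ?_ ?_
  · intro y hy
    rw [mem_subgroupOf]
    refine mem_sup_left (hC (mem_centralizer_iff.mpr fun c hc => ?_))
    exact congrArg Subtype.val (mem_centralizer_iff.mp hy ⟨c, hQC.trans le_sup_left hc⟩
      (mem_subgroupOf.mpr (mem_sup_left hc)))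
  · rw [← map_le_map_iff_of_injective Y.subtype_injective, map_commutator,
      subgroupOf_map_subtype, subgroupOf_map_subtype, inf_eq_left.mpr hM'Y, inf_eq_left.mpr hQ'Y]
    haveI : (Q'.subgroupOf Y).Normal := inferInstance
    have hgoal : ∀ s ∈ (C A₁ : Set X) ∪ A₁, ∀ t ∈ (C A₁ : Set X) ∪ A₁, ⁅s, t⁆ ∈ Q' := by
      rintro s (hs | hs) t (ht | ht)
      · exact mem_sup_left (hab (commutator_mem_commutator hs.2 ht.2))
      · rw [← commutatorElement_inv]
        exact mem_sup_left (inv_mem (((hmemC A₁ s).mp hs).2 t ht))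
      · exact mem_sup_left (((hmemC A₁ t).mp ht).2 s hs)
      · rw [commutatorElement_eq_one_iff_commute.mpr
          (Transfer.AbExp.commute hA.2.1 (hA₁A hs) (hA₁A ht))]
        exact one_mem _
    refine commutator_le.mpr fun s hs t ht => ?_
    have hcl : M' = closure ((C A₁ : Set X) ∪ A₁) := by
      rw [Subgroup.closure_union, Subgroup.closure_eq, Subgroup.closure_eq]
    have hsY : s ∈ normalizer (Q' : Set X) := hYQ' (hM'Y hs)
    have htY : t ∈ normalizer (Q' : Set X) := hYQ' (hM'Y ht)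
    rw [hcl] at hs ht
    induction hs, ht using closure_induction₂ with
    | mem s t hs ht => exact hgoal s hs t ht
    | one_left t ht => rw [commutatorElement_one_left]; exact one_mem _
    | one_right s hs => rw [commutatorElement_one_right]; exact one_mem _
    | mul_left u v w hu hv hw h1 h2 =>
      have hu' : u ∈ normalizer (Q' : Set X) := hYQ' (hM'Y (hcl ▸ hu))
      rw [commutatorElement_mul_left_eq_conj_mul]
      exact mul_mem ((mem_normalizer_iff.mp hu' _).mp (h2 (hYQ' (hM'Y (hcl ▸ hv))) htY))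
        (h1 hu' htY)
    | mul_right u v w hu hv hw h1 h2 =>
      have hu' : u ∈ normalizer (Q' : Set X) := hYQ' (hM'Y (hcl ▸ hu))
      rw [commutatorElement_mul_right_eq_mul_conj, mul_assoc _ u, mul_assoc]
      exact mul_mem (h1 hsY hu') ((mem_normalizer_iff.mp hu' _).mp
        (h2 hsY (hYQ' (hM'Y (hcl ▸ hv)))))
    | inv_left u w hu hw h =>
      have hu' : u ∈ normalizer (Q' : Set X) := hYQ' (hM'Y (hcl ▸ hu))
      rw [commutatorElement_inv_left, ← commutatorElement_inv u w]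
      exact (mem_normalizer_iff''.mp hu' _).mp (inv_mem (h hu' htY))
    | inv_right u w hu hw h =>
      have hw' : w ∈ normalizer (Q' : Set X) := hYQ' (hM'Y (hcl ▸ hw))
      rw [commutatorElement_inv_right, ← commutatorElement_inv u w]
      exact (mem_normalizer_iff''.mp hw' _).mp (inv_mem (h hsY hw'))
  · intro y hy
    rw [mem_subgroupOf, hM'def, ← SetLike.mem_coe,
      coe_mul_of_right_le_normalizer_left _ _ hA1C] at hy
    obtain ⟨m, hm, d, hd, hmd⟩ := hy
    obtain ⟨n, hn, hnQ⟩ := hMord m hm.2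
    refine ⟨n, hn, mem_subgroupOf.mpr ?_⟩
    have hmn : m ∈ normalizer (Q' : Set X) := hC1 hm
    have key : ∀ i : ℕ, ∃ c ∈ Q', (m * d) ^ i = c * m ^ i := by
      intro i
      induction i with
      | zero => exact ⟨1, one_mem _, by simp⟩
      | succ i ih =>
        obtain ⟨c, hc, he⟩ := ih
        refine ⟨c * (m ^ (i + 1) * d * (m ^ (i + 1))⁻¹), mul_mem hc
          ((mem_normalizer_iff.mp (pow_mem hmn (i + 1)) d).mp (mem_sup_right hd)), ?_⟩
        rw [pow_succ, he, pow_succ m i]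
        group
    obtain ⟨c, hc, he⟩ := key n
    rw [SubgroupClass.coe_pow, ← hmd, he]
    exact mul_mem hc (mem_sup_left hnQ)
  · intro R hR
    set g : ↥A →* ↥A ⧸ A₁.subgroupOf A := QuotientGroup.mk' _
    let B : Subgroup ↥A := ((R.map Y.subtype) ⊔ Q).subgroupOf A
    obtain ⟨z, hz⟩ := (inferInstance : IsCyclic ↥(B.map g)).exists_zpow_surjective
    obtain ⟨z', hz'B, hz'⟩ := z.2
    have hRn : R.map Y.subtype ≤ normalizer (Q : Set X) := by
      rw [normalizer_eq_top]; exact le_top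
    obtain ⟨r', hr', c, hc, hrc⟩ : ∃ r' ∈ R.map Y.subtype, ∃ c ∈ Q, r' * c = (z' : X) := by
      have := mem_subgroupOf.mp hz'B
      rw [← SetLike.mem_coe, coe_mul_of_left_le_normalizer_right _ _ hRn] at this
      exact this
    obtain ⟨r, hr, rfl⟩ := hr'
    refine ⟨r, hr, fun y hy => ?_⟩
    obtain ⟨c₁, hc₁, e, he, hce⟩ := hAQY (y : X) (mem_subgroupOf.mp (hR hy))
    have heB : (⟨e, he⟩ : ↥A) ∈ B := by
      refine mem_subgroupOf.mpr ?_
      rw [show ((⟨e, he⟩ : ↥A) : X) = c₁⁻¹ * (y : X) by rw [← hce, inv_mul_cancel_left]]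
      exact mul_mem (mem_sup_right (inv_mem hc₁)) (mem_sup_left (mem_map_of_mem _ hy))
    obtain ⟨i, hi⟩ := hz ⟨g ⟨e, he⟩, mem_map_of_mem g heB⟩
    have hi' : g (z' ^ i) = g ⟨e, he⟩ := by
      rw [map_zpow, hz']; exact congrArg Subtype.val hi
    have hd : ((z' ^ i)⁻¹ * ⟨e, he⟩ : ↥A) ∈ A₁.subgroupOf A := QuotientGroup.eq.mp hi'
    have hdiff : (r ^ i)⁻¹ * y ∈ R ⊓ Q'.subgroupOf Y := by
      refine ⟨R.mul_mem (R.inv_mem (R.zpow_mem hr i)) hy, mem_subgroupOf.mpr ?_⟩
      have hd' : ((z' : X) ^ i)⁻¹ * e ∈ A₁ := by simpa using mem_subgroupOf.mp hd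
      have hrz : ((r : X) ^ i)⁻¹ * (z' : X) ^ i ∈ Q := by
        rw [← QuotientGroup.eq, ← hrc, QuotientGroup.mk_zpow, QuotientGroup.mk_zpow,
          show Y.subtype r = (r : X) from rfl, QuotientGroup.mk_mul_of_mem _ hc]
      have hcj : ((r : X) ^ i)⁻¹ * c₁ * (r : X) ^ i ∈ Q := by
        simpa using ‹Q.Normal›.conj_mem c₁ hc₁ ((r : X) ^ i)⁻¹
      rw [Subgroup.coe_mul, Subgroup.coe_inv, SubgroupClass.coe_zpow, ← hce,
        show ((r : X) ^ i)⁻¹ * (c₁ * e) = (((r : X) ^ i)⁻¹ * c₁ * (r : X) ^ i) *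
          ((((r : X) ^ i)⁻¹ * (z' : X) ^ i) * (((z' : X) ^ i)⁻¹ * e)) by group]
      exact mul_mem (mem_sup_left hcj) (mul_mem (mem_sup_left hrz) (mem_sup_right hd'))
    rw [show y = r ^ i * ((r ^ i)⁻¹ * y) by rw [mul_inv_cancel_left]]
    exact mul_mem (mem_sup_right (zpow_mem (mem_zpowers r) i)) (mem_sup_left hdiff)
  · obtain ⟨e, heA, he1⟩ := SetLike.not_le_iff_exists.mp
      (fun h : A ≤ A₁ => hne (le_antisymm hA₁A h))
    obtain ⟨i, hi⟩ := T.2 ⟨e, hA.1 heA⟩
    have hex' : ∃ i, e ^ p ^ i ∈ A₁ := ⟨i, by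
      rw [show e ^ p ^ i = 1 from congrArg Subtype.val hi]; exact one_mem _⟩
    obtain ⟨j, hj⟩ : ∃ j, Nat.find hex' = j + 1 := Nat.exists_eq_succ_of_ne_zero fun h => he1 (by
      simpa [h] using Nat.find_spec hex')
    set x := e ^ p ^ j
    have hx1 : x ∉ A₁ := Nat.find_min hex' (by omega)
    have hxA : x ∈ A := pow_mem heA _
    refine ⟨⟨x, le_sup_right (α := Subgroup X) hxA⟩, mem_subgroupOf.mpr (mem_sup_right hxA),
      fun h => hx1 (hAQ'.le ⟨hxA, mem_subgroupOf.mp h⟩), mem_subgroupOf.mpr ?_,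
      ⟨m₀, le_sup_left (α := Subgroup X) hm₀⟩, mem_subgroupOf.mpr (mem_sup_left hm₀), ?_⟩
    · rw [SubgroupClass.coe_pow]
      refine mem_sup_right ?_
      show (e ^ p ^ j) ^ p ∈ A₁
      rw [← pow_mul, ← pow_succ, ← hj]
      exact Nat.find_spec hex'
    · intro h
      rw [mem_subgroupOf] at h
      refine hm₀A (hstrict x hxA hx1 m₀ hm₀ (hCQ' _ ?_ h))
      show x * m₀ * x⁻¹ * m₀⁻¹ ∈ C A₁
      exact mul_mem ((mem_normalizer_iff.mp (hAC A₁ hA₁A hxA) m₀).mp hm₀) (inv_mem hm₀)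
  · refine Transfer.isMaxAbIn_of_map (subgroupOf_mono _ le_sup_right) Y.subtype
      Y.subtype_injective.injOn ?_
    rw [subgroupOf_map_subtype, subgroupOf_map_subtype, inf_eq_left.mpr (le_sup_right : A ≤ Y),
      inf_eq_left.mpr hTY]
    exact Transfer.isMaxAbIn_restrict hTle hA le_sup_right
  · intro h
    refine hne (le_antisymm hA₁A fun y hy => hAQ'.le ⟨hy, ?_⟩)
    exact mem_subgroupOf.mp (h (show (⟨y, le_sup_right (α := Subgroup X) hy⟩ : ↥Y) ∈
      A.subgroupOf Y from mem_subgroupOf.mpr hy))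

/-- The functor `J`. -/
theorem inducedFunctor_thompsonA (P : Subgroup X) :
    inducedFunctor (fun (Q : Type u) [Group Q] => thompsonSubgroupA Q) P =
      Transfer.JAb 0 P := by
  rw [Transfer.JAb_zero]; rfl

theorem isCharPFunctor_thompsonA :
    IsCharPFunctor.{u} p (fun (Q : Type u) [Group Q] => thompsonSubgroupA Q) := by
  have key : ∀ (Q : Type u) [Group Q], thompsonSubgroupA Q = Transfer.JAb 0 (⊤ : Subgroup Q) := by
    intro Q _
    rw [Transfer.JAb_zero, thompsonSubgroupAOf]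
    exact (map_thompsonA Q).symm
  refine ⟨fun Q _ _ hQ hn h => ?_, fun Q R _ _ _ hQ φ => ?_⟩
  · refine Transfer.JAb_ne_bot (p := p) (Or.inl rfl) (hQ.to_subgroup ⊤) top_ne_bot ?_
    rw [← key Q]; exact h
  · show (thompsonSubgroupA Q).map φ.toMonoidHom = thompsonSubgroupA R
    rw [key Q, key R, Transfer.map_JAb _ _ φ.injective.injOn,
      Subgroup.map_top_of_surjective φ.toMonoidHom φ.surjective]
where
  map_thompsonA (Q : Type u) [Group Q] :
      (thompsonSubgroupA ↥(⊤ : Subgroup Q)).map (⊤ : Subgroup Q).subtype = thompsonSubgroupA Q := by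
    rw [thompsonSubgroupA, thompsonSubgroupA]
    apply le_antisymm
    · rw [map_le_iff_le_comap, sSup_le_iff]
      rintro A ⟨hA, hmax⟩
      rw [← map_le_iff_le_comap]
      haveI := hA
      refine le_sSup ⟨inferInstance, fun B hB => ?_⟩
      haveI := hB
      have h := hmax (B.subgroupOf ⊤) inferInstance
      rwa [Nat.card_congr (subgroupOfEquivOfLe (le_top : B ≤ ⊤)).toEquiv,
        ← card_map_of_injective (K := A) (Subgroup.subtype_injective ⊤)] at h
    · refine sSup_le ?_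
      rintro A ⟨hA, hmax⟩
      haveI := hA
      rw [← map_subgroupOf_eq_of_le (le_top : A ≤ ⊤)]
      refine map_mono (le_sSup ⟨inferInstance, fun B hB => ?_⟩)
      haveI := hB
      have h := hmax (B.map (⊤ : Subgroup Q).subtype) inferInstance
      rwa [card_map_of_injective (Subgroup.subtype_injective ⊤),
        ← Nat.card_congr (subgroupOfEquivOfLe (le_top : A ≤ ⊤)).toEquiv] at h

/-- **Thompson–Glauberman**: for `p ≥ 5` the normalizer of `J` decides about normal
`p`-complements. -/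
theorem complement_of_normalizer_J {G : Type u} [Group G] [Finite G] (h5 : 5 ≤ p) (S : Sylow p G)
    (hN : HasNormalPComplement p
      ↥(normalizer ((Transfer.JAb 0 (S : Subgroup G) : Subgroup G) : Set G))) :
    HasNormalPComplement p G := by
  refine complement_of_local (isCharPFunctor_thompsonA (p := p)) ?_ S
    (by rw [inducedFunctor_thompsonA]; exact hN)
  intro K R hR hc hnil T hT
  set X := ↥K ⧸ R.subgroupOf K
  haveI := LocalEvenA.pCore_normal' p X
  rw [inducedFunctor_thompsonA, ← normalizer_eq_top_iff, eq_top_iff]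
  rw [← Transfer.JAb_eq_of_le (pCore_le_sylow T)
    (sSup_le fun A hA => maxAb_le_pCore h5 T hc hnil hT A hA)]
  exact le_trans (by rw [normalizer_eq_top]) (Transfer.normalizer_le_normalizer_JAb _)

/-- `N(J)/C(J)` a `p`-group suffices. -/
theorem hasNormalPComplement_iff_J {G : Type u} [Group G] [Finite G] (h5 : 5 ≤ p)
    (S : Sylow p G) :
    HasNormalPComplement p G ↔
      ∀ g ∈ normalizer ((Transfer.JAb 0 (S : Subgroup G) : Subgroup G) : Set G),
        (orderOf g).Coprime p →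
          g ∈ centralizer ((Transfer.JAb 0 (S : Subgroup G) : Subgroup G) : Set G) := by
  set J := Transfer.JAb 0 (S : Subgroup G) with hJ
  constructor
  · intro h g hg ho
    refine mem_centralizer_iff.mpr fun y hy => ?_
    have := Transfer.centralizes_of_hasNormalPComplement h J
      (S.2.to_le (Transfer.JAb_le _)) g hg ho
    exact this y hy
  · intro h
    refine complement_of_normalizer_J h5 S (complement_normalizer_of_coprime_central S J
      (Transfer.JAb_le _) (self_le_normalizer_functor Transfer.isConjugacyFunctor_JAb_zero S.2)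
      ?_ h)
    intro x hx
    obtain ⟨A, hA⟩ := Transfer.exists_isMaxAbIn (e := 0) (S : Subgroup G)
    exact Transfer.le_JAb hA (Transfer.mem_of_commute_maxAb hA hx.1 (pow_zero x)
      fun a ha => mem_centralizer_iff.mp hx.2 a (Transfer.le_JAb hA ha))

end Cfsg.Agent.ConjFunctor
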