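import Cfsg.Agent.Lib.ConjFunctor.Chief
import Cfsg.Agent.Lib.ConjFunctor.CriticalChief
import Cfsg.Agent.Lib.Transfer.MaxAbelian

/-!
# The degree of an abelian subgroup of largest order on a class-two normal subgroup

`A` is an abelian subgroup of largest order of the `p`-group `T`, cyclic over `A ∩ Q` with
generator `a`, `U ≤ Q` is normal with `⁅U, Q⁆ ≤ V` and `⁅U, V⁆ = 1`.  Then a small iterate of
`del a` maps `U` into `V`.
-/

set_option autoImplicit false
set_option linter.style.haveILetI false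
set_option linter.unusedSectionVars false
set_option linter.unusedVariables false

namespace Cfsg.Agent.ConjFunctor.JDeg

open Subgroup
open scoped commutatorElement

/-- Weak isotropy: if `N² = 0` and `f` satisfies the derivation rule. -/
theorem weak_step {M : Type*} [AddCommGroup M] (N : M →+ M) (f : ℕ → ℕ → M)
    (hN : ∀ i j, N (f i j) = f (i + 1) j + f i (j + 1) + f (i + 1) (j + 1))
    (hN2 : ∀ i j, N (N (f i j)) = 0) (m : ℕ)
    (h1 : ∀ s t, m + 2 ≤ s → 1 ≤ t → f s t = 0) (h2 : ∀ s t, m + 1 ≤ s → 2 ≤ t → f s t = 0) :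
    f (m + 3) 0 = 0 := by
  have h := hN2 (m + 1) 0
  rw [hN, map_add, map_add, hN, hN, hN] at h
  simp only [h1 (m + 3) 1 (by omega) le_rfl, h1 (m + 2) 1 le_rfl le_rfl,
    h2 (m + 1) 2 le_rfl le_rfl, h2 (m + 2) 2 (by omega) le_rfl,
    h2 (m + 3) 2 (by omega) le_rfl, h1 (m + 1 + 1 + 1) 1 (by omega) le_rfl,
    h1 (m + 1 + 1) 1 (by omega) le_rfl, h2 (m + 1) (1 + 1) le_rfl le_rfl,
    h2 (m + 1 + 1) (1 + 1) (by omega) le_rfl, h2 (m + 1 + 1 + 1) (1 + 1) (by omega) le_rfl,
    add_zero, zero_add] at h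
  exact h

/-- The five term chain. -/
theorem chain_zero {M : Type*} [AddCommGroup M] (N : M →+ M) (f : ℕ → ℕ → M)
    (hN : ∀ i j, N (f i j) = f (i + 1) j + f i (j + 1) + f (i + 1) (j + 1))
    (hN2 : ∀ i j, N (N (f i j)) = 0) (h22 : f 2 2 = 0) (h5 : ∀ s, f s 5 = 0)
    (h4 : ∀ s, 2 ≤ s → f s 4 = 0) (hfix : N (f 2 3) = 0) : f 2 3 = 0 := by
  have e12 : N (f 1 2) = f 1 3 + f 2 3 := by rw [hN, h22, zero_add]
  have g0 : N (f 1 3) = 0 := by
    have h := hN2 1 2
    rwa [e12, map_add, hfix, add_zero] at h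
  have e13 : N (f 1 3) = f 2 3 + f 1 4 := by rw [hN, h4 2 le_rfl, add_zero]
  have e14 : N (f 1 4) = 0 := by rw [hN, h4 2 le_rfl, h5, h5, add_zero, add_zero]
  have e04 : N (f 0 4) = f 1 4 := by rw [hN, h5, h5, add_zero, add_zero]
  have h := hN2 0 3
  rw [hN, map_add, map_add] at h
  change N (f 1 3) + N (f 0 4) + N (f 1 4) = 0 at h
  rw [g0, e04, e14, zero_add, add_zero] at h
  rw [e13, h, add_zero] at g0
  exact g0

theorem rearrange {M : Type*} [CommGroup M] (u v w z : M) :
    v * z * (w * u) * z⁻¹ = u * v * w := by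
  calc v * z * (w * u) * z⁻¹ = v * (w * u) * (z * z⁻¹) := by ac_rfl
    _ = u * v * w := by rw [mul_inv_cancel, mul_one]; ac_rfl

section group

variable {X : Type*} [Group X]

/-- Conjugation is multiplication by `del`. -/
theorem conj_eq_del_mul (a x : X) : a * x * a⁻¹ = del a x * x := by simp [del]

theorem del_one_of_commute {a x : X} (h : Commute a x) : del a x = 1 := by
  rw [del, h.eq, mul_inv_cancel_right, mul_inv_cancel]

theorem commute_of_del {a x : X} (h : del a x = 1) : Commute a x :=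
  mul_inv_eq_iff_eq_mul.mp (mul_inv_eq_one.mp h)

theorem iterate_del_one' (a : X) (n : ℕ) : (del a)^[n] (1 : X) = 1 := by
  induction n with
  | zero => rfl
  | succ n ih => rw [Function.iterate_succ_apply', ih]; simp [del]

theorem iterate_del_of_le {a x : X} {m n : ℕ} (h : (del a)^[m] x = 1) (hmn : m ≤ n) :
    (del a)^[n] x = 1 := by
  rw [show n = (n - m) + m by omega, Function.iterate_add_apply, h, iterate_del_one']

/-- A conjugation mapping a finite subgroup into itself normalizes it. -/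
theorem mem_normalizer_of_conj [Finite X] {E : Subgroup X} {a : X}
    (h : ∀ x ∈ E, a * x * a⁻¹ ∈ E) : a ∈ normalizer (E : Set X) := by
  rw [mem_normalizer_iff_map_conj_eq]
  refine eq_of_le_of_card_ge ?_ (card_map_of_injective (MulAut.conj a).injective).ge
  rintro _ ⟨x, hx, rfl⟩
  exact h x hx

end group

/-- The standing hypotheses. -/
structure Setup {X : Type*} [Group X] (p k : ℕ) (Q T U V A : Subgroup X) (a : X) : Prop where
  Qn : Q.Normal
  Un : U.Normal
  Vn : V.Normal
  Tp : IsPGroup p T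
  QT : Q ≤ T
  UQ : U ≤ Q
  VU : V ≤ U
  UVc : ⁅U, V⁆ = ⊥
  UQc : ⁅U, Q⁆ ≤ V
  maxA : Transfer.IsMaxAbIn 0 T A
  aA : a ∈ A
  gen : A ≤ (A ⊓ Q) ⊔ zpowers a
  card : Nat.card A ≤ Nat.card (A ⊓ Q : Subgroup X) * p ^ k

universe u

namespace Setup

variable {X : Type u} [Group X] [Finite X] {p k : ℕ} [hp : Fact p.Prime] {Q T U V A : Subgroup X}
  {a : X} (H : Setup p k Q T U V A a)

include H

theorem commA {x y : X} (hx : x ∈ A) (hy : y ∈ A) : Commute x y :=
  Transfer.AbExp.commute H.maxA.2.1 hx hy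

theorem commUV {u v : X} (hu : u ∈ U) (hv : v ∈ V) : Commute u v :=
  commutatorElement_eq_one_iff_commute.mp
    (mem_bot.mp (H.UVc ▸ commutator_mem_commutator hu hv))

theorem commV {u v : X} (hu : u ∈ V) (hv : v ∈ V) : Commute u v := H.commUV (H.VU hu) hv

theorem commQ {b e : X} (hb : b ∈ U) (he : e ∈ Q) : ⁅b, e⁆ ∈ V :=
  H.UQc (commutator_mem_commutator hb he)

theorem commUU {b c : X} (hb : b ∈ U) (hc : c ∈ U) : ⁅b, c⁆ ∈ V := H.commQ hb (H.UQ hc)

theorem commA0a {e : X} (he : e ∈ A ⊓ Q) : Commute a e := H.commA H.aA he.1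

theorem delA0 {e : X} (he : e ∈ A ⊓ Q) : del a e = 1 := del_one_of_commute (H.commA0a he)

theorem memT_a : a ∈ T := H.maxA.1 H.aA

theorem mul_left {x y e : X} (hx : x ∈ U) (hy : y ∈ U) (he : e ∈ Q) :
    ⁅x * y, e⁆ = ⁅y, e⁆ * ⁅x, e⁆ := by
  rw [commutatorElement_mul_left_eq_conj_mul, (H.commUV hx (H.commQ hy he)).eq,
    mul_inv_cancel_right]

/-- Equivariance of `b ↦ ⁅b, e⁆` for `e` fixed by `a`. -/
theorem del_comm {b e : X} (hb : b ∈ U) (he : e ∈ Q) (hae : Commute a e) :
    del a ⁅b, e⁆ = ⁅del a b, e⁆ := by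
  haveI := H.Un
  have hdb : del a b ∈ U := del_mem a hb
  have h1 : a * ⁅b, e⁆ * a⁻¹ = ⁅del a b * b, e⁆ := by
    rw [conjugate_commutatorElement, ← conj_eq_del_mul,
      show a * e * a⁻¹ = e by rw [hae.eq, mul_inv_cancel_right]]
  rw [H.mul_left hdb hb he] at h1
  show a * ⁅b, e⁆ * a⁻¹ * ⁅b, e⁆⁻¹ = _
  rw [h1, (H.commV (H.commQ hb he) (H.commQ hdb he)).eq, mul_inv_cancel_right]

theorem iterate_comm {b e : X} (hb : b ∈ U) (he : e ∈ Q) (hae : Commute a e) (n : ℕ) :
    (del a)^[n] ⁅b, e⁆ = ⁅(del a)^[n] b, e⁆ := by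
  haveI := H.Un
  induction n with
  | zero => rfl
  | succ n ih =>
    rw [Function.iterate_succ_apply', Function.iterate_succ_apply', ih,
      H.del_comm (iterate_del_mem a hb n) he hae]

/-- An `a`-invariant abelian subgroup between `A ∩ Q` and `T`. -/
theorem iterate_mem_of_card : ∀ (j : ℕ) {E : Subgroup X}, E ≤ T →
    (∀ x ∈ E, ∀ y ∈ E, Commute x y) → A ⊓ Q ≤ E → a ∈ normalizer (E : Set X) →
    Nat.card E ≤ Nat.card (A ⊓ Q : Subgroup X) * p ^ j → ∀ x ∈ E, (del a)^[j] x ∈ A ⊓ Q := by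
  intro j
  induction j with
  | zero =>
    intro E _ _ hle _ hc x hx
    rw [pow_zero, mul_one] at hc
    exact (eq_of_le_of_card_ge hle hc).ge hx
  | succ j ih =>
    intro E hET hEc hle haE hc x hx
    set E' := (A ⊓ Q) ⊔ ⁅E, zpowers a⁆ with hE'
    have haE' : ⁅E, zpowers a⁆ ≤ E :=
      le_normalizer_iff_commutator_le_left.mp (zpowers_le.mpr haE)
    have hE'E : E' ≤ E := sup_le hle haE'
    have hd : del a x ∈ E' := mem_sup_right (del_mem_commutator hx (mem_zpowers a))
    rw [Function.iterate_succ_apply]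
    by_cases heq : E' = E
    · have hS : E ⊔ zpowers a ≤ T := sup_le hET (zpowers_le.mpr H.memT_a)
      haveI : Group.IsNilpotent ↥(E ⊔ zpowers a) := (H.Tp.to_le hS).isNilpotent
      have hn : E ⊔ zpowers a ≤ normalizer ((A ⊓ Q : Subgroup X) : Set X) := by
        refine sup_le (fun y hy => mem_normalizer_of_conj fun z hz => ?_)
          (zpowers_le.mpr (mem_normalizer_of_conj fun z hz => ?_))
        · rwa [(hEc y hy z (hle hz)).eq, mul_inv_cancel_right]
        · rwa [(H.commA0a hz).eq, mul_inv_cancel_right]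
      have h := Transfer.le_of_le_sup_commutator (S := E ⊔ zpowers a) le_sup_left hn
        (heq.ge.trans (sup_le_sup_left (commutator_mono le_rfl le_sup_right) _))
      rw [H.delA0 (h hx), iterate_del_one']
      exact one_mem _
    · refine ih (hE'E.trans hET) (fun u hu w hw => hEc u (hE'E hu) w (hE'E hw)) le_sup_left ?_ ?_
        _ hd
      · have n1 : a ∈ normalizer ((A ⊓ Q : Subgroup X) : Set X) :=
          mem_normalizer_of_conj fun z hz => by
            rwa [(H.commA0a hz).eq, mul_inv_cancel_right]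
        have n2 : a ∈ normalizer ((⁅E, zpowers a⁆ : Subgroup X) : Set X) :=
          normalizer_commutator_ge_right E (zpowers a) (mem_zpowers a)
        rw [mem_normalizer_iff_map_conj_eq] at n1 n2 ⊢
        rw [Subgroup.map_sup, n1, n2]
      · obtain ⟨m, hm⟩ := (H.Tp.to_le hET).exists_card_eq
        obtain ⟨m', hm'⟩ := (H.Tp.to_le (hE'E.trans hET)).exists_card_eq
        have hlt : Nat.card E' < Nat.card E := Basics.card_lt_of_lt (lt_of_le_of_ne hE'E heq)
        rw [hm, hm', Nat.pow_lt_pow_iff_right hp.out.one_lt] at hlt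
        rw [hm] at hc
        rw [hm']
        refine Nat.le_of_mul_le_mul_right ?_ hp.out.pos
        rw [mul_assoc, ← pow_succ, ← pow_succ]
        exact (Nat.pow_le_pow_right hp.out.pos hlt).trans hc

theorem iterate_mem {E : Subgroup X} (hET : E ≤ T) (hEc : ∀ x ∈ E, ∀ y ∈ E, Commute x y)
    (hle : A ⊓ Q ≤ E) (haE : a ∈ normalizer (E : Set X)) {x : X} (hx : x ∈ E) :
    (del a)^[k] x ∈ A ⊓ Q :=
  H.iterate_mem_of_card k hET hEc hle haE
    ((H.maxA.2.2 E hET ⟨⟨⟨fun u w => Subtype.ext (hEc u u.2 w w.2).eq⟩⟩,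
      fun y _ => pow_zero y⟩).trans H.card) x hx

/-- Commuting elements generate an abelian group with `A ∩ Q`. -/
theorem iterate_mem_closure {s : Set X} (hsU : s ⊆ U) (hs0 : ∀ x ∈ s, x ∈ centralizer
      ((A ⊓ Q : Subgroup X) : Set X))
    (hsc : ∀ x ∈ s, ∀ y ∈ s, Commute x y) (hinv : ∀ x ∈ s, del a x ∈ s ∪ (A ⊓ Q : Subgroup X))
    {x : X} (hx : x ∈ s) : (del a)^[k] x ∈ A ⊓ Q := by
  set g : Set X := s ∪ (A ⊓ Q : Subgroup X)
  have hg : ∀ u ∈ g, ∀ w ∈ g, Commute u w := by
    rintro u (hu | hu) w (hw | hw)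
    · exact hsc u hu w hw
    · exact (mem_centralizer_iff.mp (hs0 u hu) w hw).symm
    · exact mem_centralizer_iff.mp (hs0 w hw) u hu
    · exact H.commA hu.1 hw.1
  refine H.iterate_mem (E := closure g) ?_ ?_ (fun y hy => subset_closure (Or.inr hy)) ?_
    (subset_closure (Or.inl hx))
  · rw [closure_le]
    rintro u (hu | hu)
    · exact H.QT (H.UQ (hsU hu))
    · exact H.QT hu.2
  · haveI := isMulCommutative_closure fun u hu w hw => (hg u hu w hw).eq
    intro u hu w hw
    exact congrArg Subtype.val (mul_comm' (⟨u, hu⟩ : closure g) ⟨w, hw⟩)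
  · refine mem_normalizer_of_conj fun y hy => ?_
    induction hy using closure_induction with
    | mem u hu =>
      rw [conj_eq_del_mul]
      refine mul_mem ?_ (subset_closure hu)
      rcases hu with hu | hu
      · exact subset_closure (hinv u hu)
      · rw [H.delA0 hu]; exact one_mem _
    | one => simp
    | mul u w _ _ hu hw => rw [show a * (u * w) * a⁻¹ = a * u * a⁻¹ * (a * w * a⁻¹) by group]
                           exact mul_mem hu hw
    | inv u _ hu => rw [show a * u⁻¹ * a⁻¹ = (a * u * a⁻¹)⁻¹ by group]; exact inv_mem hu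

/-- Elements of `V` centralizing `A ∩ Q`. -/
theorem iterate_V {v : X} (hv : v ∈ V) (hc : v ∈ centralizer ((A ⊓ Q : Subgroup X) : Set X)) :
    (del a)^[k] v ∈ A ⊓ Q := by
  haveI := H.Vn
  refine H.iterate_mem_closure (s := (V : Set X) ∩ centralizer ((A ⊓ Q : Subgroup X) : Set X))
    (fun x hx => H.VU hx.1) (fun x hx => hx.2) (fun x hx y hy => H.commV hx.1 hy.1)
    (fun x hx => Or.inl ⟨del_mem a hx.1, mem_centralizer_iff.mpr fun e he => ?_⟩) ⟨hv, hc⟩
  have hae : Commute e a := (H.commA0a he).symm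
  have hxe : Commute e x := mem_centralizer_iff.mp hx.2 e he
  exact (((hae.mul_right hxe).mul_right hae.inv_right).mul_right hxe.inv_right).eq

theorem iterate_V_succ {v : X} (hv : v ∈ V)
    (hc : v ∈ centralizer ((A ⊓ Q : Subgroup X) : Set X)) : (del a)^[k + 1] v = 1 := by
  rw [Function.iterate_succ_apply']
  exact H.delA0 (H.iterate_V hv hc)

/-- The case where `[V, A]` centralizes a subgroup of `A ∩ Q` completing it to a maximal member. -/
theorem degree_offender {U₀ C : Subgroup X} (hU₀ : U₀ ≤ V) (hdel : ∀ v ∈ V, del a v ∈ U₀)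
    (hC : C ≤ A ⊓ Q) (hUC : ∀ u ∈ U₀, ∀ c ∈ C, Commute u c)
    (hR : Transfer.IsMaxAbIn 0 T (U₀ ⊔ C)) {b : X} (hb : b ∈ U) : (del a)^[k + 3] b ∈ V := by
  haveI := H.Un
  haveI := H.Vn
  have hkey : ∀ c ∈ C, ⁅(del a)^[k + 2] b, c⁆ = 1 := by
    intro c hc
    have hcQ : c ∈ Q := (hC hc).2
    have hac := H.commA0a (hC hc)
    rw [← H.iterate_comm hb hcQ hac]
    have hxV := H.commQ hb hcQ
    rw [show k + 2 = (k + 1) + 1 from rfl, Function.iterate_succ_apply]
    refine H.iterate_V_succ (del_mem a hxV) (mem_centralizer_iff.mpr fun e he => ?_)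
    set x := ⁅b, c⁆
    have hce : Commute e c := H.commA he.1 (hC hc).1
    have hd : ⁅e, b⁆ ∈ V := by
      rw [← commutatorElement_inv]; exact inv_mem (H.commQ hb he.2)
    have h1 : e * x * e⁻¹ = x * ⁅⁅e, b⁆, c⁆ := by
      rw [conjugate_commutatorElement, show e * c * e⁻¹ = c by rw [hce.eq, mul_inv_cancel_right],
        show e * b * e⁻¹ = ⁅e, b⁆ * b by simp [commutatorElement_def],
        H.mul_left (H.VU hd) hb hcQ]
    have h2 : del a ⁅⁅e, b⁆, c⁆ = 1 := by
      rw [H.del_comm (H.VU hd) hcQ hac, commutatorElement_eq_one_iff_commute]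
      exact hUC _ (hdel _ hd) c hc
    have hae := H.commA0a he
    have h3 : e * del a x * e⁻¹ = del a (e * x * e⁻¹) := by
      show e * (a * x * a⁻¹ * x⁻¹) * e⁻¹ = a * (e * x * e⁻¹) * a⁻¹ * (e * x * e⁻¹)⁻¹
      calc _ = (e * a) * x * (a⁻¹ * e⁻¹) * (e * x * e⁻¹)⁻¹ := by group
        _ = (a * e) * x * (e⁻¹ * a⁻¹) * (e * x * e⁻¹)⁻¹ := by
          rw [hae.eq, show a⁻¹ * e⁻¹ = e⁻¹ * a⁻¹ by rw [← mul_inv_rev, ← mul_inv_rev, hae.eq]]
        _ = _ := by group
    rw [h1] at h3
    have h4 : del a (x * ⁅⁅e, b⁆, c⁆) = del a x := by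
      have := commute_of_del h2
      show a * (x * _) * a⁻¹ * (x * _)⁻¹ = a * x * a⁻¹ * x⁻¹
      rw [show a * (x * ⁅⁅e, b⁆, c⁆) * a⁻¹ = a * x * a⁻¹ * (a * ⁅⁅e, b⁆, c⁆ * a⁻¹) by group,
        this.eq, mul_inv_cancel_right, mul_inv_rev, mul_assoc (a * x * a⁻¹), mul_inv_cancel_left]
    rw [h4] at h3
    exact mul_inv_eq_iff_eq_mul.mp h3
  set w := (del a)^[k + 2] b with hw
  have hwU : w ∈ U := iterate_del_mem a hb _
  have hwR : w ∈ U₀ ⊔ C := by
    refine Transfer.mem_of_commute_maxAb hR (H.QT (H.UQ hwU)) (pow_zero _) fun r hr => ?_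
    have : U₀ ⊔ C ≤ centralizer {w} := sup_le
      (fun u hu => mem_centralizer_singleton_iff.mpr (H.commUV hwU (hU₀ hu)).symm.eq)
      (fun c hc => mem_centralizer_singleton_iff.mpr
        (commutatorElement_eq_one_iff_commute.mp (hkey c hc)).symm.eq)
    exact mem_centralizer_singleton_iff.mp (this hr)
  have hN : C ≤ normalizer (U₀ : Set X) := fun c hc => mem_normalizer_of_conj fun u hu => by
    rwa [(hUC u hu c hc).symm.eq, mul_inv_cancel_right]
  rw [Function.iterate_succ_apply', ← hw]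
  rw [← SetLike.mem_coe, coe_mul_of_right_le_normalizer_left _ _ hN] at hwR
  obtain ⟨v, hv, c, hc, hvc⟩ := hwR
  rw [← hvc]
  have hac := H.commA0a (hC hc)
  have : del a (v * c) = del a v := by
    show a * (v * c) * a⁻¹ * (v * c)⁻¹ = a * v * a⁻¹ * v⁻¹
    rw [show a * (v * c) * a⁻¹ = a * v * a⁻¹ * (a * c * a⁻¹) by group, hac.eq,
      mul_inv_cancel_right, mul_inv_rev, mul_assoc (a * v * a⁻¹), mul_inv_cancel_left]
  show del a (v * c) ∈ V
  rw [this]
  exact del_mem a (hU₀ hv)

/-- The additive values `⁅n^i b, n^j c⁆`. -/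
theorem exists_values {b c : X} (hb : b ∈ U) (hc : c ∈ U) :
    ∃ (M : Type u) (_ : AddCommGroup M) (N : M →+ M) (f : ℕ → ℕ → M) (v : M → X),
      (∀ i j, v (f i j) = ⁅(del a)^[i] b, (del a)^[j] c⁆) ∧ v 0 = 1 ∧ Function.Injective v ∧
      (∀ y, v (N y) = del a (v y)) ∧
      ∀ i j, N (f i j) = f (i + 1) j + f i (j + 1) + f (i + 1) (j + 1) := by
  haveI := H.Un
  haveI := H.Vn
  haveI hVc : IsMulCommutative V := ⟨⟨fun x y => Subtype.ext (H.commV x.2 y.2).eq⟩⟩
  open scoped IsMulCommutative in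
  letI : CommGroup V := inferInstance
  let d : ↥V →* ↥V :=
    { toFun := fun y => ⟨del a y, del_mem a y.2⟩
      map_one' := Subtype.ext (by simp [del])
      map_mul' := fun y z => Subtype.ext (iterate_del_mul a y.2 z.2 1) }
  let f : ℕ → ℕ → Additive ↥V := fun i j => Additive.ofMul
    ⟨⁅(del a)^[i] b, (del a)^[j] c⁆, H.commUU (iterate_del_mem a hb i) (iterate_del_mem a hc j)⟩
  refine ⟨Additive ↥V, inferInstance, MonoidHom.toAdditive d, f,
    fun y => ((Additive.toMul y : ↥V) : X), fun i j => rfl, rfl,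
    fun y z h => Additive.toMul.injective (Subtype.ext h), fun y => rfl, fun i j => ?_⟩
  refine Additive.toMul.injective (Subtype.ext ?_)
  show del a ⁅(del a)^[i] b, (del a)^[j] c⁆ = ⁅(del a)^[i + 1] b, (del a)^[j] c⁆ *
    ⁅(del a)^[i] b, (del a)^[j + 1] c⁆ * ⁅(del a)^[i + 1] b, (del a)^[j + 1] c⁆
  rw [Function.iterate_succ_apply', Function.iterate_succ_apply']
  set x := (del a)^[i] b
  set y := (del a)^[j] c
  have hx : x ∈ U := iterate_del_mem a hb i
  have hy : y ∈ U := iterate_del_mem a hc j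
  have hx' : del a x ∈ U := del_mem a hx
  have hy' : del a y ∈ U := del_mem a hy
  have hr : ∀ u ∈ U, ⁅u, del a y * y⁆ = ⁅u, del a y⁆ * ⁅u, y⁆ := fun u hu => by
    rw [commutatorElement_mul_right_eq_mul_conj, mul_assoc _ (del a y),
      (H.commUV hy' (H.commUU hu hy)).eq, ← mul_assoc, mul_inv_cancel_right]
  show a * ⁅x, y⁆ * a⁻¹ * ⁅x, y⁆⁻¹ = _
  rw [conjugate_commutatorElement, conj_eq_del_mul, conj_eq_del_mul,
    H.mul_left hx' hx (H.UQ (mul_mem hy' hy)), hr x hx, hr _ hx']
  have c1 := H.commUU hx' hy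
  have c2 := H.commUU hx hy'
  have c3 := H.commUU hx' hy'
  have c4 := H.commUU hx hy
  exact congrArg Subtype.val (rearrange (⟨_, c1⟩ : ↥V) ⟨_, c2⟩ ⟨_, c3⟩ ⟨_, c4⟩)

/-- The case `[V, A] ≤ A`: two steps lead into the centralizer of `A ∩ Q`. -/
theorem two_steps (hI : ∀ v ∈ V, del a v ∈ A) {b : X} (hb : b ∈ U) :
    (del a)^[2] b ∈ U ⊓ centralizer ((A ⊓ Q : Subgroup X) : Set X) := by
  haveI := H.Un
  refine ⟨iterate_del_mem a hb 2, mem_centralizer_iff.mpr fun e he => ?_⟩
  have h := H.iterate_comm hb he.2 (H.commA0a he) 2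
  rw [show (del a)^[2] ⁅b, e⁆ = 1 from
    del_one_of_commute (H.commA H.aA (hI _ (H.commQ hb he.2)))] at h
  exact (commutatorElement_eq_one_iff_commute.mp h.symm).symm.eq

theorem iterate_mem_W {w : X} (hw : w ∈ U ⊓ centralizer ((A ⊓ Q : Subgroup X) : Set X)) (n : ℕ) :
    (del a)^[n] w ∈ U ⊓ centralizer ((A ⊓ Q : Subgroup X) : Set X) := by
  induction n with
  | zero => exact hw
  | succ n ih =>
    rw [Function.iterate_succ_apply']
    haveI := H.Un
    refine ⟨del_mem a ih.1, mem_centralizer_iff.mpr fun e he => ?_⟩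
    have hae : Commute e a := (H.commA0a he).symm
    have hxe : Commute e ((del a)^[n] w) := mem_centralizer_iff.mp ih.2 e he
    exact (((hae.mul_right hxe).mul_right hae.inv_right).mul_right hxe.inv_right).eq

/-- Isotropy: `e = 0` when the values are fixed by `a`, `e = 1` in general. -/
theorem isotropy (hI : ∀ v ∈ V, del a v ∈ A) (e : ℕ)
    (he : e = 1 ∨ (e = 0 ∧ ∀ v ∈ V, v ∈ centralizer ((A ⊓ Q : Subgroup X) : Set X) → v ∈ A)) :
    ∀ i, ∀ b ∈ U ⊓ centralizer ((A ⊓ Q : Subgroup X) : Set X),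
      ∀ c ∈ U ⊓ centralizer ((A ⊓ Q : Subgroup X) : Set X), (del a)^[i] c ∈ A ⊓ Q →
        ∀ s, i + e ≤ s → ⁅(del a)^[s] b, c⁆ = 1 := by
  intro i
  induction i using Nat.strong_induction_on with
  | _ i ih =>
    intro b hb c hc hci s hs
    rw [show s = (i + e) + (s - (i + e)) by omega, Function.iterate_add_apply]
    set b' := (del a)^[s - (i + e)] b
    have hb' := H.iterate_mem_W hb (s - (i + e))
    obtain ⟨M, _, N, f, v, hv, hv0, hinj, hvN, hN⟩ := H.exists_values hb'.1 hc.1
    have hvm : ∀ i j, v (f i j) ∈ V := fun i j => by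
      haveI := H.Un
      rw [hv]; exact H.commUU (iterate_del_mem a hb'.1 i) (iterate_del_mem a hc.1 j)
    have hN2 : ∀ i j, N (N (f i j)) = 0 := fun i j => hinj (by
      rw [hvN, hvN, hv0]
      exact del_one_of_commute (H.commA H.aA (hI _ (hvm i j))))
    have hzero : ∀ i' < i, ∀ s t, i' + e ≤ s → i ≤ i' + t → f s t = 0 := by
      intro i' hi' s t hs' ht
      refine hinj ?_
      rw [hv, hv0]
      refine ih i' hi' _ hb' _ (H.iterate_mem_W hc t) ?_ s hs'
      rw [← Function.iterate_add_apply, show i' + t = (i' + t - i) + i by omega,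
        Function.iterate_add_apply]
      rcases Nat.eq_zero_or_pos (i' + t - i) with h0 | h0
      · rw [h0]; exact hci
      · rw [iterate_del_of_le (m := 1) (H.delA0 hci) h0]; exact one_mem _
    have goal : f (i + e) 0 = 0 := by
      rcases Nat.eq_zero_or_pos i with rfl | hi
      · refine hinj ?_
        rw [hv, hv0, commutatorElement_eq_one_iff_commute]
        exact (mem_centralizer_iff.mp (H.iterate_mem_W hb' _).2 c hci).symm
      rcases he with rfl | ⟨rfl, hfix⟩
      · rcases Nat.lt_or_ge i 2 with hi2 | hi2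
        · have h1 : i = 1 := by omega
          subst h1
          have h := hN2 0 0
          rw [hN, map_add, map_add, hN, hN, hN] at h
          have h0 : ∀ s t, 1 ≤ t → f s t = 0 := fun s t ht => by
            refine hinj ?_
            rw [hv, hv0, commutatorElement_eq_one_iff_commute,
              show t = (t - 1) + 1 by omega, Function.iterate_add_apply]
            rcases Nat.eq_zero_or_pos (t - 1) with h0 | h0
            · rw [h0]; exact (mem_centralizer_iff.mp (H.iterate_mem_W hb' s).2 _ hci).symm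
            · rw [iterate_del_of_le (m := 1) (H.delA0 hci) h0]; exact Commute.one_right _
          simpa [h0 _ 1 le_rfl, h0 _ 2 (by omega : 1 ≤ 2)] using h
        · obtain ⟨m, rfl⟩ : ∃ m, i = m + 2 := ⟨i - 2, by omega⟩
          exact weak_step N f hN hN2 m
            (fun s t h1 h2 => hzero (m + 1) (by omega) s t h1 (by omega))
            (fun s t h1 h2 => hzero m (by omega) s t h1 (by omega))
      · have h : N (f (i - 1) 0) = 0 := by
          refine hinj ?_
          rw [hvN, hv0]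
          refine del_one_of_commute (H.commA H.aA (hfix _ (hvm _ _)
            (mem_centralizer_iff.mpr fun y hy => ?_)))
          rw [hv]
          have h1 : Commute y ((del a)^[i - 1] b') :=
            mem_centralizer_iff.mp (H.iterate_mem_W hb' _).2 y hy
          have h2 : Commute y c := mem_centralizer_iff.mp hc.2 y hy
          exact (((h1.mul_right h2).mul_right h1.inv_right).mul_right h2.inv_right).eq
        rw [hN, hzero (i - 1) (by omega) (i - 1) 1 (by omega) (by omega),
          hzero (i - 1) (by omega) (i - 1 + 1) (0 + 1) (by omega) (by omega), add_zero,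
          add_zero] at h
        rwa [show i - 1 + 1 = i + 0 by omega] at h
    have := congrArg v goal
    rwa [hv, hv0] at this

theorem exists_iterate_one : ∃ M, ∀ x ∈ T, (del a)^[M] x = 1 := by
  haveI := H.Tp.isNilpotent
  obtain ⟨M, hM⟩ := (Subgroup.isNilpotent_iff_lowerCentralSeries T).mp ‹_›
  refine ⟨M, fun x hx => ?_⟩
  have key : ∀ n, (del a)^[n] x ∈ T.lowerCentralSeries n := by
    intro n
    induction n with
    | zero => simpa using hx
    | succ n ih =>
      rw [Function.iterate_succ_apply']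
      exact del_mem_commutator ih H.memT_a
  have := key M
  rwa [hM, mem_bot] at this

/-- Descent in the centralizer of `A ∩ Q`. -/
theorem descent (hI : ∀ v ∈ V, del a v ∈ A) (e : ℕ)
    (he : e = 1 ∨ (e = 0 ∧ ∀ v ∈ V, v ∈ centralizer ((A ⊓ Q : Subgroup X) : Set X) → v ∈ A))
    {M j : ℕ} (hM : ∀ w ∈ U ⊓ centralizer ((A ⊓ Q : Subgroup X) : Set X),
      (del a)^[M] w ∈ A ⊓ Q) (hj : M + e ≤ 2 * j) :
    ∀ w ∈ U ⊓ centralizer ((A ⊓ Q : Subgroup X) : Set X), (del a)^[k + j] w ∈ A ⊓ Q := by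
  intro w hw
  rw [Function.iterate_add_apply]
  refine H.iterate_mem_closure (s := {x | ∃ s ≥ j, ∃ u ∈ U ⊓ centralizer
      ((A ⊓ Q : Subgroup X) : Set X), (del a)^[s] u = x}) ?_ ?_ ?_ ?_ ⟨j, le_rfl, w, hw, rfl⟩
  · rintro _ ⟨s, -, u, hu, rfl⟩; exact (H.iterate_mem_W hu s).1
  · rintro _ ⟨s, -, u, hu, rfl⟩; exact (H.iterate_mem_W hu s).2
  · rintro _ ⟨s, hs, u, hu, rfl⟩ _ ⟨t, ht, u', hu', rfl⟩
    refine commutatorElement_eq_one_iff_commute.mp (H.isotropy hI e he (M - t) u hu _
      (H.iterate_mem_W hu' t) ?_ s (by omega))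
    rw [← Function.iterate_add_apply, show M - t + t = (M - t + t - M) + M by omega,
      Function.iterate_add_apply]
    rcases Nat.eq_zero_or_pos (M - t + t - M) with h0 | h0
    · rw [h0]; exact hM u' hu'
    · rw [iterate_del_of_le (m := 1) (H.delA0 (hM u' hu')) h0]; exact one_mem _
  · rintro _ ⟨s, hs, u, hu, rfl⟩
    exact Or.inl ⟨s + 1, by omega, u, hu, Function.iterate_succ_apply' _ _ _⟩

theorem weak_bound (hI : ∀ v ∈ V, del a v ∈ A) :
    ∀ w ∈ U ⊓ centralizer ((A ⊓ Q : Subgroup X) : Set X), (del a)^[2 * k + 2] w ∈ A ⊓ Q := by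
  obtain ⟨M₀, hM₀⟩ := H.exists_iterate_one
  have key : ∀ M, (∀ w ∈ U ⊓ centralizer ((A ⊓ Q : Subgroup X) : Set X),
      (del a)^[M] w ∈ A ⊓ Q) → ∀ w ∈ U ⊓ centralizer ((A ⊓ Q : Subgroup X) : Set X),
        (del a)^[2 * k + 2] w ∈ A ⊓ Q := by
    intro M
    induction M using Nat.strong_induction_on with
    | _ M ih =>
      intro hM w hw
      rcases Nat.lt_or_ge (2 * k + 2) M with hlt | hge
      · exact ih (k + (M + 2) / 2) (by omega) (H.descent hI 1 (Or.inl rfl) hM (by omega)) w hw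
      · rcases Nat.eq_zero_or_pos (2 * k + 2 - M) with h0 | h0
        · rw [show 2 * k + 2 = M by omega]; exact hM w hw
        · rw [show 2 * k + 2 = (2 * k + 2 - M) + M by omega, Function.iterate_add_apply,
            iterate_del_of_le (m := 1) (H.delA0 (hM w hw)) h0]
          exact one_mem _
  exact key M₀ fun w hw => by rw [hM₀ w (H.QT (H.UQ hw.1))]; exact one_mem _

/-- General bound in the case `[V, A] ≤ A`. -/
theorem degree_general (hI : ∀ v ∈ V, del a v ∈ A) {b : X} (hb : b ∈ U) :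
    (del a)^[2 * k + 5] b = 1 := by
  rw [show 2 * k + 5 = 1 + (2 * k + 2) + 2 by omega, Function.iterate_add_apply,
    Function.iterate_add_apply]
  exact H.delA0 (H.weak_bound hI _ (H.two_steps hI hb))

/-- When `A` has index `p` over `A ∩ Q`: four steps. -/
theorem degree_one (hI : ∀ v ∈ V, del a v ∈ A) (hk : k = 1) {b : X} (hb : b ∈ U) :
    (del a)^[4] b = 1 := by
  subst hk
  haveI := H.Un
  set y := (del a)^[2] b with hy_def
  have hy := H.two_steps hI hb
  suffices hfin : del a y ∈ A ⊓ Q by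
    rw [show 4 = 1 + (1 + 2) from rfl, Function.iterate_add_apply, Function.iterate_add_apply]
    exact H.delA0 hfin
  by_cases hfix : ∀ v ∈ V, v ∈ centralizer ((A ⊓ Q : Subgroup X) : Set X) → v ∈ A
  · have h3 := H.descent hI 0 (Or.inr ⟨rfl, hfix⟩) (j := 2) (H.weak_bound hI) (by omega)
    have hiso := H.isotropy hI 0 (Or.inr ⟨rfl, hfix⟩)
    have hge : ∀ w ∈ U ⊓ centralizer ((A ⊓ Q : Subgroup X) : Set X), ∀ t, 3 ≤ t →
        (del a)^[t] w ∈ A ⊓ Q := fun w hw t ht => by
      rcases Nat.eq_zero_or_pos (t - 3) with h0 | h0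
      · rw [show t = 3 by omega]; exact h3 w hw
      · rw [show t = (t - 3) + 3 by omega, Function.iterate_add_apply,
          iterate_del_of_le (m := 1) (H.delA0 (h3 w hw)) h0]
        exact one_mem _
    have h2 : ∀ w ∈ U ⊓ centralizer ((A ⊓ Q : Subgroup X) : Set X),
        (del a)^[2] w ∈ A ⊓ Q := by
      intro w hw
      refine H.iterate_mem_closure (s := {x | ∃ s ≥ 1, (del a)^[s] w = x}) ?_ ?_ ?_ ?_
        (x := del a w) ⟨1, le_rfl, rfl⟩
      · rintro _ ⟨s, -, rfl⟩; exact (H.iterate_mem_W hw s).1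
      · rintro _ ⟨s, -, rfl⟩; exact (H.iterate_mem_W hw s).2
      · rintro _ ⟨s, hs, rfl⟩ _ ⟨t, ht, rfl⟩
        rcases eq_or_ne s t with rfl | hne
        · exact Commute.refl _
        refine commutatorElement_eq_one_iff_commute.mp
          (hiso (3 - t) w hw _ (H.iterate_mem_W hw t) ?_ s (by omega))
        rw [← Function.iterate_add_apply]
        exact hge w hw _ (by omega)
      · rintro _ ⟨s, hs, rfl⟩
        exact Or.inl ⟨s + 1, by omega, Function.iterate_succ_apply' _ _ _⟩
    obtain ⟨M, _, N, f, v, hv, hv0, hinj, hvN, hN⟩ := H.exists_values hb hb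
    have hvm : ∀ i j, v (f i j) ∈ V := fun i j => by
      rw [hv]; exact H.commUU (iterate_del_mem a hb i) (iterate_del_mem a hb j)
    have hy2 : (del a)^[4] b ∈ A ⊓ Q := by
      rw [show 4 = 2 + 2 from rfl, Function.iterate_add_apply]
      exact h2 _ hy
    have hy5 : (del a)^[5] b = 1 := by
      rw [Function.iterate_succ_apply']; exact H.delA0 hy2
    have hWs : ∀ s, 2 ≤ s → (del a)^[s] b ∈ centralizer ((A ⊓ Q : Subgroup X) : Set X) :=
      fun s hs => by
        rw [show s = (s - 2) + 2 by omega, Function.iterate_add_apply]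
        exact (H.iterate_mem_W hy _).2
    have h23 : f 2 3 = 0 := by
      refine chain_zero N f hN (fun i j => hinj ?_) (hinj ?_) (fun s => hinj ?_)
        (fun s hs => hinj ?_) (hinj ?_)
      · rw [hvN, hvN, hv0]
        exact del_one_of_commute (H.commA H.aA (hI _ (hvm i j)))
      · rw [hv, hv0, commutatorElement_self]
      · rw [hv, hv0, hy5, commutatorElement_one_right]
      · rw [hv, hv0, commutatorElement_eq_one_iff_commute]
        exact (mem_centralizer_iff.mp (hWs s hs) _ hy2).symm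
      · rw [hvN, hv0]
        refine del_one_of_commute (H.commA H.aA (hfix _ (hvm _ _)
          (mem_centralizer_iff.mpr fun e he => ?_)))
        rw [hv]
        have h1 : Commute e ((del a)^[2] b) := mem_centralizer_iff.mp (hWs 2 le_rfl) e he
        have h1' : Commute e ((del a)^[3] b) := mem_centralizer_iff.mp (hWs 3 (by omega)) e he
        exact (((h1.mul_right h1').mul_right h1.inv_right).mul_right h1'.inv_right).eq
    have hyy : Commute y (del a y) := by
      have h := congrArg v h23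
      rw [hv, hv0] at h
      rw [← commutatorElement_eq_one_iff_commute, ← h, hy_def, Function.iterate_succ_apply' _ 2]
    refine H.iterate_mem_closure (s := {x | ∃ s, (del a)^[s] y = x}) ?_ ?_ ?_ ?_ ⟨0, rfl⟩
    · rintro _ ⟨s, rfl⟩; exact (H.iterate_mem_W hy s).1
    · rintro _ ⟨s, rfl⟩; exact (H.iterate_mem_W hy s).2
    · have hA0 : ∀ s, 2 ≤ s → ∀ t, Commute ((del a)^[s] y) ((del a)^[t] y) := fun s hs t => by
        refine (mem_centralizer_iff.mp (H.iterate_mem_W hy t).2 _ ?_)
        rcases Nat.eq_zero_or_pos (s - 2) with h0 | h0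
        · rw [show s = 2 by omega]; exact h2 _ hy
        · rw [show s = (s - 2) + 2 by omega, Function.iterate_add_apply,
            iterate_del_of_le (m := 1) (H.delA0 (h2 _ hy)) h0]
          exact one_mem _
      rintro _ ⟨s, rfl⟩ _ ⟨t, rfl⟩
      rcases Nat.lt_or_ge s 2 with hs | hs
      · rcases Nat.lt_or_ge t 2 with ht | ht
        · interval_cases s <;> interval_cases t
          · exact Commute.refl _
          · exact hyy
          · exact hyy.symm
          · exact Commute.refl _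
        · exact (hA0 t ht s).symm
      · exact hA0 s hs t
    · rintro _ ⟨s, rfl⟩
      exact Or.inl ⟨s + 1, Function.iterate_succ_apply' _ _ _⟩
  · push Not at hfix
    obtain ⟨v₀, hv₀V, hv₀c, hv₀A⟩ := hfix
    set g : Set X := ((V : Set X) ∩ centralizer ((A ⊓ Q : Subgroup X) : Set X)) ∪
      (A ⊓ Q : Subgroup X)
    have hg : ∀ u ∈ g, ∀ w ∈ g, Commute u w := by
      rintro u (hu | hu) w (hw | hw)
      · exact H.commV hu.1 hw.1
      · exact (mem_centralizer_iff.mp hu.2 w hw).symm
      · exact mem_centralizer_iff.mp hw.2 u hu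
      · exact H.commA hu.1 hw.1
    haveI := isMulCommutative_closure fun u hu w hw => (hg u hu w hw).eq
    have hET : closure g ≤ T := by
      rw [closure_le]
      rintro u (hu | hu)
      · exact H.QT (H.UQ (H.VU hu.1))
      · exact H.QT hu.2
    have hlt : A ⊓ Q < closure g := by
      refine lt_of_le_of_ne (fun u hu => subset_closure (Or.inr hu)) fun h => hv₀A ?_
      exact (h.ge (subset_closure (Or.inl ⟨hv₀V, hv₀c⟩))).1
    have hmax : Transfer.IsMaxAbIn 0 T (closure g) := by
      refine ⟨hET, ⟨inferInstance, fun u _ => pow_zero u⟩, fun B hB hBe => ?_⟩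
      refine (H.maxA.2.2 B hB hBe).trans (H.card.trans ?_)
      obtain ⟨m, hm⟩ := (H.Tp.to_le hET).exists_card_eq
      obtain ⟨m', hm'⟩ := (H.Tp.to_le ((hlt.le).trans hET)).exists_card_eq
      have h := Basics.card_lt_of_lt hlt
      rw [hm, hm', Nat.pow_lt_pow_iff_right hp.out.one_lt] at h
      rw [hm, hm', ← pow_add]
      exact Nat.pow_le_pow_right hp.out.pos (by omega)
    have hw : y ∈ closure g := by
      refine Transfer.mem_of_commute_maxAb hmax (H.QT (H.UQ hy.1)) (pow_zero _) fun u hu => ?_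
      have : closure g ≤ centralizer {y} := by
        rw [closure_le]
        rintro u (hu | hu)
        · exact mem_centralizer_singleton_iff.mpr (H.commUV hy.1 hu.1).symm.eq
        · exact mem_centralizer_singleton_iff.mpr (mem_centralizer_iff.mp hy.2 u hu)
      exact mem_centralizer_singleton_iff.mp (this hu)
    haveI := H.Vn
    refine H.iterate_mem (E := closure g) hET
      (fun u hu w hw => congrArg Subtype.val (mul_comm' (⟨u, hu⟩ : closure g) ⟨w, hw⟩))
      hlt.le ?_ hw
    refine mem_normalizer_of_conj fun z hz => ?_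
    induction hz using closure_induction with
    | mem u hu =>
      rcases hu with hu | hu
      · refine subset_closure (Or.inl ⟨H.Vn.conj_mem u hu.1 a,
          mem_centralizer_iff.mpr fun e he => ?_⟩)
        have hae : Commute e a := (H.commA0a he).symm
        exact ((hae.mul_right (mem_centralizer_iff.mp hu.2 e he)).mul_right hae.inv_right).eq
      · rw [(H.commA0a hu).eq, mul_inv_cancel_right]; exact subset_closure (Or.inr hu)
    | one => simp
    | mul u w _ _ hu hw => rw [show a * (u * w) * a⁻¹ = a * u * a⁻¹ * (a * w * a⁻¹) by group]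
                           exact mul_mem hu hw
    | inv u _ hu => rw [show a * u⁻¹ * a⁻¹ = (a * u * a⁻¹)⁻¹ by group]; exact inv_mem hu

end Setup

end Cfsg.Agent.ConjFunctor.JDeg
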