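import Cfsg.Agent.Lib.ConjFunctor.JDegree

/-!
# The offender step for an abelian normal subgroup, and powers of an element with small degree
-/

set_option autoImplicit false
set_option linter.style.haveILetI false
set_option linter.unusedSectionVars false
set_option linter.unusedVariables false

namespace Cfsg.Agent.ConjFunctor.JDeg

open Subgroup
open scoped commutatorElement

variable {X : Type*} [Group X] [Finite X] {p : ℕ} [hp : Fact p.Prime] {T V A : Subgroup X}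

theorem abExp_sup {U C : Subgroup X} (hU : ∀ x ∈ U, ∀ y ∈ U, Commute x y)
    (hC : ∀ x ∈ C, ∀ y ∈ C, Commute x y) (hUC : ∀ x ∈ U, ∀ y ∈ C, Commute x y) :
    IsMulCommutative ↥(U ⊔ C) ∧ ∀ x ∈ U ⊔ C, x ^ 0 = 1 := by
  refine ⟨?_, fun x _ => pow_zero x⟩
  rw [← Subgroup.closure_eq U, ← Subgroup.closure_eq C, ← Subgroup.closure_union]
  refine isMulCommutative_closure fun x hx y hy => ?_
  rcases hx with hx | hx <;> rcases hy with hy | hy
  · exact (hU x hx y hy).eq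
  · exact (hUC x hx y hy).eq
  · exact (hUC y hy x hx).symm.eq
  · exact (hC x hx y hy).eq

theorem card_sup_mul {U C : Subgroup X} (hUC : ∀ x ∈ U, ∀ y ∈ C, Commute x y) :
    Nat.card ↥(U ⊔ C) * Nat.card ↥(U ⊓ C) = Nat.card U * Nat.card C := by
  refine (Basics.card_mul_card_eq_card_sup_mul_card_inf (N := U) (H := C) fun c hc =>
    mem_normalizer_of_conj fun u hu => ?_).symm
  rwa [(hUC u hu c hc).symm.eq, mul_inv_cancel_right]

/-- The subgroups `U` of `V` over `V ∩ A` with `|A| ≤ |U C_A(U)|`. -/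
def Good (A V U : Subgroup X) : Prop :=
  U ≤ V ∧ V ⊓ A ≤ U ∧
    Nat.card A * Nat.card (V ⊓ A : Subgroup X) ≤
      Nat.card U * Nat.card (A ⊓ centralizer (U : Set X) : Subgroup X)

theorem inf_centralizer_eq (hV : ∀ x ∈ V, ∀ y ∈ V, Commute x y) {U : Subgroup X} (hU : U ≤ V)
    (hle : V ⊓ A ≤ U) : U ⊓ (A ⊓ centralizer (U : Set X)) = V ⊓ A :=
  le_antisymm (fun x hx => ⟨hU hx.1, hx.2.1⟩) fun x hx =>
    ⟨hle hx, hx.2, mem_centralizer_iff.mpr fun y hy => (hV y (hU hy) x hx.1).eq⟩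

/-- Every candidate gives an abelian subgroup of `T`, so the inequality is an equality. -/
theorem card_le_of_good (hV : ∀ x ∈ V, ∀ y ∈ V, Commute x y) (hVT : V ≤ T)
    (hA : Transfer.IsMaxAbIn 0 T A) {U C : Subgroup X} (hU : U ≤ V) (hle : V ⊓ A ≤ U)
    (hC : C ≤ A ⊓ centralizer (U : Set X)) :
    Nat.card U * Nat.card C ≤ Nat.card A * Nat.card (V ⊓ A : Subgroup X) := by
  have hUC : ∀ x ∈ U, ∀ y ∈ C, Commute x y := fun x hx y hy =>
    mem_centralizer_iff.mp (hC hy).2 x hx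
  rw [← card_sup_mul hUC]
  refine Nat.mul_le_mul (hA.2.2 _ (sup_le (hU.trans hVT) ((hC.trans inf_le_left).trans hA.1))
    (abExp_sup (fun x hx y hy => hV x (hU hx) y (hU hy))
      (fun x hx y hy => Transfer.AbExp.commute hA.2.1 (hC hx).1 (hC hy).1) hUC)) ?_
  exact card_le_of_le ((inf_le_inf_left _ hC).trans (inf_centralizer_eq hV hU hle).le)

theorem Good.isMax (hV : ∀ x ∈ V, ∀ y ∈ V, Commute x y) (hVT : V ≤ T)
    (hA : Transfer.IsMaxAbIn 0 T A) {U : Subgroup X} (h : Good A V U) :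
    Transfer.IsMaxAbIn 0 T (U ⊔ (A ⊓ centralizer (U : Set X))) := by
  obtain ⟨hU, hle, hcard⟩ := h
  set C := A ⊓ centralizer (U : Set X)
  have hUC : ∀ x ∈ U, ∀ y ∈ C, Commute x y := fun x hx y hy =>
    mem_centralizer_iff.mp hy.2 x hx
  refine ⟨sup_le (hU.trans hVT) (inf_le_left.trans hA.1),
    abExp_sup (fun x hx y hy => hV x (hU hx) y (hU hy))
      (fun x hx y hy => Transfer.AbExp.commute hA.2.1 hx.1 hy.1) hUC, fun B hB hBe => ?_⟩
  refine (hA.2.2 B hB hBe).trans (Nat.le_of_mul_le_mul_right ?_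
    (Nat.card_pos : 0 < Nat.card (V ⊓ A : Subgroup X)))
  refine hcard.trans (le_of_eq ?_)
  rw [← card_sup_mul hUC, inf_centralizer_eq hV hU hle]

theorem Good.sup (hV : ∀ x ∈ V, ∀ y ∈ V, Commute x y) (hVT : V ≤ T)
    (hA : Transfer.IsMaxAbIn 0 T A) {U₁ U₂ : Subgroup X} (h1 : Good A V U₁) (h2 : Good A V U₂) :
    Good A V (U₁ ⊔ U₂) := by
  refine ⟨sup_le h1.1 h2.1, h1.2.1.trans le_sup_left, ?_⟩
  set C₁ := A ⊓ centralizer (U₁ : Set X)
  set C₂ := A ⊓ centralizer (U₂ : Set X)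
  have hC : A ⊓ centralizer ((U₁ ⊔ U₂ : Subgroup X) : Set X) = C₁ ⊓ C₂ := by
    refine le_antisymm (le_inf (inf_le_inf_left _ (centralizer_le (SetLike.coe_subset_coe.mpr le_sup_left)))
      (inf_le_inf_left _ (centralizer_le (SetLike.coe_subset_coe.mpr le_sup_right)))) fun c hc => ⟨hc.1.1, ?_⟩
    refine mem_centralizer_iff.mpr fun y hy => ?_
    have : U₁ ⊔ U₂ ≤ centralizer {c} := sup_le
      (fun u hu => mem_centralizer_singleton_iff.mpr (mem_centralizer_iff.mp hc.1.2 u hu))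
      (fun u hu => mem_centralizer_singleton_iff.mpr (mem_centralizer_iff.mp hc.2.2 u hu))
    exact mem_centralizer_singleton_iff.mp (this hy)
  rw [hC]
  have hUU : ∀ x ∈ U₁, ∀ y ∈ U₂, Commute x y := fun x hx y hy => hV x (h1.1 hx) y (h2.1 hy)
  have hCC : ∀ x ∈ C₁, ∀ y ∈ C₂, Commute x y := fun x hx y hy =>
    Transfer.AbExp.commute hA.2.1 hx.1 hy.1
  have hlow := card_le_of_good hV hVT hA (U := U₁ ⊓ U₂) (C := C₁ ⊔ C₂)
    (inf_le_left.trans h1.1) (le_inf h1.2.1 h2.2.1)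
    (sup_le (inf_le_inf_left _ (centralizer_le inf_le_left))
      (inf_le_inf_left _ (centralizer_le inf_le_right)))
  set K := Nat.card A * Nat.card (V ⊓ A : Subgroup X)
  have hKpos : 0 < K := Nat.mul_pos Nat.card_pos Nat.card_pos
  have hprod : Nat.card ↥(U₁ ⊔ U₂) * Nat.card ↥(C₁ ⊓ C₂) *
      (Nat.card ↥(U₁ ⊓ U₂) * Nat.card ↥(C₁ ⊔ C₂)) =
        (Nat.card U₁ * Nat.card C₁) * (Nat.card U₂ * Nat.card C₂) := by
    calc _ = (Nat.card ↥(U₁ ⊔ U₂) * Nat.card ↥(U₁ ⊓ U₂)) *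
        (Nat.card ↥(C₁ ⊔ C₂) * Nat.card ↥(C₁ ⊓ C₂)) := by ring
      _ = _ := by rw [card_sup_mul hUU, card_sup_mul hCC]; ring
  refine Nat.le_of_mul_le_mul_right ?_ hKpos
  calc K * K ≤ _ := Nat.mul_le_mul h1.2.2 h2.2.2
    _ = _ := hprod.symm
    _ ≤ _ := Nat.mul_le_mul_left _ hlow

/-- Thompson's count for one element of `V`. -/
theorem exists_good_mem [V.Normal] (hV : ∀ x ∈ V, ∀ y ∈ V, Commute x y)
    (hA : IsMulCommutative A) {v : X} (hv : v ∈ V) :
    ∃ U, Good A V U ∧ ∀ e ∈ A, ⁅e, v⁆ ∈ U := by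
  have hAc : ∀ {x y : X}, x ∈ A → y ∈ A → Commute x y := fun hx hy =>
    congrArg Subtype.val (mul_comm' (⟨_, hx⟩ : A) ⟨_, hy⟩)
  have hmem : ∀ e : X, ⁅e, v⁆ ∈ V := fun e => by
    rw [commutatorElement_def]
    exact mul_mem (‹V.Normal›.conj_mem v hv e) (inv_mem hv)
  set U := (V ⊓ A) ⊔ closure {u | ∃ e ∈ A, ⁅e, v⁆ = u} with hUdef
  have hUV : U ≤ V := sup_le inf_le_left ((closure_le _).mpr (by rintro _ ⟨e, -, rfl⟩; exact hmem e))
  have hUmem : ∀ e ∈ A, ⁅e, v⁆ ∈ U := fun e he => mem_sup_right (subset_closure ⟨e, he, rfl⟩)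
  refine ⟨U, ⟨hUV, le_sup_left, ?_⟩, hUmem⟩
  set C := A ⊓ centralizer (U : Set X)
  have key : ∀ e ∈ A, ∀ e' ∈ A, ⁅e, v⁆⁻¹ * ⁅e', v⁆ ∈ V ⊓ A → e⁻¹ * e' ∈ C := by
    intro e he e' he' h
    set c := e⁻¹ * e'
    have hc : c ∈ A := mul_mem (inv_mem he) he'
    have h1 : ⁅e', v⁆ = e * ⁅c, v⁆ * e⁻¹ * ⁅e, v⁆ := by
      rw [← commutatorElement_mul_left_eq_conj_mul, mul_inv_cancel_left]
    have hd : e * ⁅c, v⁆ * e⁻¹ ∈ V := ‹V.Normal›.conj_mem _ (hmem c) e
    rw [h1, (hV _ hd _ (hmem e)).eq, inv_mul_cancel_left] at h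
    have h2 : ⁅c, v⁆ ∈ A := by
      have := mul_mem (mul_mem (inv_mem he) h.2) he
      simpa [mul_assoc] using this
    refine ⟨hc, mem_centralizer_iff.mpr fun y hy => ?_⟩
    have : U ≤ centralizer {c} := by
      refine sup_le (fun u hu => mem_centralizer_singleton_iff.mpr (hAc hu.2 hc).eq)
        ((closure_le _).mpr ?_)
      rintro _ ⟨f, hf, rfl⟩
      refine mem_centralizer_singleton_iff.mpr ?_
      show ⁅f, v⁆ * c = c * ⁅f, v⁆
      refine (mul_inv_eq_iff_eq_mul.mp ?_).symm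
      rw [conjugate_commutatorElement, show c * f * c⁻¹ = f by rw [(hAc hc hf).eq, mul_inv_cancel_right],
        show c * v * c⁻¹ = ⁅c, v⁆ * v by simp [commutatorElement_def],
        commutatorElement_mul_right_eq_mul_conj,
        show ⁅f, ⁅c, v⁆⁆ = 1 from commutatorElement_eq_one_iff_commute.mpr (hAc hf h2),
        one_mul, (hV _ (hmem c) _ (hmem f)).eq, mul_inv_cancel_right]
    exact mem_centralizer_singleton_iff.mp (this hy)
  have hinj : Nat.card (↥A ⧸ C.subgroupOf A) ≤ Nat.card (↥U ⧸ (V ⊓ A).subgroupOf U) := by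
    refine Nat.card_le_card_of_injective
      (fun x => QuotientGroup.mk (⟨⁅(x.out : X), v⁆, hUmem _ x.out.2⟩ : ↥U)) fun x y hxy => ?_
    rw [← x.out_eq', ← y.out_eq', QuotientGroup.eq, mem_subgroupOf]
    have h := QuotientGroup.eq.mp hxy
    rw [mem_subgroupOf] at h
    exact key _ x.out.2 _ y.out.2 h
  have e1 := card_eq_card_quotient_mul_card_subgroup (C.subgroupOf A)
  have e2 := card_eq_card_quotient_mul_card_subgroup ((V ⊓ A).subgroupOf U)
  rw [Basics.card_subgroupOf (inf_le_left : C ≤ A)] at e1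
  rw [Basics.card_subgroupOf (le_sup_left : V ⊓ A ≤ U)] at e2
  rw [e1, e2]
  calc _ ≤ Nat.card (↥U ⧸ (V ⊓ A).subgroupOf U) * Nat.card C * Nat.card ↥(V ⊓ A) :=
        Nat.mul_le_mul_right _ (Nat.mul_le_mul_right _ hinj)
    _ = _ := by ring

/-- Either `[V, A] ≤ A`, or `[V, A]` centralizes a subgroup of `A ∩ Q` completing it. -/
theorem exists_split [V.Normal] (hV : ∀ x ∈ V, ∀ y ∈ V, Commute x y) {Q : Subgroup X}
    (hVT : V ≤ T) (hA : Transfer.IsMaxAbIn 0 T A)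
    (hmax : ∀ R, Transfer.IsMaxAbIn 0 T R → ¬ R ≤ Q →
      Nat.card (R ⊓ V : Subgroup X) ≤ Nat.card (A ⊓ V : Subgroup X)) :
    (∀ v ∈ V, ∀ e ∈ A, ⁅e, v⁆ ∈ A) ∨ ∃ U₀ C : Subgroup X, U₀ ≤ V ∧
      (∀ v ∈ V, ∀ e ∈ A, ⁅e, v⁆ ∈ U₀) ∧ C ≤ A ⊓ Q ∧
      (∀ u ∈ U₀, ∀ c ∈ C, Commute u c) ∧ Transfer.IsMaxAbIn 0 T (U₀ ⊔ C) := by
  classical
  have h0 : Good A V (V ⊓ A) := by
    refine ⟨inf_le_left, le_rfl, le_of_eq ?_⟩
    rw [inf_eq_left.mpr (show A ≤ centralizer ((V ⊓ A : Subgroup X) : Set X) from fun x hx =>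
      mem_centralizer_iff.mpr fun y hy => (Transfer.AbExp.commute hA.2.1 hy.2 hx).eq), mul_comm]
  obtain ⟨U₀, hU₀, hbig⟩ := Set.exists_max_image {U : Subgroup X | Good A V U}
    (fun U => Nat.card U) (Set.toFinite _) ⟨_, h0⟩
  have hall : ∀ v ∈ V, ∀ e ∈ A, ⁅e, v⁆ ∈ U₀ := by
    intro v hv e he
    obtain ⟨U, hU, hUm⟩ := exists_good_mem hV hA.2.1.1 hv
    have h := hbig _ (hU₀.sup hV hVT hA hU)
    exact (eq_of_le_of_card_ge le_sup_left h).ge (mem_sup_right (hUm e he))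
  have hR := hU₀.isMax hV hVT hA
  by_cases hRQ : U₀ ⊔ (A ⊓ centralizer (U₀ : Set X)) ≤ Q
  · exact Or.inr ⟨U₀, _, hU₀.1, hall, le_inf inf_le_left (le_sup_right.trans hRQ),
      fun u hu c hc => mem_centralizer_iff.mp hc.2 u hu, hR⟩
  · left
    have h1 := hmax _ hR hRQ
    have h2 : U₀ ≤ A := by
      have h3 : Nat.card U₀ ≤ Nat.card (V ⊓ A : Subgroup X) := by
        rw [inf_comm V A]
        exact (card_le_of_le (le_inf le_sup_left hU₀.1)).trans h1
      exact (eq_of_le_of_card_ge hU₀.2.1 h3).ge.trans inf_le_right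
    exact fun v hv e he => h2 (hall v hv e he)

/-- `(g - 1)^L = 0` with `L ≤ (p - 1) p^j` gives `(g^(p^j) - 1)^(p-1) = 0`. -/
theorem iterate_del_pow_eq_one {Y : Type*} [Group Y] {U : Subgroup Y} [U.Normal]
    [IsMulCommutative U] (hexp : ∀ u ∈ U, u ^ p = 1) (a : Y) {L j : ℕ}
    (hL : ∀ u ∈ U, (del a)^[L] u = 1) (hLj : L ≤ p ^ j * (p - 1)) :
    ∀ u ∈ U, (del (a ^ p ^ j))^[p - 1] u = 1 := by
  open scoped IsMulCommutative in
  letI : CommGroup U := inferInstance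
  let σ : Y →* AddMonoid.End (Additive ↥U) :=
    { toFun := fun g => MonoidHom.toAdditive (MulAut.conjNormal (H := U) g).toMonoidHom
      map_one' := by
        refine DFunLike.ext _ _ fun z => Additive.toMul.injective (Subtype.ext ?_)
        show ((MulAut.conjNormal (1 : Y) (Additive.toMul z) : ↥U) : Y) = _
        simp
      map_mul' := fun g h => by
        refine DFunLike.ext _ _ fun z => Additive.toMul.injective (Subtype.ext ?_)
        show ((MulAut.conjNormal (g * h) (Additive.toMul z) : ↥U) : Y) =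
          ((MulAut.conjNormal g (MulAut.conjNormal h (Additive.toMul z)) : ↥U) : Y)
        simp [mul_assoc] }
  have hδ : ∀ (g : Y) (n : ℕ) (u : ↥U), ((σ g - 1) ^ n) (Additive.ofMul u) =
      Additive.ofMul ⟨(del g)^[n] (u : Y), iterate_del_mem g u.2 n⟩ := by
    intro g n
    induction n with
    | zero => intro u; rfl
    | succ n ih =>
      intro u
      rw [pow_succ', AddMonoid.End.coe_mul, Function.comp_apply, ih]
      show Additive.ofMul (MulAut.conjNormal g _) - Additive.ofMul _ = _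
      rw [sub_eq_add_neg, ← ofMul_inv, ← ofMul_mul]
      refine congrArg Additive.ofMul (Subtype.ext ?_)
      simp [Function.iterate_succ_apply', del]
  have hchar : ((p : ℕ) : AddMonoid.End (Additive ↥U)) = 0 := by
    refine DFunLike.ext _ _ fun z => ?_
    show p • z = 0
    exact Additive.toMul.injective (Subtype.ext (by simpa using hexp _ (Additive.toMul z).2))
  intro u hu
  rcases subsingleton_or_nontrivial (AddMonoid.End (Additive ↥U)) with hS | hS
  · have := congrArg (fun φ : AddMonoid.End (Additive ↥U) => φ (Additive.ofMul ⟨u, hu⟩))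
      (Subsingleton.elim ((σ (a ^ p ^ j) - 1) ^ (p - 1)) 0)
    rw [hδ] at this
    exact congrArg (fun z => ((Additive.toMul z : ↥U) : Y)) this
  haveI : CharP (AddMonoid.End (Additive ↥U)) p :=
    ringChar.of_eq (CharP.ringChar_of_prime_eq_zero hp.out hchar)
  have h1 : σ (a ^ p ^ j) - 1 = (σ a - 1) ^ p ^ j := by
    rw [map_pow, sub_pow_char_pow_of_commute (p := p) (Commute.one_right (σ a)) (n := j), one_pow]
  have h2 : ((σ a - 1) ^ L) = 0 := by
    refine DFunLike.ext _ _ fun z => ?_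
    obtain ⟨w, rfl⟩ := Additive.ofMul.surjective z
    rw [hδ]
    exact Additive.toMul.injective (Subtype.ext (hL _ w.2))
  have h3 := hδ (a ^ p ^ j) (p - 1) ⟨u, hu⟩
  rw [h1, ← pow_mul, show p ^ j * (p - 1) = L + (p ^ j * (p - 1) - L) by omega, pow_add, h2,
    zero_mul] at h3
  exact congrArg (fun z => ((Additive.toMul z : ↥U) : Y)) h3.symm

end Cfsg.Agent.ConjFunctor.JDeg
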