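import Cfsg.Agent.Lib.ConjFunctor.KComplement

/-!
# Nontrivial `p`-factor groups for `p ≥ 5`
-/

set_option autoImplicit false
set_option linter.style.haveILetI false
set_option linter.unusedSectionVars false
set_option linter.unusedVariables false

namespace Cfsg.Agent.ConjFunctor

open Subgroup Cfsg
open scoped commutatorElement

universe u

variable {p : ℕ} [hp : Fact p.Prime]

theorem sylow_le_derived_of_pResidual {G : Type*} [Group G] [Finite G]
    (h : pResidual p G = ⊤) (S : Sylow p G) : (S : Subgroup G) ≤ _root_.commutator G := by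
  intro x hx
  obtain ⟨k, m, hm, hcard⟩ :=
    Nat.exists_eq_pow_mul_and_not_dvd (Nat.card_pos (α := Abelianization G)).ne' p hp.out.ne_one
  have hker : pResidual p (Abelianization G) ≤ (powMonoidHom (α := Abelianization G) m).ker :=
    (closure_le _).mpr fun y hy => by
      have h1 : orderOf y ∣ p ^ k * m := hcard ▸ orderOf_dvd_natCard y
      exact orderOf_dvd_iff_pow_eq_one.mp ((Nat.Coprime.pow_right k hy).dvd_of_dvd_mul_left h1)
  have hx1 : Abelianization.of x ^ m = 1 :=
    hker (Transfer.map_pResidual_le Abelianization.of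
      (mem_map_of_mem _ (h.ge (mem_top x))))
  obtain ⟨j, hj⟩ := S.2 ⟨x, hx⟩
  have hj' : x ^ p ^ j = 1 := congrArg Subtype.val hj
  have h2 : Abelianization.of x = 1 := by
    refine LocalEvenA.eq_one_of_pPow_of_coprime (p := p) (k := j) ?_ ?_
    · rw [← map_pow, hj', map_one]
    · exact Nat.Coprime.coprime_dvd_left (orderOf_dvd_of_pow_eq_one hx1)
        (hp.out.coprime_iff_not_dvd.mpr hm).symm
  exact (QuotientGroup.eq_one_iff x).mp h2

theorem pResidual_eq_top_of_sylow_le_derived {G : Type*} [Group G] [Finite G]
    (S : Sylow p G) (h : (S : Subgroup G) ≤ _root_.commutator G) : pResidual p G = ⊤ := by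
  by_contra hne
  haveI : Nontrivial (G ⧸ pResidual p G) := QuotientGroup.nontrivial_iff.mpr hne
  haveI : Group.IsNilpotent (G ⧸ pResidual p G) :=
    (Transfer.isPGroup_quotient_pResidual (p := p) (G := G)).isNilpotent
  refine (Group.IsSolvable.commutator_lt_top_of_nontrivial (G ⧸ pResidual p G)).ne ?_
  rw [_root_.commutator_def, ← map_top_of_surjective (QuotientGroup.mk' (pResidual p G))
    (QuotientGroup.mk'_surjective _), ← map_commutator, ← _root_.commutator_def]
  refine le_antisymm (map_mono le_top) ?_
  conv_lhs => rw [← Transfer.pResidual_sup_sylow S, Subgroup.map_sup, QuotientGroup.map_mk'_self,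
    bot_sup_eq]
  exact map_mono h

theorem pResidual_ne_top_aux (h5 : 5 ≤ p) : ∀ (n : ℕ) (G : Type u) [Group G] [Finite G],
    Nat.card G = n → ∀ S : Sylow p G, (S : Subgroup G) ≠ ⊥ →
      (∀ g ∈ normalizer ((S : Subgroup G) : Set G), (orderOf g).Coprime p →
        g ∈ centralizer ((S : Subgroup G) : Set G)) → pResidual p G ≠ ⊤ := by
  intro n
  induction n using Nat.strong_induction_on with
  | _ n ih =>
  intro G _ _ hn S hS hN htop
  have hW := (isCharPFunctor_kInf.{u} p).1
  have hWf := isConjugacyFunctor_induced (G := G) hW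
  set K := inducedFunctor kInfLower (S : Subgroup G) with hK
  have hKS : K ≤ (S : Subgroup G) := inducedFunctor_le _
  set N := normalizer (K : Set G) with hNdef
  have hSN : (S : Subgroup G) ≤ N := self_le_normalizer_functor hWf S.2
  rcases eq_or_ne N ⊤ with hNt | hNt
  · haveI : K.Normal := normalizer_eq_top_iff.mp hNt
    rcases eq_or_ne K (S : Subgroup G) with e | e
    · have h1 : HasNormalPComplement p G := by
        refine hasNormalPComplement_of_centralized S K (e ▸ inf_le_left) fun g hg => ?_
        rw [e]
        refine hN g ?_ hg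
        rw [← e, ← hNdef, hNt]
        exact mem_top g
      rw [Transfer.hasNormalPComplement_iff, htop, card_top] at h1
      refine hS (le_bot_iff.mp ?_)
      rw [← Transfer.sylow_disjoint_of_coprime S ⊤ (by rwa [card_top]), top_inf_eq]
    · set q := QuotientGroup.mk' K with hq
      have hqs : Function.Surjective q := QuotientGroup.mk'_surjective K
      have hlt : Nat.card (G ⧸ K) < n := by
        rw [← hn, card_eq_card_quotient_mul_card_subgroup K]
        exact (lt_mul_iff_one_lt_right Nat.card_pos).mpr ((one_lt_card_iff_ne_bot K).mpr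
          (functor_ne_bot hWf S.2 hS))
      refine ih _ hlt (G ⧸ K) rfl (S.mapSurjective hqs) ?_ ?_ ?_
      · rw [Sylow.coe_mapSurjective, Ne, Subgroup.map_eq_bot_iff, QuotientGroup.ker_mk']
        exact fun h => e (le_antisymm hKS h)
      · intro g hg ho
        obtain ⟨x, rfl⟩ := hqs g
        have hcm : ((S : Subgroup G).map q).comap q = (S : Subgroup G) := by
          rw [comap_map_eq, QuotientGroup.ker_mk', sup_eq_left.mpr hKS]
        have hxN : x ∈ normalizer ((S : Subgroup G) : Set G) := by
          rw [← hcm, ← comap_normalizer_eq_of_surjective _ hqs]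
          rwa [Sylow.coe_mapSurjective] at hg
        obtain ⟨a, b, ha, hb, hab, ⟨k, hk⟩, hbo⟩ := Transfer.exists_pPart_mul (p := p) x
        have hqa : q a = 1 := by
          refine Transfer.eq_one_of_pow_of_coprime (p := p) ⟨k, (orderOf_map_dvd q a).trans hk⟩ ?_
          obtain ⟨i, rfl⟩ := mem_zpowers_iff.mp ha
          rw [map_zpow]
          exact ho.coprime_dvd_left (orderOf_dvd_of_mem_zpowers (zpow_mem (mem_zpowers _) i))
        have hbC := hN b (zpowers_le.mpr hxN hb) hbo
        rw [← hab, map_mul, hqa, one_mul, Sylow.coe_mapSurjective]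
        exact mem_centralizer_iff.mpr fun y hy => by
          obtain ⟨s, hs, rfl⟩ := hy
          rw [← map_mul, ← map_mul, mem_centralizer_iff.mp hbC s hs]
      · rw [← Transfer.map_pResidual_eq (p := p) hqs, htop]
        exact map_top_of_surjective q hqs
  · have hlt : Nat.card N < n := hn ▸ Components.card_lt_of_ne_top hNt
    have hres : pResidual p N ≠ ⊤ := by
      refine ih _ hlt N rfl (S.subtype hSN) ?_ ?_
      · intro h
        apply hS
        rw [← le_bot_iff]
        intro s hs
        have h1 : (⟨s, hSN hs⟩ : ↥N) ∈ ((S.subtype hSN : Sylow p ↥N) : Subgroup ↥N) := hs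
        rw [h, mem_bot] at h1
        exact mem_bot.mpr (congrArg Subtype.val h1)
      · intro g hg ho
        have hg' : (g : G) ∈ normalizer ((S : Subgroup G) : Set G) := by
          refine mem_normalizer_iff.mpr fun s => ?_
          constructor
          · exact fun hs => (mem_normalizer_iff.mp hg ⟨s, hSN hs⟩).mp hs
          · intro hs
            have h1 : (g : G) * s * (g : G)⁻¹ ∈ N := hSN hs
            have hsN : s ∈ N := by
              simpa [mul_assoc] using mul_mem (mul_mem (inv_mem g.2) h1) g.2
            exact (mem_normalizer_iff.mp hg ⟨s, hsN⟩).mpr hs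
        refine mem_centralizer_iff.mpr fun s hs => Subtype.ext ?_
        exact mem_centralizer_iff.mp (hN (g : G) hg' (by rwa [orderOf_coe])) (s : G) hs
    apply hres
    have h1 := transfer_eq_of_five (G := G) hW hasElement_lower h5 S
    rw [inf_eq_left.mpr (sylow_le_derived_of_pResidual htop S), ← hK, ← hNdef] at h1
    refine pResidual_eq_top_of_sylow_le_derived (S.subtype hSN) fun s hs => ?_
    have h2 : (s : G) ∈ ⁅N, N⁆ := (h1.le hs).2
    rw [← map_subtype_commutator] at h2
    exact (mem_map_iff_mem N.subtype_injective).mp h2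

end Cfsg.Agent.ConjFunctor
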