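import Cfsg.Agent.Lib.ConjFunctor.JTransferDegree
import Cfsg.Agent.Lib.ConjFunctor.JComplement
import Cfsg.Agent.Lib.ConjFunctor.KFactorGroup
import Cfsg.Agent.Lib.Transfer.Tate

/-!
# `N(J(S))` controls `p`-factor groups for `p ≥ 7`; Tate's theorem in the needed form
-/

set_option autoImplicit false
set_option linter.style.haveILetI false
set_option linter.unusedSectionVars false
set_option linter.unusedVariables false

namespace Cfsg.Agent.ConjFunctor

open Subgroup Cfsg
open scoped commutatorElement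

universe u

variable {p : ℕ} [hp : Fact p.Prime]

section element

variable {X : Type u} [Group X] [Finite X]

/-- If `J` is not inside `O_p`, an element of `S ∖ O_p` has degree at most `6` on every chief
factor inside `O_p`. -/
theorem exists_element_J (hp7 : 7 ≤ p) (S : Sylow p X)
    (hn : normalizer ((Transfer.JAb 0 (S : Subgroup X) : Subgroup X) : Set X) ≠ ⊤) :
    ∃ g : X, g ∈ (S : Subgroup X) ∧ g ∉ pCore p X ∧
      ∀ U V : Subgroup X, IsChiefFactor U V → U ≤ pCore p X →
        ∀ u ∈ U, (del g)^[6] u ∈ V := by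
  classical
  haveI := LocalEvenA.pCore_normal' p X
  set Q := pCore p X with hQdef
  have hQp : IsPGroup p Q := LocalEvenA.pCore_isPGroup' p X
  have hQS : Q ≤ (S : Subgroup X) := pCore_le_sylow S
  obtain ⟨B₀, hB₀c, hB₀3, hB₀1, hB₀C⟩ := exists_critical hQp
  haveI := hB₀c
  set B := B₀.map Q.subtype with hB
  haveI hBn : B.Normal := inferInstance
  have hBQ : B ≤ Q := map_subtype_le _
  set Z := B ⊓ centralizer (B : Set X) with hZdef
  haveI hZn : Z.Normal := inferInstance
  have hZB : Z ≤ B := inf_le_left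
  have hB3 : ⁅Q, B⁆ ≤ Z := by
    rw [hZdef, show B ⊓ centralizer (B : Set X) = (B₀ ⊓ centralizer (B₀ : Set Q)).map Q.subtype from
      (map_centralizer_inter Q.subtype Q.subtype_injective B₀).symm]
    refine le_trans (le_of_eq ?_) (map_mono hB₀3)
    rw [map_commutator, ← MonoidHom.range_eq_map, range_subtype]
  have hCB : Q ⊓ centralizer (B : Set X) ≤ Z := fun z hz => by
    refine ⟨⟨⟨z, hz.1⟩, hB₀C (mem_centralizer_iff.mpr fun a ha => Subtype.ext ?_), rfl⟩, hz.2⟩
    exact mem_centralizer_iff.mp hz.2 (a : X) (mem_map_of_mem _ ha)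
  have hex : ∃ R, Transfer.IsMaxAbIn 0 (S : Subgroup X) R ∧ ¬ R ≤ Q := by
    by_contra hcon
    push Not at hcon
    refine hn (top_le_iff.mp ?_)
    rw [← Transfer.JAb_eq_of_le hQS (sSup_le hcon), ← normalizer_eq_top (H := Q)]
    exact Transfer.normalizer_le_normalizer_JAb Q
  set wt : Subgroup X → ℕ := fun R => Nat.card (R ⊓ Z : Subgroup X) * (Nat.card X + 1) +
    Nat.card (R ⊓ B : Subgroup X) with hwt
  obtain ⟨A, ⟨hA, hAQ⟩, hmax⟩ := Set.exists_max_image
    {R : Subgroup X | Transfer.IsMaxAbIn 0 (S : Subgroup X) R ∧ ¬ R ≤ Q} wt (Set.toFinite _) hex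
  have H : JDeg.Choice p Q (S : Subgroup X) B Z A := by
    refine ⟨hBn, hZn, S.2, hQS, hBQ, hZB, ?_, ?_, hA, fun R hR hRQ => ?_, fun R hR hRQ he => ?_⟩
    · exact commutator_eq_bot_iff_le_centralizer.mpr fun b hb =>
        mem_centralizer_iff.mpr fun z hz => (mem_centralizer_iff.mp hz.2 b hb).symm
    · rw [Subgroup.commutator_comm]; exact hB3
    · by_contra hlt
      push Not at hlt
      have h1 : wt R ≤ wt A := hmax R ⟨hR, hRQ⟩
      have h2 : Nat.card (A ⊓ B : Subgroup X) ≤ Nat.card X := card_le_card_group _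
      have h3 : (Nat.card (A ⊓ Z : Subgroup X) + 1) * (Nat.card X + 1) ≤
          Nat.card (R ⊓ Z : Subgroup X) * (Nat.card X + 1) := Nat.mul_le_mul_right _ hlt
      simp only [hwt] at h1
      rw [add_mul, one_mul] at h3
      omega
    · have h1 : wt R ≤ wt A := hmax R ⟨hR, hRQ⟩
      simp only [hwt] at h1
      rw [he] at h1
      omega
  obtain ⟨a, haA, haQ⟩ := SetLike.not_le_iff_exists.mp hAQ
  refine ⟨a, hA.1 haA, haQ, fun U V hUV hUQ => ?_⟩
  have hZfac : ∀ U V : Subgroup X, IsChiefFactor U V → U ≤ Z →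
      ∀ u ∈ U, (del a)^[3] u ∈ V := by
    intro U V hUV hUZ u hu
    refine H.degree_Z haA hUV.2.2.1 (hUZ hu) fun e he => ?_
    rw [← commutatorElement_inv]
    exact inv_mem (chief_commutator_le hUV hQp (hUZ.trans (hZB.trans hBQ))
      (commutator_mem_commutator hu he))
  have hlayer : ∀ i j : ℕ, (∀ b ∈ B, (del a)^[i] b ∈ Z) → j ≤ i →
      (∀ U V : Subgroup X, IsChiefFactor U V → U ≤ Z → ∀ u ∈ U, (del a)^[j] u ∈ V) →
      ∀ U V : Subgroup X, IsChiefFactor U V → U ≤ B → ∀ u ∈ U, (del a)^[i] u ∈ V := by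
    intro i j hi hji hj U V h hUB u hu
    haveI := h.2.1
    haveI := h.2.2.1
    rcases h.2.2.2 (V ⊔ U ⊓ Z) inferInstance le_sup_left (sup_le h.1.le inf_le_left) with e | e
    · exact (sup_eq_left.mp e) ⟨iterate_del_mem a hu i, hi u (hUB hu)⟩
    · obtain ⟨v, hv, z, hz, rfl⟩ := mem_sup_of_normal_right.mp (e.symm ▸ hu : u ∈ V ⊔ U ⊓ Z)
      have hsub : IsChiefFactor (U ⊓ Z) (V ⊓ (U ⊓ Z)) := by
        refine ⟨lt_of_le_of_ne inf_le_right fun e' => h.1.ne ?_, inferInstance, inferInstance,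
          fun N hN h1 h2 => ?_⟩
        · rw [← e, sup_eq_left.mpr (inf_eq_right.mp e')]
        · haveI := hN
          rcases h.2.2.2 (V ⊔ N) inferInstance le_sup_left
              (sup_le h.1.le (h2.trans inf_le_left)) with eN | eN
          · exact Or.inl (le_antisymm (le_inf (sup_eq_left.mp eN) h2) h1)
          · refine Or.inr (le_antisymm h2 fun y hy => ?_)
            obtain ⟨v', hv', n, hn', rfl⟩ :=
              mem_sup_of_normal_right.mp (eN.symm ▸ hy.1 : y ∈ V ⊔ N)
            refine N.mul_mem (h1 ⟨hv', ?_⟩) hn'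
            have := mul_mem hy (inv_mem (h2 hn'))
            simpa using this
      have hz3 : (del a)^[j] z ∈ V := (hj _ _ hsub inf_le_right z hz).1
      have hzi : (del a)^[i] z ∈ V := by
        rw [← Nat.sub_add_cancel hji, Function.iterate_add_apply]
        exact iterate_del_mem a hz3 _
      have h1 : QuotientGroup.mk' V ((del a)^[i] (v * z)) = 1 := by
        rw [map_iterate_del, map_mul, show QuotientGroup.mk' V v = 1 from
          (QuotientGroup.eq_one_iff v).mpr hv, one_mul, ← map_iterate_del]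
        exact (QuotientGroup.eq_one_iff _).mpr hzi
      exact (QuotientGroup.eq_one_iff _).mp h1
  have hdel : ∀ x, del a x = ⁅a, x⁆ := fun x => by simp [del, commutatorElement_def]
  rcases JDeg.exists_split (fun x hx y hy => H.commZ hx hy) H.ZT hA H.bestZ with
    hI | ⟨U₀, C, h1, h2, h3, h4, h5⟩
  · have hI' : ∀ v ∈ Z, del a v ∈ A := fun v hv => by rw [hdel]; exact hI v hv a haA
    have hZ2 : ∀ U V : Subgroup X, IsChiefFactor U V → U ≤ Z → ∀ u ∈ U, (del a)^[2] u ∈ V :=
      fun U V _ hUZ u hu => by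
        show del a (del a u) ∈ V
        rw [JDeg.del_one_of_commute (H.commA haA (hI' u (hUZ hu)))]
        exact one_mem _
    exact iterate_del_mem_of_critical hQp hBQ hB3 hCB a 5 2 (by norm_num) (by norm_num)
      (hlayer 5 2 (fun b hb => by rw [H.degree_five haA hI' hp7 hb]; exact one_mem _)
        (by norm_num) hZ2) hZ2 hUV hUQ
  · exact iterate_del_mem_of_critical hQp hBQ hB3 hCB a 4 3 (by norm_num) (by norm_num)
      (hlayer 4 3 (fun b hb => H.degree_offender haA h1 h2 h3 h4 h5 hb) (by norm_num) hZfac)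
      hZfac hUV hUQ

end element

/-- For `p ≥ 7` the normalizer of `J(S)` controls transfer. -/
theorem transfer_eq_J {G : Type u} [Group G] [Finite G] (hp7 : 7 ≤ p) (S : Sylow p G) :
    (S : Subgroup G) ⊓ _root_.commutator G = (S : Subgroup G) ⊓
      ⁅normalizer ((Transfer.JAb 0 (S : Subgroup G) : Subgroup G) : Set G),
        normalizer ((Transfer.JAb 0 (S : Subgroup G) : Subgroup G) : Set G)⁆ := by
  have hW := isCharPFunctor_thompsonA.{u} (p := p)
  have h𝒲 : ∀ W' ∈ ({fun (Q : Type u) [Group Q] => thompsonSubgroupA Q} :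
      Set (∀ (Q : Type u) [Group Q], Subgroup Q)), IsCharPFunctor.{u} p W' := by
    rintro _ rfl; exact hW
  have hall := xfer_of_sections (G := G) h𝒲 (by
    intro K R hR hc hsub hquot T
    set X := ↥K ⧸ R.subgroupOf K
    by_cases hn : normalizer ((Transfer.JAb 0 (T : Subgroup X) : Subgroup X) : Set X) = ⊤
    · intro x hx
      refine inf_le_xCtl_top
        (𝒲 := indFam {fun (Q : Type u) [Group Q] => thompsonSubgroupA Q} X)
        (W := inducedFunctor (fun (Q : Type u) [Group Q] => thompsonSubgroupA Q))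
        ⟨fun (Q : Type u) [Group Q] => thompsonSubgroupA Q, rfl, rfl⟩ ?_
      rw [inducedFunctor_thompsonA, hn]
      exact hx
    · obtain ⟨g, hgS, hgQ, hg⟩ := exists_element_J hp7 T hn
      refine xfer_of_element h𝒲 T hsub hquot hc g hgS hgQ fun U V hUV hU => ?_
      haveI := hUV.2.1
      haveI := hUV.2.2.1
      exact iterate_antitone_del hUV (pCore_isPGroup_le hU) g hp7 (hg U V hUV hU))
  obtain ⟨T, hT, h⟩ := at_of_familyTransfer hall.2
  rw [indFam, Set.image_singleton] at h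
  have h1 := h.move (by rintro _ rfl; exact isConjugacyFunctor_induced hW) hT (isSylIn_top S)
  rw [_root_.commutator_def, h1.eq, xCtl_single, top_inf_eq, inducedFunctor_thompsonA]
where
  pCore_isPGroup_le {X : Type u} [Group X] [Finite X] {U : Subgroup X} (hU : U ≤ pCore p X) :
      IsPGroup p U := (LocalEvenA.pCore_isPGroup' p X).to_le hU
  iterate_antitone_del {X : Type u} [Group X] [Finite X] {U V : Subgroup X}
      (hUV : IsChiefFactor U V) (hU : IsPGroup p U) (g : X) (hp7 : 7 ≤ p)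
      (h : ∀ u ∈ U, (del g)^[6] u ∈ V) : iterCommutator U (zpowers g) (p - 1) ≤ V := by
    haveI := hUV.2.1
    haveI := hUV.2.2.1
    exact iterCommutator_antitone (show 6 ≤ p - 1 by omega)
      (iterCommutator_le_of_del hUV hU g 6 h)

/-- **Tate**: equal abelian `p`-factor groups give equal `p`-factor groups. -/
theorem pResidual_inf_le_of_derived {G : Type u} [Group G] [Finite G] (S : Sylow p G)
    (M : Subgroup G) (hSM : (S : Subgroup G) ≤ M)
    (h : (pResidual p G).subgroupOf M ≤ pResidual p ↥M ⊔ _root_.commutator ↥M) :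
    (pResidual p G).subgroupOf M ≤ pResidual p ↥M := by
  haveI hKn : (pResidual p G).Normal := inferInstance
  haveI := Transfer.pResidual_characteristic ↥M p
  set N := pResidual p ↥M with hN
  set R := (pResidual p G).subgroupOf M with hR
  haveI : R.Normal := normal_subgroupOf
  by_contra hnot
  set R₁ := N ⊔ ⁅R, (⊤ : Subgroup ↥M)⁆ with hR₁
  haveI : R₁.Normal := inferInstance
  have hMp : IsPGroup p (↥M ⧸ N) := Transfer.isPGroup_quotient_pResidual (p := p) (G := ↥M)
  have hRR₁ : ¬ R ≤ R₁ := by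
    intro hle
    apply hnot
    set q := QuotientGroup.mk' N
    haveI := hMp.isNilpotent
    haveI : Group.IsNilpotent ↥(⊤ : Subgroup (↥M ⧸ N)) := Group.isNilpotent_top.mpr inferInstance
    have h1 : R.map q ≤ ⊥ ⊔ ⁅R.map q, (⊤ : Subgroup (↥M ⧸ N))⁆ := by
      refine (map_mono hle).trans ?_
      rw [hR₁, Subgroup.map_sup, QuotientGroup.map_mk'_self, map_commutator,
        map_top_of_surjective q (QuotientGroup.mk'_surjective N)]
    have h2 := Transfer.le_of_le_sup_commutator (S := (⊤ : Subgroup (↥M ⧸ N))) le_top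
      (by rw [normalizer_eq_top]) h1
    rwa [le_bot_iff, Subgroup.map_eq_bot_iff, QuotientGroup.ker_mk'] at h2
  set qM := QuotientGroup.mk' R₁ with hqM
  set C : Subgroup (↥M ⧸ R₁) := R.map qM with hC
  have hCcent : C ≤ center (↥M ⧸ R₁) := by
    rintro _ ⟨r, hr, rfl⟩
    refine mem_center_iff.mpr fun y => ?_
    obtain ⟨m, rfl⟩ := QuotientGroup.mk'_surjective R₁ y
    rw [← hqM, eq_comm, ← commutatorElement_eq_one_iff_mul_comm, ← map_commutatorElement,
      hqM, QuotientGroup.mk'_apply, QuotientGroup.eq_one_iff]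
    exact mem_sup_right (commutator_mem_commutator hr (mem_top m))
  -- `G` maps onto `M / R`, the extension pulls back
  set qK := QuotientGroup.mk' (pResidual p G) with hqK
  let φ : ↥M ⧸ R₁ →* G ⧸ pResidual p G := QuotientGroup.lift R₁ (qK.comp M.subtype) (by
    have hle : R₁ ≤ R := sup_le (fun y hy => mem_subgroupOf.mpr
      (Transfer.map_pResidual_le M.subtype (mem_map_of_mem _ hy))) (commutator_le_left _ _)
    intro y hy
    exact (QuotientGroup.eq_one_iff _).mpr (hle hy))
  let E : Subgroup (G × (↥M ⧸ R₁)) :=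
    MonoidHom.eqLocus (qK.comp (MonoidHom.fst G (↥M ⧸ R₁))) (φ.comp (MonoidHom.snd G (↥M ⧸ R₁)))
  have hmemE : ∀ z : G × (↥M ⧸ R₁), z ∈ E ↔ qK z.1 = φ z.2 := fun z => Iff.rfl
  let Zc : Subgroup ↥E := ((⊥ : Subgroup G).prod C).subgroupOf E
  let s : ↥M →* ↥E := ((M.subtype).prod qM).codRestrict E fun m => (hmemE _).mpr rfl
  have hZc : Zc ≤ center ↥E := fun z hz => mem_center_iff.mpr fun y => Subtype.ext (Prod.ext
    (by
      have h1 : (z : G × (↥M ⧸ R₁)).1 = 1 := mem_bot.mp (mem_subgroupOf.mp hz).1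
      show (y : G × (↥M ⧸ R₁)).1 * (z : G × (↥M ⧸ R₁)).1 = _ * (y : G × (↥M ⧸ R₁)).1
      rw [h1, mul_one, one_mul])
    (mem_center_iff.mp (hCcent (mem_subgroupOf.mp hz).2) _))
  -- the preimage of the Sylow subgroup
  let SE : Subgroup ↥E := ((S : Subgroup G).prod ⊤).subgroupOf E
  have hfst : Function.Surjective ((MonoidHom.fst G (↥M ⧸ R₁)).comp E.subtype) := by
    intro g
    have hg : g ∈ pResidual p G ⊔ (S : Subgroup G) := by
      rw [Transfer.pResidual_sup_sylow S]; exact mem_top g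
    rw [← SetLike.mem_coe, normal_mul] at hg
    obtain ⟨k, hk, m, hm, rfl⟩ := hg
    refine ⟨⟨(k * m, qM ⟨m, hSM hm⟩), (hmemE _).mpr ?_⟩, rfl⟩
    show qK (k * m) = qK m
    rw [map_mul, show qK k = 1 from (QuotientGroup.eq_one_iff k).mpr hk, one_mul]
  have hSEidx : ¬ p ∣ SE.index := by
    have hSE : SE = (S : Subgroup G).comap ((MonoidHom.fst G (↥M ⧸ R₁)).comp E.subtype) := by
      ext z
      simp only [SE, mem_subgroupOf, mem_prod, mem_top, and_true]
      rfl
    rw [hSE, index_comap_of_surjective _ hfst]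
    exact S.not_dvd_index
  have hZS : Zc ≤ SE := fun z hz => mem_subgroupOf.mpr
    ⟨(mem_bot.mp (mem_subgroupOf.mp hz).1).symm ▸ one_mem _, mem_top _⟩
  -- the projection of the preimage onto the kernel
  have hdiff : ∀ z : ↥SE, qM ⟨(z : G × (↥M ⧸ R₁)).1, hSM (mem_subgroupOf.mp z.2).1⟩⁻¹ *
      ((z : ↥E) : G × (↥M ⧸ R₁)).2 ∈ C := by
    intro z
    obtain ⟨m, hm⟩ := QuotientGroup.mk'_surjective R₁ ((z : ↥E) : G × (↥M ⧸ R₁)).2
    rw [← hm, ← hqM, ← map_mul]
    refine mem_map_of_mem qM (mem_subgroupOf.mpr ?_)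
    have h1 := (hmemE _).mp (z : ↥E).2
    rw [← hm] at h1
    exact QuotientGroup.eq.mp h1
  haveI : IsMulCommutative ↥C := ⟨⟨fun x y => Subtype.ext (mem_center_iff.mp (hCcent y.2) x)⟩⟩
  open scoped IsMulCommutative in
  letI : CommGroup ↥C := inferInstance
  let π : ↥SE →* ↥C :=
    { toFun := fun z => ⟨_, hdiff z⟩
      map_one' := Subtype.ext (by
        show (qM ⟨(1 : G), _⟩⁻¹) * (1 : ↥M ⧸ R₁) = 1
        rw [mul_one, show (⟨(1 : G), _⟩ : ↥M) = 1 from rfl, inv_one, map_one])
      map_mul' := fun z w => Subtype.ext (by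
        show qM (⟨_, _⟩ : ↥M)⁻¹ * (((z : ↥E) : G × (↥M ⧸ R₁)).2 * ((w : ↥E) : G × (↥M ⧸ R₁)).2) =
          (qM (⟨_, hSM (mem_subgroupOf.mp z.2).1⟩ : ↥M)⁻¹ * ((z : ↥E) : G × (↥M ⧸ R₁)).2) *
            (qM (⟨_, hSM (mem_subgroupOf.mp w.2).1⟩ : ↥M)⁻¹ * ((w : ↥E) : G × (↥M ⧸ R₁)).2)
        change qM ((⟨_, hSM (mem_subgroupOf.mp z.2).1⟩ : ↥M) *
          ⟨_, hSM (mem_subgroupOf.mp w.2).1⟩)⁻¹ * _ = _
        rw [mul_inv_rev, map_mul]
        have hc := mem_center_iff.mp (hCcent (hdiff z))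
          (qM (⟨_, hSM (mem_subgroupOf.mp w.2).1⟩ : ↥M)⁻¹)
        calc _ = qM (⟨_, hSM (mem_subgroupOf.mp w.2).1⟩ : ↥M)⁻¹ *
            (qM (⟨_, hSM (mem_subgroupOf.mp z.2).1⟩ : ↥M)⁻¹ * ((z : ↥E) : G × (↥M ⧸ R₁)).2) *
              ((w : ↥E) : G × (↥M ⧸ R₁)).2 := by simp only [mul_assoc]
          _ = _ := by rw [hc]; simp only [mul_assoc]) }
  have hCp : IsPGroup p ↥C := by
    have hNR₁ : N ≤ R₁ := le_sup_left
    refine (hMp.of_surjective (QuotientGroup.map N R₁ (MonoidHom.id _) hNR₁) ?_).to_subgroup C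
    intro y
    obtain ⟨m, rfl⟩ := QuotientGroup.mk'_surjective R₁ y
    exact ⟨QuotientGroup.mk' N m, rfl⟩
  have hZcp : IsPGroup p ↥Zc := by
    refine hCp.of_injective (((MonoidHom.snd G (↥M ⧸ R₁)).comp (E.subtype.comp Zc.subtype)).codRestrict
      C fun z => (mem_subgroupOf.mp z.2).2) ?_
    intro z w hzw
    refine Subtype.ext (Subtype.ext (Prod.ext ?_ (congrArg Subtype.val hzw)))
    rw [mem_bot.mp (mem_subgroupOf.mp z.2).1, mem_bot.mp (mem_subgroupOf.mp w.2).1]
  obtain ⟨τ, hτ⟩ := Transfer.exists_retraction_of_central Zc SE hZc hZcp hZS hSEidx hCp π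
  let κ : ↥(pResidual p G) →* ↥E :=
    ((pResidual p G).subtype.prod 1).codRestrict E fun k => (hmemE _).mpr (by
      show qK (k : G) = φ 1
      rw [map_one, hqK, QuotientGroup.mk'_apply, QuotientGroup.eq_one_iff]
      exact k.2)
  have hκ : τ.comp κ = 1 := by
    rw [← MonoidHom.ker_eq_top_iff, ← top_le_iff, ← Transfer.pResidual_pResidual (p := p) (G := G)]
    exact (Transfer.pResidual_le_iff _).mpr (hCp.of_injective _ (QuotientGroup.kerLift_injective _))
  let ψ : ↥M →* ↥C := τ.comp s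
  have hψC : ∀ r ∈ R, (ψ r : ↥M ⧸ R₁) = qM r := by
    intro r hr
    have hz : (⟨((1 : G), qM r), (hmemE _).mpr (by
        show qK 1 = qK (r : G)
        rw [map_one, eq_comm, hqK, QuotientGroup.mk'_apply, QuotientGroup.eq_one_iff]
        exact mem_subgroupOf.mp hr)⟩ : ↥E) ∈ Zc :=
      mem_subgroupOf.mpr ⟨one_mem _, mem_map_of_mem qM hr⟩
    have h1 : τ _ = π (inclusion hZS ⟨_, hz⟩) := hτ ⟨_, hz⟩
    have h2 : s r = κ ⟨(r : G), mem_subgroupOf.mp hr⟩ *
        (⟨((1 : G), qM r), (hz |> fun _ => (hmemE _).mpr (by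
          show qK 1 = qK (r : G)
          rw [map_one, eq_comm, hqK, QuotientGroup.mk'_apply, QuotientGroup.eq_one_iff]
          exact mem_subgroupOf.mp hr))⟩ : ↥E) := Subtype.ext (Prod.ext (mul_one _).symm (one_mul _).symm)
    show ((τ (s r) : ↥C) : ↥M ⧸ R₁) = _
    rw [h2, map_mul, show τ (κ ⟨(r : G), mem_subgroupOf.mp hr⟩) = 1 from
      DFunLike.congr_fun hκ _, one_mul, h1]
    show qM (⟨(1 : G), _⟩ : ↥M)⁻¹ * qM r = qM r
    rw [show (⟨(1 : G), _⟩ : ↥M) = 1 from rfl, inv_one, map_one, one_mul]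
  refine hRR₁ fun r hr => ?_
  have hψ1 : ψ r = 1 := by
    have : pResidual p ↥M ⊔ _root_.commutator ↥M ≤ ψ.ker :=
      sup_le ((Transfer.pResidual_le_iff _).mpr (hCp.of_injective _ (QuotientGroup.kerLift_injective _)))
        (Abelianization.commutator_subset_ker ψ)
    exact this (h hr)
  rw [← QuotientGroup.eq_one_iff, ← QuotientGroup.mk'_apply, ← hqM, ← hψC r hr, hψ1]
  rfl

/-- For `p ≥ 7`: `G/O^p(G) ≅ M/O^p(M)` with `M = N_G(J(S))`. -/
theorem pFactor_equiv_J {G : Type u} [Group G] [Finite G] (hp7 : 7 ≤ p) (S : Sylow p G)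
    [hn : (pResidual p G).Normal]
    [hm : (pResidual p ↥(normalizer ((Transfer.JAb 0 (S : Subgroup G) : Subgroup G) : Set G))).Normal] :
    Nonempty (G ⧸ pResidual p G ≃*
      ↥(normalizer ((Transfer.JAb 0 (S : Subgroup G) : Subgroup G) : Set G)) ⧸
        pResidual p ↥(normalizer ((Transfer.JAb 0 (S : Subgroup G) : Subgroup G) : Set G))) := by
  set M := normalizer ((Transfer.JAb 0 (S : Subgroup G) : Subgroup G) : Set G) with hM
  have hSM : (S : Subgroup G) ≤ M :=
    self_le_normalizer_functor Transfer.isConjugacyFunctor_JAb_zero S.2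
  have hle : pResidual p ↥M ≤ (pResidual p G).subgroupOf M := fun y hy => mem_subgroupOf.mpr
    (Transfer.map_pResidual_le M.subtype (mem_map_of_mem _ hy))
  have hder : (pResidual p G).subgroupOf M ≤ pResidual p ↥M ⊔ _root_.commutator ↥M := by
    intro y hy
    have hy1 : y ∈ pResidual p ↥M ⊔ ((S : Subgroup G).subgroupOf M) := by
      rw [← Sylow.coe_subtype S hSM, Transfer.pResidual_sup_sylow]
      exact mem_top _
    rw [← SetLike.mem_coe, normal_mul] at hy1
    obtain ⟨k, hk, t, ht, rfl⟩ := hy1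
    refine mul_mem (mem_sup_left hk) (mem_sup_right ?_)
    have htS : (t : G) ∈ (S : Subgroup G) := mem_subgroupOf.mp ht
    have htK : t ∈ (pResidual p G).subgroupOf M := by
      have := mul_mem (inv_mem (hle hk)) hy
      simpa using this
    have htG : (t : G) ∈ _root_.commutator G := by
      have hker : pResidual p G ≤ (MonoidHom.id G).ker ⊔ pResidual p G := le_sup_right
      obtain ⟨k, m, hm, hcard⟩ :=
        Nat.exists_eq_pow_mul_and_not_dvd (Nat.card_pos (α := Abelianization G)).ne' p hp.out.ne_one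
      have hker' : pResidual p (Abelianization G) ≤
          (powMonoidHom (α := Abelianization G) m).ker := (closure_le _).mpr fun z hz => by
        have h1 : orderOf z ∣ p ^ k * m := hcard ▸ orderOf_dvd_natCard z
        exact orderOf_dvd_iff_pow_eq_one.mp ((Nat.Coprime.pow_right k hz).dvd_of_dvd_mul_left h1)
      have hx1 : Abelianization.of (t : G) ^ m = 1 := hker'
        (Transfer.map_pResidual_le Abelianization.of (mem_map_of_mem _ (mem_subgroupOf.mp htK)))
      obtain ⟨j, hj⟩ := S.2 ⟨_, htS⟩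
      refine (QuotientGroup.eq_one_iff (t : G)).mp (LocalEvenA.eq_one_of_pPow_of_coprime (p := p)
        (a := Abelianization.of (t : G)) (k := j) ?_
        ((orderOf_dvd_of_pow_eq_one hx1 |> Nat.Coprime.coprime_dvd_left)
          (hp.out.coprime_iff_not_dvd.mpr hm).symm))
      rw [← map_pow, show (t : G) ^ p ^ j = 1 from congrArg Subtype.val hj, map_one]
    have h := transfer_eq_J hp7 S
    have h2 : (t : G) ∈ ⁅M, M⁆ := (h.le ⟨htS, htG⟩).2
    rw [← map_subtype_commutator] at h2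
    exact (mem_map_iff_mem M.subtype_injective).mp h2
  have heq : (pResidual p G).subgroupOf M = pResidual p ↥M :=
    le_antisymm (pResidual_inf_le_of_derived S M hSM hder) hle
  let f : ↥M →* G ⧸ pResidual p G := (QuotientGroup.mk' _).comp M.subtype
  have hf : Function.Surjective f := by
    intro y
    obtain ⟨g, rfl⟩ := QuotientGroup.mk'_surjective _ y
    have hg : g ∈ pResidual p G ⊔ (S : Subgroup G) := by
      rw [Transfer.pResidual_sup_sylow S]; exact mem_top g
    rw [← SetLike.mem_coe, normal_mul] at hg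
    obtain ⟨k, hk, m, hm', rfl⟩ := hg
    refine ⟨⟨m, hSM hm'⟩, ?_⟩
    show QuotientGroup.mk' _ m = QuotientGroup.mk' _ (k * m)
    rw [map_mul, show QuotientGroup.mk' (pResidual p G) k = 1 from
      (QuotientGroup.eq_one_iff k).mpr hk, one_mul]
  have hker : f.ker = pResidual p ↥M := by
    rw [← heq]
    ext y
    rw [MonoidHom.mem_ker, mem_subgroupOf]
    exact QuotientGroup.eq_one_iff (y : G)
  exact ⟨((QuotientGroup.quotientMulEquivOfEq hker.symm).trans
    (QuotientGroup.quotientKerEquivOfSurjective f hf)).symm⟩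

end Cfsg.Agent.ConjFunctor
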