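import Cfsg.Agent.Lib.ConjFunctor.JOffender

/-!
# The degree of an element of an abelian subgroup of largest order on a class-two subgroup

`A` is chosen among the abelian subgroups of largest order of `T` outside `Q`, first with
`|A ∩ Z|` then with `|A ∩ B|` as large as possible.  For `a ∈ A` the map `del a` has degree at
most `5` on `B` when `[Z, A] ≤ A`, at most `4` on `B/Z` otherwise, and at most `3` on the chief
factors inside `Z`.
-/

set_option autoImplicit false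
set_option linter.style.haveILetI false
set_option linter.unusedSectionVars false
set_option linter.unusedVariables false

namespace Cfsg.Agent.ConjFunctor.JDeg

open Subgroup
open scoped commutatorElement

universe u

section count

variable {X : Type*} [Group X] [Finite X]

/-- Thompson's count for the orbit of one element of an abelian `A`-invariant subgroup. -/
theorem exists_orbit_good {V A : Subgroup X} (hVn : ∀ e ∈ A, ∀ x ∈ V, e * x * e⁻¹ ∈ V)
    (hV : ∀ x ∈ V, ∀ y ∈ V, Commute x y) (hA : IsMulCommutative A) {v : X} (hv : v ∈ V) :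
    ∃ U, Good A V U ∧ (∀ e ∈ A, ⁅e, v⁆ ∈ U) ∧
      (∀ c ∈ A, ⁅c, v⁆ ∈ A → c ∈ centralizer (U : Set X)) ∧
      (∀ e ∈ A, ∀ u ∈ U, e * u * e⁻¹ ∈ U) ∧
      U ≤ (V ⊓ A) ⊔ ⁅V, A⁆ ∧
      (Nat.card U * Nat.card (A ⊓ centralizer (U : Set X) : Subgroup X) ≤
          Nat.card A * Nat.card (V ⊓ A : Subgroup X) →
        ∀ u ∈ U, ∃ e ∈ A, ⁅e, v⁆⁻¹ * u ∈ V ⊓ A) := by
  have hAc : ∀ {x y : X}, x ∈ A → y ∈ A → Commute x y := fun hx hy =>
    congrArg Subtype.val (mul_comm' (⟨_, hx⟩ : A) ⟨_, hy⟩)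
  have hmem : ∀ e ∈ A, ⁅e, v⁆ ∈ V := fun e he => by
    rw [commutatorElement_def]
    exact mul_mem (hVn e he v hv) (inv_mem hv)
  set U := (V ⊓ A) ⊔ closure {u | ∃ e ∈ A, ⁅e, v⁆ = u} with hUdef
  have hUV : U ≤ V := sup_le inf_le_left ((closure_le _).mpr (by
    rintro _ ⟨e, he, rfl⟩; exact hmem e he))
  have hUmem : ∀ e ∈ A, ⁅e, v⁆ ∈ U := fun e he => mem_sup_right (subset_closure ⟨e, he, rfl⟩)
  set C := A ⊓ centralizer (U : Set X) with hCdef
  have hcent : ∀ c ∈ A, ⁅c, v⁆ ∈ A → c ∈ centralizer (U : Set X) := by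
    intro c hc h2
    refine mem_centralizer_iff.mpr fun y hy => ?_
    have : U ≤ centralizer {c} := by
      refine sup_le (fun u hu => mem_centralizer_singleton_iff.mpr (hAc hu.2 hc).eq)
        ((closure_le _).mpr ?_)
      rintro _ ⟨f, hf, rfl⟩
      refine mem_centralizer_singleton_iff.mpr ?_
      show ⁅f, v⁆ * c = c * ⁅f, v⁆
      refine (mul_inv_eq_iff_eq_mul.mp ?_).symm
      rw [conjugate_commutatorElement, show c * f * c⁻¹ = f by rw [(hAc hc hf).eq, mul_inv_cancel_right],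
        show c * v * c⁻¹ = ⁅c, v⁆ * v by simp [commutatorElement_def],
        commutatorElement_mul_right_eq_mul_conj,
        show ⁅f, ⁅c, v⁆⁆ = 1 from commutatorElement_eq_one_iff_commute.mpr (hAc hf h2),
        one_mul, (hV _ (hmem c hc) _ (hmem f hf)).eq, mul_inv_cancel_right]
    exact mem_centralizer_singleton_iff.mp (this hy)
  have hinv : ∀ e ∈ A, ∀ u ∈ U, e * u * e⁻¹ ∈ U := by
    intro e he
    have : U ≤ U.comap (MulAut.conj e).toMonoidHom := by
      refine sup_le (fun u hu => ?_) ((closure_le _).mpr ?_)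
      · show e * u * e⁻¹ ∈ U
        rw [(hAc he hu.2).eq, mul_inv_cancel_right]
        exact mem_sup_left hu
      · rintro _ ⟨f, hf, rfl⟩
        show e * ⁅f, v⁆ * e⁻¹ ∈ U
        rw [show e * ⁅f, v⁆ * e⁻¹ = ⁅e * f, v⁆ * ⁅e, v⁆⁻¹ by
          rw [commutatorElement_mul_left_eq_conj_mul, mul_inv_cancel_right]]
        exact mul_mem (hUmem _ (mul_mem he hf)) (inv_mem (hUmem e he))
    exact fun u hu => this hu
  have key : ∀ e ∈ A, ∀ e' ∈ A, ⁅e, v⁆⁻¹ * ⁅e', v⁆ ∈ V ⊓ A → e⁻¹ * e' ∈ C := by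
    intro e he e' he' h
    set c := e⁻¹ * e'
    have hc : c ∈ A := mul_mem (inv_mem he) he'
    have h1 : ⁅e', v⁆ = e * ⁅c, v⁆ * e⁻¹ * ⁅e, v⁆ := by
      rw [← commutatorElement_mul_left_eq_conj_mul, mul_inv_cancel_left]
    rw [h1, (hV _ (hVn e he _ (hmem c hc)) _ (hmem e he)).eq, inv_mul_cancel_left] at h
    have h2 : ⁅c, v⁆ ∈ A := by
      have := mul_mem (mul_mem (inv_mem he) h.2) he
      simpa [mul_assoc] using this
    exact ⟨hc, hcent c hc h2⟩
  let F : ↥A ⧸ C.subgroupOf A → ↥U ⧸ (V ⊓ A).subgroupOf U :=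
    fun x => QuotientGroup.mk (⟨⁅(x.out : X), v⁆, hUmem _ x.out.2⟩ : ↥U)
  have hF : Function.Injective F := fun x y hxy => by
    rw [← x.out_eq', ← y.out_eq', QuotientGroup.eq, mem_subgroupOf]
    have h := QuotientGroup.eq.mp hxy
    rw [mem_subgroupOf] at h
    exact key _ x.out.2 _ y.out.2 h
  have hinj := Nat.card_le_card_of_injective F hF
  have e1 := card_eq_card_quotient_mul_card_subgroup (C.subgroupOf A)
  have e2 := card_eq_card_quotient_mul_card_subgroup ((V ⊓ A).subgroupOf U)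
  rw [Basics.card_subgroupOf (inf_le_left : C ≤ A)] at e1
  rw [Basics.card_subgroupOf (le_sup_left : V ⊓ A ≤ U)] at e2
  refine ⟨U, ⟨hUV, le_sup_left, ?_⟩, hUmem, hcent, hinv, ?_, fun hle u hu => ?_⟩
  · rw [e1, e2]
    calc _ ≤ Nat.card (↥U ⧸ (V ⊓ A).subgroupOf U) * Nat.card C * Nat.card ↥(V ⊓ A) :=
          Nat.mul_le_mul_right _ (Nat.mul_le_mul_right _ hinj)
      _ = _ := by ring
  · refine sup_le le_sup_left ((closure_le _).mpr ?_)
    rintro _ ⟨e, he, rfl⟩
    rw [← commutatorElement_inv]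
    exact inv_mem (mem_sup_right (commutator_mem_commutator hv he))
  · rw [← hCdef, e1, e2] at hle
    have hcard : Nat.card (↥U ⧸ (V ⊓ A).subgroupOf U) ≤ Nat.card (↥A ⧸ C.subgroupOf A) := by
      refine Nat.le_of_mul_le_mul_right ?_ (Nat.mul_pos
        (Nat.card_pos (α := ↥(V ⊓ A : Subgroup X))) (Nat.card_pos (α := ↥C)))
      calc _ = _ := by ring
        _ ≤ _ := hle
        _ = _ := by ring
    obtain ⟨x, hx⟩ := ((Nat.bijective_iff_injective_and_card F).mpr
      ⟨hF, le_antisymm hinj hcard⟩).2 (QuotientGroup.mk (⟨u, hu⟩ : ↥U))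
    exact ⟨_, x.out.2, mem_subgroupOf.mp (QuotientGroup.eq.mp hx)⟩

end count

/-- The choice of `A`. -/
structure Choice {X : Type*} [Group X] (p : ℕ) (Q T B Z A : Subgroup X) : Prop where
  Bn : B.Normal
  Zn : Z.Normal
  Tp : IsPGroup p T
  QT : Q ≤ T
  BQ : B ≤ Q
  ZB : Z ≤ B
  BZc : ⁅B, Z⁆ = ⊥
  BQc : ⁅B, Q⁆ ≤ Z
  maxA : Transfer.IsMaxAbIn 0 T A
  bestZ : ∀ R, Transfer.IsMaxAbIn 0 T R → ¬ R ≤ Q →
    Nat.card (R ⊓ Z : Subgroup X) ≤ Nat.card (A ⊓ Z : Subgroup X)
  bestB : ∀ R, Transfer.IsMaxAbIn 0 T R → ¬ R ≤ Q →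
    Nat.card (R ⊓ Z : Subgroup X) = Nat.card (A ⊓ Z : Subgroup X) →
      Nat.card (R ⊓ B : Subgroup X) ≤ Nat.card (A ⊓ B : Subgroup X)

namespace Choice

variable {X : Type u} [Group X] [Finite X] {p : ℕ} [hp : Fact p.Prime] {Q T B Z A : Subgroup X}
  (H : Choice p Q T B Z A)

include H

theorem commA {x y : X} (hx : x ∈ A) (hy : y ∈ A) : Commute x y :=
  Transfer.AbExp.commute H.maxA.2.1 hx hy

theorem commBZ {b z : X} (hb : b ∈ B) (hz : z ∈ Z) : Commute b z :=
  commutatorElement_eq_one_iff_commute.mp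
    (mem_bot.mp (H.BZc ▸ commutator_mem_commutator hb hz))

theorem commZ {x y : X} (hx : x ∈ Z) (hy : y ∈ Z) : Commute x y := H.commBZ (H.ZB hx) hy

theorem commQ {b e : X} (hb : b ∈ B) (he : e ∈ Q) : ⁅b, e⁆ ∈ Z :=
  H.BQc (commutator_mem_commutator hb he)

theorem ZT : Z ≤ T := H.ZB.trans (H.BQ.trans H.QT)

theorem commutator_Z_mem (e : X) {z : X} (hz : z ∈ Z) : ⁅e, z⁆ ∈ Z := by
  rw [commutatorElement_def]
  exact mul_mem (H.Zn.conj_mem z hz e) (inv_mem hz)

theorem A0_commute {a e : X} (ha : a ∈ A) (he : e ∈ A ⊓ Q) : Commute a e := H.commA ha he.1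

/-- An element of `A ∖ Q` moving `v ∈ Z` into `A` makes all of `A` move `v` into `A`. -/
theorem property {v : X} (hv : v ∈ Z) {e : X} (he : e ∈ A) (heQ : e ∉ Q) (hev : ⁅e, v⁆ ∈ A) :
    ∀ f ∈ A, ⁅f, v⁆ ∈ A := by
  obtain ⟨U, hU, hUm, hUc, -, -, -⟩ := exists_orbit_good (A := A)
    (fun e _ x hx => H.Zn.conj_mem x hx e) (fun x hx y hy => H.commZ hx hy) H.maxA.2.1.1 hv
  have hR := hU.isMax (fun x hx y hy => H.commZ hx hy) H.ZT H.maxA
  have hRQ : ¬ U ⊔ (A ⊓ centralizer (U : Set X)) ≤ Q :=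
    fun h => heQ (h (mem_sup_right ⟨he, hUc e he hev⟩))
  have h3 : Nat.card U ≤ Nat.card (Z ⊓ A : Subgroup X) := by
    rw [inf_comm Z A]
    exact (card_le_of_le (le_inf le_sup_left hU.1)).trans (H.bestZ _ hR hRQ)
  exact fun f hf => ((eq_of_le_of_card_ge hU.2.1 h3).ge (hUm f hf)).2

/-- An element of `B` centralizing `A ∩ Q` with commuting `A`-orbit is moved into `A` by `A`. -/
theorem orbit {v : X} (hvB : v ∈ B) (hvc : v ∈ centralizer ((A ⊓ Q : Subgroup X) : Set X))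
    (hvo : ∀ e ∈ A, ∀ f ∈ A, Commute (e * v * e⁻¹) (f * v * f⁻¹)) :
    ∀ e ∈ A, ⁅e, v⁆ ∈ A := by
  haveI := H.maxA.2.1.1
  set g : Set X := {x | ∃ e ∈ A, e * v * e⁻¹ = x} ∪ (A ⊓ Q : Subgroup X)
  have horb : ∀ e ∈ A, ∀ w ∈ A ⊓ Q, Commute (e * v * e⁻¹) w := fun e he w hw =>
    (((H.A0_commute he hw).symm.mul_right (mem_centralizer_iff.mp hvc w hw)).mul_right
      (H.A0_commute he hw).symm.inv_right).symm
  have hg : ∀ u ∈ g, ∀ w ∈ g, Commute u w := by
    rintro u (⟨e, he, rfl⟩ | hu) w (⟨f, hf, rfl⟩ | hw)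
    · exact hvo e he f hf
    · exact horb e he w hw
    · exact (horb f hf u hu).symm
    · exact H.commA hu.1 hw.1
  set Y := closure g
  haveI := isMulCommutative_closure fun u hu w hw => (hg u hu w hw).eq
  have hYc : ∀ x ∈ Y, ∀ y ∈ Y, Commute x y := fun x hx y hy =>
    congrArg Subtype.val (mul_comm' (⟨x, hx⟩ : Y) ⟨y, hy⟩)
  have hYQ : Y ≤ Q := by
    rw [closure_le]
    rintro u (⟨e, -, rfl⟩ | hu)
    · exact H.BQ (H.Bn.conj_mem v hvB e)
    · exact hu.2
  have hA0Y : A ⊓ Q ≤ Y := fun x hx => subset_closure (Or.inr hx)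
  have hYA : Y ⊓ A = A ⊓ Q := le_antisymm (fun x hx => ⟨hx.2, hYQ hx.1⟩)
    (le_inf hA0Y inf_le_left)
  have hYn : ∀ e ∈ A, ∀ x ∈ Y, e * x * e⁻¹ ∈ Y := by
    intro e he
    have : Y ≤ Y.comap (MulAut.conj e).toMonoidHom := by
      rw [closure_le]
      rintro u (⟨f, hf, rfl⟩ | hu)
      · exact subset_closure (Or.inl ⟨e * f, mul_mem he hf, by
          show _ = e * (f * v * f⁻¹) * e⁻¹
          group⟩)
      · show e * u * e⁻¹ ∈ Y
        rw [(H.A0_commute he hu).eq, mul_inv_cancel_right]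
        exact hA0Y hu
    exact fun x hx => this hx
  have hvY : v ∈ Y := subset_closure (Or.inl ⟨1, one_mem _, by group⟩)
  obtain ⟨U, hU, hUm, -, -, hUle, -⟩ := exists_orbit_good (A := A) hYn hYc H.maxA.2.1.1 hvY
  set C := A ⊓ centralizer (U : Set X)
  have hA0U : A ⊓ Q ≤ U := hYA.ge.trans hU.2.1
  by_cases hCQ : C ≤ Q
  · have hCA : C ≤ A ⊓ Q := le_inf inf_le_left hCQ
    have hUA : Nat.card A ≤ Nat.card U := by
      refine Nat.le_of_mul_le_mul_right ?_ (Nat.card_pos : 0 < Nat.card (A ⊓ Q : Subgroup X))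
      calc Nat.card A * Nat.card (A ⊓ Q : Subgroup X) = _ := by rw [hYA]
        _ ≤ _ := hU.2.2
        _ ≤ _ := Nat.mul_le_mul_left _ (card_le_of_le hCA)
    have hYU : U = Y := eq_of_le_of_card_ge hU.1 ((H.maxA.2.2 Y (hYQ.trans H.QT)
      ⟨inferInstance, fun y _ => pow_zero y⟩).trans hUA)
    have hS : Y ⊔ A ≤ T := sup_le (hYQ.trans H.QT) H.maxA.1
    haveI : Group.IsNilpotent ↥(Y ⊔ A) := (H.Tp.to_le hS).isNilpotent
    have hn : Y ⊔ A ≤ normalizer ((A ⊓ Q : Subgroup X) : Set X) := by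
      refine sup_le (fun y hy => mem_normalizer_of_conj fun z hz => ?_)
        (fun e he => mem_normalizer_of_conj fun z hz => ?_)
      · rwa [(hYc y hy z (hA0Y hz)).eq, mul_inv_cancel_right]
      · rwa [(H.A0_commute he hz).eq, mul_inv_cancel_right]
    have h := Transfer.le_of_le_sup_commutator (S := Y ⊔ A) le_sup_left hn
      ((hYU.ge.trans hUle).trans (sup_le_sup hYA.le (commutator_mono le_rfl le_sup_right)))
    intro e he
    rw [commutatorElement_eq_one_iff_commute.mpr (H.commA he (h hvY).1)]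
    exact one_mem _
  · have hR := hU.isMax hYc (hYQ.trans H.QT) H.maxA
    have hRQ : ¬ U ⊔ C ≤ Q := fun h => hCQ (le_sup_right.trans h)
    have hZle : A ⊓ Z ≤ (U ⊔ C) ⊓ Z := le_inf
      ((le_inf inf_le_left (inf_le_right.trans (H.ZB.trans H.BQ))).trans
        (hA0U.trans le_sup_left)) inf_le_right
    have heq := le_antisymm (H.bestZ _ hR hRQ) (card_le_of_le hZle)
    have hBle : A ⊓ B ≤ (U ⊔ C) ⊓ B := le_inf
      ((le_inf inf_le_left (inf_le_right.trans H.BQ)).trans (hA0U.trans le_sup_left)) inf_le_right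
    have hBeq := eq_of_le_of_card_ge hBle (H.bestB _ hR hRQ heq)
    intro e he
    refine (hBeq.ge ⟨mem_sup_left (hUm e he), ?_⟩).1
    rw [commutatorElement_def]
    exact B.mul_mem (H.Bn.conj_mem v hvB e) (B.inv_mem hvB)

/-- Equivariance on `Z`. -/
theorem del_commutator {a e : X} (hae : Commute a e) {x : X} (hx : x ∈ Z) :
    del a ⁅e, x⁆ = ⁅e, del a x⁆ := by
  haveI := H.Zn
  have hdx : del a x ∈ Z := del_mem a hx
  have h1 : a * ⁅e, x⁆ * a⁻¹ = ⁅e, del a x⁆ * ⁅e, x⁆ := by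
    rw [conjugate_commutatorElement, show a * e * a⁻¹ = e by rw [hae.eq, mul_inv_cancel_right],
      conj_eq_del_mul, commutatorElement_mul_right_eq_mul_conj, mul_assoc _ (del a x),
      (H.commZ hdx (H.commutator_Z_mem e hx)).eq, ← mul_assoc, mul_inv_cancel_right]
  show a * ⁅e, x⁆ * a⁻¹ * ⁅e, x⁆⁻¹ = _
  rw [h1, mul_inv_cancel_right]

theorem iterate_del_commutator {a e : X} (hae : Commute a e) {x : X} (hx : x ∈ Z) (n : ℕ) :
    (del a)^[n] ⁅e, x⁆ = ⁅e, (del a)^[n] x⁆ := by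
  haveI := H.Zn
  induction n with
  | zero => rfl
  | succ n ih =>
    rw [Function.iterate_succ_apply', Function.iterate_succ_apply', ih,
      H.del_commutator hae (iterate_del_mem a hx n)]

theorem exists_iterate_one {a : X} (ha : a ∈ T) : ∃ M, ∀ x ∈ T, (del a)^[M] x = 1 := by
  haveI := H.Tp.isNilpotent
  obtain ⟨M, hM⟩ := (Subgroup.isNilpotent_iff_lowerCentralSeries T).mp ‹_›
  refine ⟨M, fun x hx => ?_⟩
  have key : ∀ n, (del a)^[n] x ∈ T.lowerCentralSeries n := by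
    intro n
    induction n with
    | zero => simpa using hx
    | succ n ih =>
      rw [Function.iterate_succ_apply']
      exact del_mem_commutator ih ha
  have := key M
  rwa [hM, mem_bot] at this

/-- Three steps on every chief factor inside `Z`. -/
theorem degree_Z {a : X} (ha : a ∈ A) {V₁ : Subgroup X} (hV₁ : V₁.Normal)
    {v : X} (hv : v ∈ Z) (hQV : ∀ e ∈ Q, ⁅e, v⁆ ∈ V₁) : (del a)^[3] v ∈ V₁ := by
  haveI := H.Zn
  haveI := hV₁
  have hdel : ∀ x, del a x = ⁅a, x⁆ := fun x => by simp [del, commutatorElement_def]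
  have hP2 : ∀ w, (∀ f ∈ A, ⁅f, w⁆ ∈ A) → del a w ∈ A ∧ del a (del a w) = 1 := fun w hw => by
    have h := hw a ha
    rw [← hdel] at h
    exact ⟨h, del_one_of_commute (H.commA ha h)⟩
  by_cases h1 : ∀ f ∈ A, ⁅f, del a v⁆ ∈ A
  · show del a (del a (del a v)) ∈ V₁
    rw [(hP2 _ h1).2]
    exact one_mem _
  obtain ⟨U, hU, hUm, -, hUinv, -, hsurj⟩ := exists_orbit_good (A := A)
    (fun e _ x hx => H.Zn.conj_mem x hx e) (fun x hx y hy => H.commZ hx hy) H.maxA.2.1.1 hv
  have hu : del a (del a v) ∈ U := by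
    have h := hUm a ha
    rw [← hdel] at h
    show a * del a v * a⁻¹ * (del a v)⁻¹ ∈ U
    exact mul_mem (hUinv a ha _ h) (inv_mem h)
  obtain ⟨e, he, hef⟩ := hsurj (card_le_of_good (fun x hx y hy => H.commZ hx hy) H.ZT H.maxA
    hU.1 hU.2.1 le_rfl) _ hu
  set f := ⁅e, v⁆⁻¹ * del a (del a v)
  have hfc : Commute a f := H.commA ha hef.2
  have hev : ⁅e, v⁆ ∈ Z := H.commutator_Z_mem e hv
  have h2 : del a (del a v) = ⁅e, v⁆ * f := by rw [mul_inv_cancel_left]
  have hdf : ∀ y : X, del a (y * f) = del a y := fun y => by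
    show a * (y * f) * a⁻¹ * (y * f)⁻¹ = a * y * a⁻¹ * y⁻¹
    rw [show a * (y * f) * a⁻¹ = a * y * a⁻¹ * (a * f * a⁻¹) by group, hfc.eq,
      mul_inv_cancel_right, mul_inv_rev, mul_assoc (a * y * a⁻¹), mul_inv_cancel_left]
  by_cases heQ : e ∈ Q
  · show del a (del a (del a v)) ∈ V₁
    rw [h2, hdf]
    exact del_mem a (hQV e heQ)
  exfalso
  obtain ⟨M, hM⟩ := H.exists_iterate_one (H.maxA.1 ha)
  classical
  have hex : ∃ m, 1 ≤ m ∧ ∀ f ∈ A, ⁅f, (del a)^[m] v⁆ ∈ A := ⟨M + 1, by omega, fun f _ => by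
    rw [iterate_del_of_le (hM v (H.ZT hv)) (by omega), commutatorElement_one_right]
    exact one_mem _⟩
  obtain ⟨hm1, hPm⟩ := Nat.find_spec hex
  set m := Nat.find hex
  have hm2 : 2 ≤ m := by
    rcases Nat.lt_or_ge m 2 with h | h
    · exfalso
      rw [show m = 1 by omega] at hPm
      exact h1 hPm
    · exact h
  have hnot := Nat.find_min hex (show m - 1 < m by omega)
  refine hnot ⟨by omega, H.property (iterate_del_mem a hv _) he heQ ?_⟩
  rw [← H.iterate_del_commutator (H.commA ha he) hv (m - 1)]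
  have h3 : (del a)^[m - 1] ⁅e, v⁆ = (del a)^[m - 1] (del a (del a v)) := by
    rw [show m - 1 = (m - 2) + 1 by omega, Function.iterate_add_apply,
      Function.iterate_add_apply (m := m - 2)]
    congr 1
    show del a ⁅e, v⁆ = del a (del a (del a v))
    rw [h2, hdf]
  rw [h3, ← Function.iterate_succ_apply, ← Function.iterate_succ_apply,
    show (m - 1).succ.succ = m + 1 by omega, Function.iterate_succ_apply']
  exact (hP2 _ hPm).1

theorem mul_left {x y e : X} (hx : x ∈ B) (hy : y ∈ B) (he : e ∈ Q) :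
    ⁅x * y, e⁆ = ⁅y, e⁆ * ⁅x, e⁆ := by
  rw [commutatorElement_mul_left_eq_conj_mul, (H.commBZ hx (H.commQ hy he)).eq,
    mul_inv_cancel_right]

theorem del_comm {a b e : X} (hb : b ∈ B) (he : e ∈ Q) (hae : Commute a e) :
    del a ⁅b, e⁆ = ⁅del a b, e⁆ := by
  haveI := H.Bn
  have hdb : del a b ∈ B := del_mem a hb
  have h1 : a * ⁅b, e⁆ * a⁻¹ = ⁅del a b * b, e⁆ := by
    rw [conjugate_commutatorElement, ← conj_eq_del_mul,
      show a * e * a⁻¹ = e by rw [hae.eq, mul_inv_cancel_right]]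
  rw [H.mul_left hdb hb he] at h1
  show a * ⁅b, e⁆ * a⁻¹ * ⁅b, e⁆⁻¹ = _
  rw [h1, (H.commZ (H.commQ hb he) (H.commQ hdb he)).eq, mul_inv_cancel_right]

theorem iterate_comm {a b e : X} (hb : b ∈ B) (he : e ∈ Q) (hae : Commute a e) (n : ℕ) :
    (del a)^[n] ⁅b, e⁆ = ⁅(del a)^[n] b, e⁆ := by
  haveI := H.Bn
  induction n with
  | zero => rfl
  | succ n ih =>
    rw [Function.iterate_succ_apply', Function.iterate_succ_apply', ih,
      H.del_comm (iterate_del_mem a hb n) he hae]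

/-- Four steps into `Z` when `[Z, A]` completes a subgroup of `A ∩ Q`. -/
theorem degree_offender {a : X} (ha : a ∈ A) {U₀ C : Subgroup X} (hU₀ : U₀ ≤ Z)
    (hdel : ∀ v ∈ Z, ∀ e ∈ A, ⁅e, v⁆ ∈ U₀) (hC : C ≤ A ⊓ Q)
    (hUC : ∀ u ∈ U₀, ∀ c ∈ C, Commute u c) (hR : Transfer.IsMaxAbIn 0 T (U₀ ⊔ C))
    {b : X} (hb : b ∈ B) : (del a)^[4] b ∈ Z := by
  haveI := H.Bn
  haveI := H.Zn
  have hdel' : ∀ v ∈ Z, del a v ∈ U₀ := fun v hv => by
    have h := hdel v hv a ha
    simpa [del, commutatorElement_def] using h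
  have hkey : ∀ c ∈ C, ⁅(del a)^[3] b, c⁆ = 1 := by
    intro c hc
    have hcQ : c ∈ Q := (hC hc).2
    have hac := H.A0_commute ha (hC hc)
    rw [← H.iterate_comm hb hcQ hac]
    have hxV := H.commQ hb hcQ
    set x := ⁅b, c⁆
    have hnx : del a x ∈ centralizer ((A ⊓ Q : Subgroup X) : Set X) := by
      refine mem_centralizer_iff.mpr fun e he => ?_
      have hce : Commute e c := H.commA he.1 (hC hc).1
      have hd : ⁅e, b⁆ ∈ Z := by
        rw [← commutatorElement_inv]; exact inv_mem (H.commQ hb he.2)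
      have h1 : e * x * e⁻¹ = x * ⁅⁅e, b⁆, c⁆ := by
        rw [conjugate_commutatorElement, show e * c * e⁻¹ = c by rw [hce.eq, mul_inv_cancel_right],
          show e * b * e⁻¹ = ⁅e, b⁆ * b by simp [commutatorElement_def],
          H.mul_left (H.ZB hd) hb hcQ]
      have h2 : del a ⁅⁅e, b⁆, c⁆ = 1 := by
        rw [H.del_comm (H.ZB hd) hcQ hac, commutatorElement_eq_one_iff_commute]
        exact hUC _ (hdel' _ hd) c hc
      have hae := H.A0_commute ha he
      have h3 : e * del a x * e⁻¹ = del a (e * x * e⁻¹) := by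
        show e * (a * x * a⁻¹ * x⁻¹) * e⁻¹ = a * (e * x * e⁻¹) * a⁻¹ * (e * x * e⁻¹)⁻¹
        calc _ = (e * a) * x * (a⁻¹ * e⁻¹) * (e * x * e⁻¹)⁻¹ := by group
          _ = (a * e) * x * (e⁻¹ * a⁻¹) * (e * x * e⁻¹)⁻¹ := by
            rw [hae.eq, show a⁻¹ * e⁻¹ = e⁻¹ * a⁻¹ by rw [← mul_inv_rev, ← mul_inv_rev, hae.eq]]
          _ = _ := by group
      rw [h1] at h3
      have h4 : del a (x * ⁅⁅e, b⁆, c⁆) = del a x := by
        have := commute_of_del h2
        show a * (x * _) * a⁻¹ * (x * _)⁻¹ = a * x * a⁻¹ * x⁻¹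
        rw [show a * (x * ⁅⁅e, b⁆, c⁆) * a⁻¹ = a * x * a⁻¹ * (a * ⁅⁅e, b⁆, c⁆ * a⁻¹) by group,
          this.eq, mul_inv_cancel_right, mul_inv_rev, mul_assoc (a * x * a⁻¹), mul_inv_cancel_left]
      rw [h4] at h3
      exact mul_inv_eq_iff_eq_mul.mp h3
    have hnxZ : del a x ∈ Z := del_mem a hxV
    have h := H.orbit (H.ZB hnxZ) hnx (fun e _ f _ =>
      H.commZ (H.Zn.conj_mem _ hnxZ e) (H.Zn.conj_mem _ hnxZ f)) a ha
    show del a (del a (del a x)) = 1
    refine del_one_of_commute (H.commA ha ?_)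
    simpa [del, commutatorElement_def] using h
  set w := (del a)^[3] b with hw
  have hwB : w ∈ B := iterate_del_mem a hb _
  have hwR : w ∈ U₀ ⊔ C := by
    refine Transfer.mem_of_commute_maxAb hR (H.QT (H.BQ hwB)) (pow_zero _) fun r hr => ?_
    have : U₀ ⊔ C ≤ centralizer {w} := sup_le
      (fun u hu => mem_centralizer_singleton_iff.mpr (H.commBZ hwB (hU₀ hu)).symm.eq)
      (fun c hc => mem_centralizer_singleton_iff.mpr
        (commutatorElement_eq_one_iff_commute.mp (hkey c hc)).symm.eq)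
    exact mem_centralizer_singleton_iff.mp (this hr)
  have hN : C ≤ normalizer (U₀ : Set X) := fun c hc => mem_normalizer_of_conj fun u hu => by
    rwa [(hUC u hu c hc).symm.eq, mul_inv_cancel_right]
  rw [Function.iterate_succ_apply', ← hw]
  rw [← SetLike.mem_coe, coe_mul_of_right_le_normalizer_left _ _ hN] at hwR
  obtain ⟨v, hv, c, hc, hvc⟩ := hwR
  rw [← hvc]
  have hac := H.A0_commute ha (hC hc)
  have : del a (v * c) = del a v := by
    show a * (v * c) * a⁻¹ * (v * c)⁻¹ = a * v * a⁻¹ * v⁻¹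
    rw [show a * (v * c) * a⁻¹ = a * v * a⁻¹ * (a * c * a⁻¹) by group, hac.eq,
      mul_inv_cancel_right, mul_inv_rev, mul_assoc (a * v * a⁻¹), mul_inv_cancel_left]
  show del a (v * c) ∈ Z
  rw [this]
  exact del_mem a (hU₀ hv)

theorem two_steps {a : X} (ha : a ∈ A) (hI : ∀ v ∈ Z, del a v ∈ A) {b : X} (hb : b ∈ B) {s : ℕ}
    (hs : 2 ≤ s) : (del a)^[s] b ∈ centralizer ((A ⊓ Q : Subgroup X) : Set X) := by
  haveI := H.Bn
  refine mem_centralizer_iff.mpr fun e he => ?_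
  have h := H.iterate_comm hb he.2 (H.A0_commute ha he) s
  rw [iterate_del_of_le (m := 2)
    (show (del a)^[2] ⁅b, e⁆ = 1 from del_one_of_commute (H.commA ha (hI _ (H.commQ hb he.2)))) hs]
    at h
  exact (commutatorElement_eq_one_iff_commute.mp h.symm).symm.eq

/-- The additive values `⁅n^i b, n^j c⁆`. -/
theorem exists_values {a b c : X} (hb : b ∈ B) (hc : c ∈ B) :
    ∃ (M : Type u) (_ : AddCommGroup M) (N : M →+ M) (f : ℕ → ℕ → M) (v : M → X),
      (∀ i j, v (f i j) = ⁅(del a)^[i] b, (del a)^[j] c⁆) ∧ v 0 = 1 ∧ Function.Injective v ∧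
      (∀ y, v y ∈ Z) ∧ (∀ y, v (N y) = del a (v y)) ∧ (∀ (n : ℕ) y, v (n • y) = v y ^ n) ∧
      ∀ i j, N (f i j) = f (i + 1) j + f i (j + 1) + f (i + 1) (j + 1) := by
  haveI := H.Bn
  haveI := H.Zn
  haveI hVc : IsMulCommutative Z := ⟨⟨fun x y => Subtype.ext (H.commZ x.2 y.2).eq⟩⟩
  open scoped IsMulCommutative in
  letI : CommGroup Z := inferInstance
  let d : ↥Z →* ↥Z :=
    { toFun := fun y => ⟨del a y, del_mem a y.2⟩
      map_one' := Subtype.ext (by simp [del])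
      map_mul' := fun y z => Subtype.ext (iterate_del_mul a y.2 z.2 1) }
  have hBB : ∀ {x y : X}, x ∈ B → y ∈ B → ⁅x, y⁆ ∈ Z := fun hx hy => H.commQ hx (H.BQ hy)
  let f : ℕ → ℕ → Additive ↥Z := fun i j => Additive.ofMul
    ⟨⁅(del a)^[i] b, (del a)^[j] c⁆, hBB (iterate_del_mem a hb i) (iterate_del_mem a hc j)⟩
  refine ⟨Additive ↥Z, inferInstance, MonoidHom.toAdditive d, f,
    fun y => ((Additive.toMul y : ↥Z) : X), fun i j => rfl, rfl,
    fun y z h => Additive.toMul.injective (Subtype.ext h), fun y => (Additive.toMul y).2,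
    fun y => rfl, fun n y => rfl, fun i j => ?_⟩
  refine Additive.toMul.injective (Subtype.ext ?_)
  show del a ⁅(del a)^[i] b, (del a)^[j] c⁆ = ⁅(del a)^[i + 1] b, (del a)^[j] c⁆ *
    ⁅(del a)^[i] b, (del a)^[j + 1] c⁆ * ⁅(del a)^[i + 1] b, (del a)^[j + 1] c⁆
  rw [Function.iterate_succ_apply', Function.iterate_succ_apply']
  set x := (del a)^[i] b
  set y := (del a)^[j] c
  have hx : x ∈ B := iterate_del_mem a hb i
  have hy : y ∈ B := iterate_del_mem a hc j
  have hx' : del a x ∈ B := del_mem a hx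
  have hy' : del a y ∈ B := del_mem a hy
  have hr : ∀ u ∈ B, ⁅u, del a y * y⁆ = ⁅u, del a y⁆ * ⁅u, y⁆ := fun u hu => by
    rw [commutatorElement_mul_right_eq_mul_conj, mul_assoc _ (del a y),
      (H.commBZ hy' (hBB hu hy)).eq, ← mul_assoc, mul_inv_cancel_right]
  show a * ⁅x, y⁆ * a⁻¹ * ⁅x, y⁆⁻¹ = _
  rw [conjugate_commutatorElement, conj_eq_del_mul, conj_eq_del_mul,
    H.mul_left hx' hx (H.BQ (mul_mem hy' hy)), hr x hx, hr _ hx']
  exact congrArg Subtype.val (rearrange (⟨_, hBB hx' hy⟩ : ↥Z) ⟨_, hBB hx hy'⟩ ⟨_, hBB hx' hy'⟩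
    ⟨_, hBB hx hy⟩)

/-- Isotropy above the antidiagonal. -/
theorem isotropy {a : X} (ha : a ∈ A) (hI : ∀ v ∈ Z, del a v ∈ A) {M : ℕ}
    (hM : ∀ b ∈ B, (del a)^[M] b ∈ A ⊓ Q) :
    ∀ r i t, ∀ b ∈ B, ∀ c ∈ B, M + 1 ≤ t + r → M + 2 ≤ i + t →
      ⁅(del a)^[i] b, (del a)^[t] c⁆ = 1 := by
  have htop : ∀ t, M + 1 ≤ t → ∀ c ∈ B, (del a)^[t] c = 1 := fun t ht c hc =>
    iterate_del_of_le (m := M + 1) (by
      rw [Function.iterate_succ_apply']
      exact del_one_of_commute (H.A0_commute ha (hM c hc))) ht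
  intro r
  induction r with
  | zero =>
    intro i t b hb c hc ht _
    rw [htop t (by omega) c hc, commutatorElement_one_right]
  | succ r ih =>
    intro i t b hb c hc ht hit
    by_cases hbig : M + 1 ≤ t + r
    · exact ih i t b hb c hc hbig hit
    by_cases htM : M ≤ t
    · rcases eq_or_lt_of_le htM with rfl | hlt
      · rw [commutatorElement_eq_one_iff_commute]
        exact (mem_centralizer_iff.mp (H.two_steps ha hI hb (s := i) (by omega)) _ (hM c hc)).symm
      · rw [htop t (by omega) c hc, commutatorElement_one_right]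
    obtain ⟨M', _, N, f, v, hv, hv0, hinj, hvZ, hvN, -, hN⟩ := H.exists_values (a := a) hb hc
    obtain ⟨i', rfl⟩ : ∃ i', i = i' + 2 := ⟨i - 2, by omega⟩
    have hz : ∀ s u, t + 1 ≤ u → M + 2 ≤ s + u → f s u = 0 := fun s u hu hsu => hinj (by
      rw [hv, hv0]; exact ih s u b hb c hc (by omega) hsu)
    have h : N (N (f i' t)) = 0 := hinj (by
      rw [hvN, hvN, hv0]
      exact del_one_of_commute (H.commA ha (hI _ (hvZ _))))
    rw [hN, map_add, map_add, hN, hN, hN] at h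
    simp only [show i' + 1 + 1 = i' + 2 from rfl, show t + 1 + 1 = t + 2 from rfl,
      hz (i' + 2) (t + 1) le_rfl (by omega), hz (i' + 1) (t + 1) le_rfl (by omega),
      hz i' (t + 2) (by omega) (by omega), hz (i' + 1) (t + 2) (by omega) (by omega),
      hz (i' + 2) (t + 2) (by omega) (by omega), add_zero] at h
    rw [← hv, h, hv0]

/-- The middle of the antidiagonal when `M = 5`. -/
theorem isotropy_five {a : X} (ha : a ∈ A) (hI : ∀ v ∈ Z, del a v ∈ A) (hp7 : 7 ≤ p)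
    (hM : ∀ b ∈ B, (del a)^[5] b ∈ A ⊓ Q) {b c : X} (hb : b ∈ B) (hc : c ∈ B) :
    ⁅(del a)^[3] b, (del a)^[3] c⁆ = 1 := by
  obtain ⟨M', _, N, f, v, hv, hv0, hinj, hvZ, hvN, hvn, hN⟩ := H.exists_values (a := a) hb hc
  have h7 : ∀ s u, 7 ≤ s + u → f s u = 0 := fun s u hsu => hinj (by
    rw [hv, hv0]; exact H.isotropy ha hI hM 6 s u b hb c hc (by omega) (by omega))
  have hb6 : ∀ x ∈ B, (del a)^[6] x = 1 := fun x hx => by
    rw [Function.iterate_succ_apply']
    exact del_one_of_commute (H.A0_commute ha (hM x hx))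
  have g0 : f 0 6 = 0 := hinj (by rw [hv, hv0, hb6 c hc, commutatorElement_one_right])
  have g6 : f 6 0 = 0 := hinj (by rw [hv, hv0, hb6 b hb, commutatorElement_one_left])
  have hrel : ∀ i j, i + j = 4 → f (i + 2) j + f (i + 1) (j + 1) + (f (i + 1) (j + 1) +
      f i (j + 2)) = 0 := by
    intro i j hij
    have h : N (N (f i j)) = 0 := hinj (by
      rw [hvN, hvN, hv0]
      exact del_one_of_commute (H.commA ha (hI _ (hvZ _))))
    rw [hN, map_add, map_add, hN, hN, hN] at h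
    simp only [show i + 1 + 1 = i + 2 from rfl, show j + 1 + 1 = j + 2 from rfl,
      h7 (i + 2) (j + 1) (by omega), h7 (i + 1) (j + 2) (by omega),
      h7 (i + 2) (j + 2) (by omega), add_zero] at h
    exact h
  have r40 := hrel 4 0 rfl
  have r31 := hrel 3 1 rfl
  have r22 := hrel 2 2 rfl
  have r13 := hrel 1 3 rfl
  have r04 := hrel 0 4 rfl
  simp only [Nat.reduceAdd] at r40 r31 r22 r13 r04
  rw [g6, zero_add] at r40
  rw [g0, add_zero] at r04
  have hg4 : f 4 2 = -(f 5 1 + f 5 1) := by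
    rw [eq_neg_iff_add_eq_zero, ← r40]; abel
  have hg3 : f 3 3 = f 5 1 + f 5 1 + f 5 1 := by
    rw [hg4] at r31
    rw [← sub_eq_zero, ← r31]; abel
  have hg2 : f 2 4 = -(f 5 1 + f 5 1 + f 5 1 + f 5 1) := by
    rw [hg4, hg3] at r22
    rw [← sub_eq_zero, ← r22]; abel
  have hg1 : f 1 5 = f 5 1 + f 5 1 + f 5 1 + f 5 1 + f 5 1 := by
    rw [hg3, hg2] at r13
    rw [← sub_eq_zero, ← r13]; abel
  have h6 : 6 • f 5 1 = 0 := by
    rw [hg2, hg1] at r04
    rw [← r04]; abel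
  have h51 : f 5 1 = 0 := by
    refine hinj ?_
    have h := congrArg v h6
    rw [hvn, hv0] at h
    obtain ⟨k, hk⟩ := H.Tp ⟨_, H.ZT (hvZ (f 5 1))⟩
    rw [hv0]
    refine LocalEvenA.eq_one_of_pPow_of_coprime (p := p) (k := k) (congrArg Subtype.val hk) ?_
    refine Nat.Coprime.coprime_dvd_left (orderOf_dvd_of_pow_eq_one h) ?_
    refine (hp.out.coprime_iff_not_dvd.mpr fun hd => ?_).symm
    have := Nat.le_of_dvd (by norm_num) hd
    omega
  rw [← hv, hg3, h51, add_zero, add_zero, hv0]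

/-- Five steps when `[Z, A] ≤ A`. -/
theorem degree_five {a : X} (ha : a ∈ A) (hI : ∀ v ∈ Z, del a v ∈ A) (hp7 : 7 ≤ p) {b : X}
    (hb : b ∈ B) : (del a)^[5] b = 1 := by
  haveI := H.Bn
  obtain ⟨M₀, hM₀⟩ := H.exists_iterate_one (H.maxA.1 ha)
  have key : ∀ M, (∀ b ∈ B, (del a)^[M] b ∈ A ⊓ Q) → ∀ b ∈ B, (del a)^[4] b ∈ A ⊓ Q := by
    intro M
    induction M using Nat.strong_induction_on with
    | _ M ih =>
      intro hM
      rcases Nat.lt_or_ge 4 M with hlt | hge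
      · set j := if M = 5 then 3 else (M + 3) / 2 with hj
        have hj2 : 2 ≤ j ∧ j + 1 < M := by rw [hj]; split <;> omega
        refine ih (j + 1) hj2.2 fun b hb => ?_
        rw [Function.iterate_succ_apply']
        set w := (del a)^[j] b
        have hwB : w ∈ B := iterate_del_mem a hb j
        have horb : ∀ e ∈ A, ∀ f ∈ A, Commute (e * w * e⁻¹) (f * w * f⁻¹) := by
          intro e he f hf
          have hc : ∀ g ∈ A, g * w * g⁻¹ = (del a)^[j] (g * b * g⁻¹) := fun g hg => by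
            conv_rhs => rw [show a = g * a * g⁻¹ by
              rw [(H.commA hg ha).eq, mul_inv_cancel_right]]
            rw [iterate_del_conj]
          rw [hc e he, hc f hf, ← commutatorElement_eq_one_iff_commute]
          have hbe := H.Bn.conj_mem b hb e
          have hbf := H.Bn.conj_mem b hb f
          by_cases h5 : M = 5
          · subst h5
            rw [hj, if_pos rfl]
            exact H.isotropy_five ha hI hp7 hM hbe hbf
          · exact H.isotropy ha hI hM (M + 1) j j _ hbe _ hbf (by omega)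
              (by rw [hj, if_neg h5]; omega)
        have h := H.orbit hwB (H.two_steps ha hI hb hj2.1) horb a ha
        refine ⟨by simpa [del, commutatorElement_def] using h, H.BQ (del_mem a hwB)⟩
      · intro b hb
        rcases Nat.eq_zero_or_pos (4 - M) with h0 | h0
        · rw [show 4 = M by omega]; exact hM b hb
        · rw [show 4 = (4 - M) + M by omega, Function.iterate_add_apply,
            iterate_del_of_le (m := 1) (del_one_of_commute (H.A0_commute ha (hM b hb))) h0]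
          exact one_mem _
  rw [Function.iterate_succ_apply']
  exact del_one_of_commute (H.A0_commute ha
    (key M₀ (fun b hb => by rw [hM₀ b (H.QT (H.BQ hb))]; exact one_mem _) b hb))

end Choice

end Cfsg.Agent.ConjFunctor.JDeg
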