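import Cfsg.Agent.Lib.ConjFunctor.KConsequences
import Cfsg.Agent.Lib.ConjFunctor.LocalCases

/-!
# Normal `p`-complements from the normalizer of `K_∞` for odd primes
-/

set_option autoImplicit false
set_option linter.style.haveILetI false
set_option linter.unusedSectionVars false
set_option linter.unusedVariables false

namespace Cfsg.Agent.ConjFunctor

open Subgroup Cfsg
open scoped commutatorElement

universe u

variable {G : Type u} [Group G] [Finite G] {p : ℕ} [hp : Fact p.Prime]

/-- In a constrained group in which `K_∞` of a Sylow subgroup is not normal, an element outside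
`O_p` acts quadratically and nontrivially on a chief factor below `O_p`. -/
theorem exists_quadratic_moved (S : Sylow p G)
    (hn : ¬ (inducedFunctor kInfLower (S : Subgroup G)).Normal)
    (hc : centralizer ((pCore p G : Subgroup G) : Set G) ≤ pCore p G) :
    ∃ g : G, g ∈ (S : Subgroup G) ∧ g ∉ pCore p G ∧ ∃ U V : Subgroup G, IsChiefFactor U V ∧
      U ≤ pCore p G ∧ ⁅⁅U, zpowers g⁆, zpowers g⁆ ≤ V ∧ ¬ ⁅U, zpowers g⁆ ≤ V := by
  haveI := LocalEvenA.pCore_normal' p G
  set T := pCore p G with hT
  have hTp : IsPGroup p T := LocalEvenA.pCore_isPGroup' p G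
  obtain ⟨A₀, hA₀c, hA₀3, hA₀1, hA₀C⟩ := exists_critical hTp
  haveI := hA₀c
  set A := A₀.map T.subtype with hA
  haveI hAn : A.Normal := inferInstance
  have hAT : A ≤ T := map_subtype_le _
  have hA3 : ⁅T, A⁆ ≤ A ⊓ centralizer (A : Set G) := by
    rw [(map_centralizer_inter T.subtype T.subtype_injective A₀).symm]
    refine le_trans (le_of_eq ?_) (map_mono hA₀3)
    rw [map_commutator, ← MonoidHom.range_eq_map, range_subtype]
  have hA2 : ⁅A, A⁆ ≤ centralizer (A : Set G) :=
    (commutator_mono hAT le_rfl).trans (hA3.trans inf_le_right)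
  obtain ⟨g, hgS, hgT, -, -, hgC⟩ := exists_witness (S := S) (A := A)
    ⟨hAT, hAn, hA2, hA3, fun φ hφ hfix => eq_one_of_fix_critical hTp inferInstance hA₀C φ hφ
      fun a ha => hfix a (mem_map_of_mem _ ha)⟩ (Or.inl hn)
  obtain ⟨U, V, hUV, hUA, hq, hmove⟩ := hgC hc
  exact ⟨g, hgS, hgT, U, V, hUV, hUA.trans hAT, hq, hmove⟩

theorem kInfLower_characteristic {S : Type u} [Group S] [Finite S] (hS : IsPGroup p S) :
    (kInfLower S).Characteristic :=
  characteristic_iff_map_eq.mpr fun φ => (isCharPFunctor_kInf p).1.2 S S hS φ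

/-- A group in which the elements of order prime to `p` centralize the normal subgroup `K`, where
`K` contains its centralizer in a Sylow subgroup, has a normal `p`-complement. -/
theorem hasNormalPComplement_of_centralized (P : Sylow p G) (K : Subgroup G) [K.Normal]
    (hKC : (P : Subgroup G) ⊓ centralizer (K : Set G) ≤ K)
    (h : ∀ g : G, (orderOf g).Coprime p → g ∈ centralizer (K : Set G)) :
    HasNormalPComplement p G := by
  set C := centralizer (K : Set G) with hC
  obtain ⟨Q, hQ⟩ := Transfer.exists_sylow_eq_subgroupOf P C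
  have hQK : ∀ x : ↥C, x ∈ (Q : Subgroup ↥C) → (x : G) ∈ K := fun x hx => by
    rw [hQ] at hx
    exact hKC ⟨mem_subgroupOf.mp hx, x.2⟩
  have hc : HasNormalPComplement p ↥C :=
    Transfer.hasNormalPComplement_of_normalizer_le Q fun n _ => mem_centralizer_iff.mpr fun x hx =>
      Subtype.ext (mem_centralizer_iff.mp n.2 (x : G) (hQK x hx))
  have hres : pResidual p G ≤ C := (closure_le _).mpr fun g hg => h g hg
  have hc' : HasNormalPComplement p ↥(pResidual p G) :=
    Transfer.hasNormalPComplement_of_injective (inclusion hres) (inclusion_injective hres) hc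
  rw [Transfer.hasNormalPComplement_iff] at hc' ⊢
  rwa [Transfer.pResidual_pResidual, card_top] at hc'

/-- For odd `p` the normalizer of `K_∞` of a Sylow subgroup decides normal `p`-complements. -/
theorem hasNormalPComplement_iff_kInf (hodd : p ≠ 2) (P : Sylow p G) :
    HasNormalPComplement p G ↔
      ∀ g ∈ normalizer ((inducedFunctor kInfLower (P : Subgroup G) : Subgroup G) : Set G),
        (orderOf g).Coprime p →
          g ∈ centralizer ((inducedFunctor kInfLower (P : Subgroup G) : Subgroup G) : Set G) := by
  set K := inducedFunctor kInfLower (P : Subgroup G) with hK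
  constructor
  · intro h g hg ho
    exact Transfer.centralizes_of_hasNormalPComplement h K (P.2.to_le (inducedFunctor_le _)) g hg ho
  intro h
  have hW := (isCharPFunctor_kInf.{u} p).1
  refine complement_of_local hW ?_ P ?_
  · intro L R hR hc hnil T hT
    by_contra hn
    obtain ⟨g, hgT, hg, U, V, hUV, hUQ, hq, hmove⟩ := exists_quadratic_moved T hn hc
    haveI := hUV.2.1
    haveI := hUV.2.2.1
    refine false_of_moved_factor T hnil hT hgT hg hUV hUQ (iterCommutator_antitone (m := 2) ?_ ?_) hmove
    · have := hp.out.two_le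
      show 2 ≤ p - 1
      omega
    · exact hq
  set N := normalizer (K : Set G) with hN
  have hPN : (P : Subgroup G) ≤ N :=
    self_le_normalizer_functor (isConjugacyFunctor_induced hW) P.2
  let PN : Sylow p ↥N := (P.2.comap_subtype (K := N)).toSylow (by
    intro hd
    exact P.not_dvd_index (hd.trans (relIndex_dvd_index_of_le hPN)))
  refine hasNormalPComplement_of_centralized PN (K.subgroupOf N) (fun x hx => ?_) (fun g hg => ?_)
  · obtain ⟨hxP, hxC⟩ := mem_inf.mp hx
    have hxP' : (x : G) ∈ (P : Subgroup G) := hxP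
    refine mem_subgroupOf.mpr ⟨⟨(x : G), hxP'⟩, ?_, rfl⟩
    refine (centralizer_kInf_le P.2).1 (mem_centralizer_iff.mpr fun y hy => Subtype.ext ?_)
    have hyK : (y : G) ∈ K := mem_map_of_mem _ hy
    have h1 := congrArg Subtype.val (mem_centralizer_iff.mp hxC ⟨(y : G), le_normalizer hyK⟩
      (mem_subgroupOf.mpr hyK))
    exact h1
  · refine mem_centralizer_iff.mpr fun y hy => Subtype.ext ?_
    exact mem_centralizer_iff.mp (h (g : G) g.2 (by rwa [orderOf_coe])) (y : G) (mem_subgroupOf.mp hy)

end Cfsg.Agent.ConjFunctor
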