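import Cfsg.Agent.Lib.ConjFunctor.CriticalChief
import Cfsg.Agent.Lib.ConjFunctor.Factor
import Cfsg.Agent.Lib.ConjFunctor.Orbit

/-!
# Consequences of Glauberman's theorem on the K-infinity subgroups
-/

set_option autoImplicit false
set_option linter.style.haveILetI false
set_option linter.unusedSectionVars false
set_option linter.unusedVariables false

namespace Cfsg.Agent.ConjFunctor

open Subgroup Cfsg
open scoped commutatorElement

universe u

/-- `p`-stability in the normalizer form passes along injective homomorphisms. -/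
theorem isNormalizerPStable_of_injective {G H : Type*} [Group G] [Group H] [Finite G] [Finite H]
    {p : ℕ} [Fact p.Prime] (e : H →* G) (he : Function.Injective e)
    (hst : IsNormalizerPStable p G) : IsNormalizerPStable p H := by
  intro P hP g hg hcom
  have hnorm : ∀ h ∈ normalizer (P : Set H), e h ∈ normalizer ((P.map e : Subgroup G) : Set G) :=
    fun h hh => le_normalizer_map e (mem_map_of_mem e hh)
  have hcom' : ⁅⁅P.map e, zpowers (e g)⁆, zpowers (e g)⁆ = ⊥ := by
    rw [← MonoidHom.map_zpowers, ← map_commutator, ← map_commutator, hcom, Subgroup.map_bot]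
  have hG := hst (P.map e) (hP.map e) (e g) (hnorm g hg) hcom'
  set NH := normalizer (P : Set H)
  set NG := normalizer ((P.map e : Subgroup G) : Set G)
  set CH := (centralizer (P : Set H)).subgroupOf NH
  set CG := (centralizer ((P.map e : Subgroup G) : Set G)).subgroupOf NG
  let ι : NH →* NG := (e.comp NH.subtype).codRestrict NG fun h => hnorm h h.2
  have hC : CG.comap ι = CH := by
    ext h
    rw [Subgroup.mem_comap]
    show e (h : H) ∈ centralizer ((P.map e : Subgroup G) : Set G) ↔
      (h : H) ∈ centralizer (P : Set H)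
    rw [mem_centralizer_iff, mem_centralizer_iff]
    constructor
    · intro h1 z hz
      exact he (by rw [map_mul, map_mul]; exact h1 (e z) (mem_map_of_mem e hz))
    · rintro h1 _ ⟨z, hz, rfl⟩
      rw [← map_mul, ← map_mul, h1 z hz]
  let f : NH ⧸ CH →* NG ⧸ CG := QuotientGroup.map CH CG ι hC.ge
  have hinj : Function.Injective f := by
    rw [← MonoidHom.ker_eq_bot_iff, eq_bot_iff]
    intro z hz
    obtain ⟨h, rfl⟩ := QuotientGroup.mk_surjective z
    rw [MonoidHom.mem_ker] at hz
    rw [mem_bot, QuotientGroup.eq_one_iff, ← hC, Subgroup.mem_comap, ← QuotientGroup.eq_one_iff]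
    exact hz
  haveI := LocalEvenA.pCore_normal' p (NG ⧸ CG)
  exact LocalEvenA.le_pCore_of_normal inferInstance
    ((LocalEvenA.pCore_isPGroup' p (NG ⧸ CG)).comap_of_injective f hinj) hG

theorem iterCommutator_antitone {G : Type*} [Group G] {U K : Subgroup G} [U.Normal] {m n : ℕ}
    (h : m ≤ n) {V : Subgroup G} [V.Normal] (hm : iterCommutator U K m ≤ V) :
    iterCommutator U K n ≤ V := by
  induction h with
  | refl => exact hm
  | step _ ih => exact (commutator_mono ih le_rfl).trans (commutator_le_left V K)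

variable {G : Type u} [Group G] [Finite G] {p : ℕ} [hp : Fact p.Prime]
  {W : ∀ (Q : Type u) [Group Q], Subgroup Q}

/-- `Z(P) ≤ W(P)` for a functor with values containing the centre. -/
theorem center_le_induced (hZ : ∀ (Q : Type u) [Group Q] [Finite Q], center Q ≤ W Q)
    (P : Subgroup G) : P ⊓ centralizer ((P : Subgroup G) : Set G) ≤ inducedFunctor W P := by
  intro x hx
  refine ⟨⟨x, hx.1⟩, hZ _ (mem_center_iff.mpr fun y => Subtype.ext ?_), rfl⟩
  exact mem_centralizer_iff.mp hx.2 (y : G) y.2

/-- The defining property of the K-infinity functors used below. -/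
def HasElement (p : ℕ) (W : ∀ (Q : Type u) [Group Q], Subgroup Q) : Prop :=
  ∀ (X : Type u) [Group X] [Finite X] (S : Sylow p X),
    ¬ (inducedFunctor W (S : Subgroup X)).Normal →
    ∃ g : X, g ∈ (S : Subgroup X) ∧ g ∉ pCore p X ∧
      (∀ U V : Subgroup X, IsChiefFactor U V → U ≤ pCore p X →
        iterCommutator U (zpowers g) 4 ≤ V) ∧
      ⁅⁅pCore p X ⊓ centralizer ((pCore p X : Subgroup X) : Set X), zpowers g⁆, zpowers g⁆ = ⊥ ∧
      (centralizer ((pCore p X : Subgroup X) : Set X) ≤ pCore p X →
        ∃ (N : Subgroup X) (_ : N.Normal), ¬ IsNormalizerPStable p (X ⧸ N))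

theorem hasElement_lower : HasElement.{u} p kInfLower :=
  fun _ _ _ S h => exists_element_of_not_normal S (Or.inl h)

theorem hasElement_upper : HasElement.{u} p kInfUpper :=
  fun _ _ _ S h => exists_element_of_not_normal S (Or.inr h)

/-- For `p ≥ 5` the functor controls transfer in every section. -/
theorem controlsTransfer_of_five (hW : IsCharPFunctor.{u} p W) (hE : HasElement.{u} p W)
    (h5 : 5 ≤ p) :
    (∀ (K R : Subgroup G) [hR : (R.subgroupOf K).Normal],
      FamilyControlsTransferIn p (indFam {W} (↥K ⧸ R.subgroupOf K)) ⊤) ∧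
      FamilyControlsTransferIn p (indFam {W} G) ⊤ := by
  have h𝒲 : ∀ W' ∈ ({W} : Set (∀ (Q : Type u) [Group Q], Subgroup Q)),
      IsCharPFunctor.{u} p W' := by rintro _ rfl; exact hW
  refine xfer_of_sections h𝒲 ?_
  intro K R hR hc hsub hquot S
  by_cases hn : (inducedFunctor (G := ↥K ⧸ R.subgroupOf K) W
      (S : Subgroup (↥K ⧸ R.subgroupOf K))).Normal
  · intro x hx
    refine inf_le_xCtl_top (𝒲 := indFam {W} _) (W := inducedFunctor W) ⟨W, rfl, rfl⟩ ?_
    haveI := hn
    rw [normalizer_eq_top]
    exact hx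
  · obtain ⟨g, hgS, hgQ, hg, -, -⟩ := hE _ S hn
    refine xfer_of_element h𝒲 S hsub hquot hc g hgS hgQ fun U V hUV hU => ?_
    haveI := hUV.2.1
    haveI := hUV.2.2.1
    exact iterCommutator_antitone (by omega) (hg U V hUV hU)

theorem transfer_eq_of_five (hW : IsCharPFunctor.{u} p W) (hE : HasElement.{u} p W)
    (h5 : 5 ≤ p) (S : Sylow p G) :
    (S : Subgroup G) ⊓ commutator G = (S : Subgroup G) ⊓
      ⁅normalizer ((inducedFunctor W (S : Subgroup G) : Subgroup G) : Set G),
        normalizer ((inducedFunctor W (S : Subgroup G) : Subgroup G) : Set G)⁆ := by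
  obtain ⟨T, hT, h⟩ := at_of_familyTransfer (controlsTransfer_of_five (G := G) hW hE h5).2
  rw [indFam, Set.image_singleton] at h
  have h1 := h.move (by rintro _ rfl; exact isConjugacyFunctor_induced hW) hT (isSylIn_top S)
  rw [_root_.commutator_def, h1.eq, xCtl_single, top_inf_eq]

/-- With all sections `p`-stable the functor controls strong fusion. -/
theorem controlsFusion_of_stable (hW : IsCharPFunctor.{u} p W) (hE : HasElement.{u} p W)
    (hst : ∀ (K R : Subgroup G) [hR : (R.subgroupOf K).Normal],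
      IsNormalizerPStable p (↥K ⧸ R.subgroupOf K)) (S : Sylow p G) :
    ControlsStrongFusion p (inducedFunctor W (S : Subgroup G)) := by
  have h𝒲 : ∀ W' ∈ ({W} : Set (∀ (Q : Type u) [Group Q], Subgroup Q)),
      IsCharPFunctor.{u} p W' := by rintro _ rfl; exact hW
  have h := fusion_of_sections (G := G) h𝒲
  specialize h ?_
  · intro K R hR hc T
    refine fusionAt_of_normal (W := inducedFunctor W) ⟨W, rfl, rfl⟩ ?_
    by_contra hn
    obtain ⟨g, -, -, -, -, hgC⟩ := hE _ T hn
    obtain ⟨N, hN, hNst⟩ := hgC hc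
    apply hNst
    let q := (QuotientGroup.mk' N).comp (QuotientGroup.mk' (R.subgroupOf K))
    obtain ⟨R', hR', ⟨e⟩⟩ := exists_section_iso K q
      ((QuotientGroup.mk'_surjective N).comp (QuotientGroup.mk'_surjective _))
    exact isNormalizerPStable_of_injective e.symm.toMonoidHom e.symm.injective (hst K R')
  obtain ⟨T₀, hT₀, h₀⟩ := at_of_familyFusion h.2
  have h1 := h₀.move (isConjugacyFunctor_indFam h𝒲) hT₀ (isSylIn_top S)
  rw [indFam, Set.image_singleton] at h1
  refine ⟨S, inducedFunctor_le _, fun A hA => ⟨hA, fun g hg => ?_⟩⟩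
  obtain ⟨c, hc, e⟩ := h1 A g trivial hA hg
  exact ⟨c, hc.mem_single.2, fun a ha => (e a ha).symm⟩

/-- The element of Glauberman's theorem, seen in a subgroup of `G`. -/
theorem exists_element_rel (hW : IsCharPFunctor.{u} p W) (hE : HasElement.{u} p W)
    {H T : Subgroup G} (hT : IsSylIn p T H)
    (hn : ¬ H ≤ normalizer ((inducedFunctor W T : Subgroup G) : Set G)) :
    ∃ g : G, g ∈ T ∧ g ∉ pCoreOf p H ∧
      ⁅⁅pCoreOf p H ⊓ centralizer ((pCoreOf p H : Subgroup G) : Set G), zpowers g⁆,
        zpowers g⁆ = ⊥ := by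
  obtain ⟨S, hS⟩ : ∃ S : Sylow p ↥H, (S : Subgroup ↥H) = T.subgroupOf H :=
    ⟨(hT.2.1.comap_subtype (K := H)).toSylow hT.2.2, rfl⟩
  have hmap : inducedFunctor W T = (inducedFunctor W (S : Subgroup ↥H)).map H.subtype := by
    rw [← inducedFunctor_map hW H.subtype _ S.2 H.subtype_injective.injOn, hS,
      subgroupOf_map_subtype, inf_eq_left.mpr hT.1]
  obtain ⟨g, hgS, hgQ, -, hg, -⟩ := hE ↥H S fun h => hn (by
    rw [hmap]
    refine le_trans (le_of_eq ?_) (le_normalizer_map H.subtype)
    rw [normalizer_eq_top_iff.mpr h, ← MonoidHom.range_eq_map, range_subtype])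
  refine ⟨g, by rw [hS] at hgS; exact hgS,
    fun h => hgQ ((mem_map_iff_mem H.subtype_injective).mp h), ?_⟩
  have e := congrArg (Subgroup.map H.subtype) hg
  rw [map_commutator, map_commutator, MonoidHom.map_zpowers,
    map_centralizer_inter H.subtype H.subtype_injective, Subgroup.map_bot] at e
  exact e

end Cfsg.Agent.ConjFunctor
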