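import Cfsg.Agent.Lib.ConjFunctor.Induced
import Cfsg.Agent.Lib.Transfer.Fusion

/-!
# The K-sequence of a finite p-group
-/

set_option autoImplicit false
set_option linter.style.haveILetI false
set_option linter.unusedSectionVars false
set_option linter.unusedVariables false

namespace Cfsg.Agent.ConjFunctor

open Subgroup Cfsg
open scoped commutatorElement

section basic

variable {P : Type*} [Group P]

theorem kLowerStar_anti {Q R : Subgroup P} (h : Q ≤ R) :
    kLowerStarFamily R ⊆ kLowerStarFamily Q :=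
  fun _ hB => ⟨hB.1, h.trans hB.2.1, fun A hA hAQ => hB.2.2 A hA (hAQ.trans h)⟩

theorem kUpperStar_anti {Q R : Subgroup P} (h : Q ≤ R) :
    kUpperStarFamily R ⊆ kUpperStarFamily Q :=
  fun _ hB => ⟨hB.1, (commutator_mono le_rfl h).trans hB.2⟩

theorem kSeq_step (n : ℕ) : kSeqOdd P (n + 1) ≤ kSeqOdd P n ∧ kSeqEven P n ≤ kSeqEven P (n + 1) := by
  induction n with
  | zero => exact ⟨le_top, sSup_le_sSup (kLowerStar_anti le_top)⟩
  | succ n ih =>
    have h : kSeqOdd P (n + 2) ≤ kSeqOdd P (n + 1) := sSup_le_sSup (kUpperStar_anti ih.2)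
    exact ⟨h, sSup_le_sSup (kLowerStar_anti h)⟩

theorem kSeqEven_mono : Monotone (kSeqEven P) := monotone_nat_of_le_succ fun n => (kSeq_step n).2

theorem kSeqOdd_anti : Antitone (kSeqOdd P) := antitone_nat_of_succ_le fun n => (kSeq_step n).1

theorem kSeq_stable [Finite P] : ∃ n : ℕ, ∀ m : ℕ, n ≤ m →
    kSeqEven P m = kInfLower P ∧ kSeqOdd P m = kInfUpper P := by
  obtain ⟨n, hn⟩ := WellFoundedGT.monotone_chain_condition
    ⟨kSeqEven P, kSeqEven_mono⟩
  have hE : ∀ m, n ≤ m → kSeqEven P m = kInfLower P := by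
    intro m hm
    refine le_antisymm (le_iSup (kSeqEven P) m) (iSup_le fun i => ?_)
    rcases le_total i m with h | h
    · exact kSeqEven_mono h
    · exact ((hn i (hm.trans h)).symm.trans (hn m hm)).le
  refine ⟨n + 1, fun m hm => ⟨hE m (by omega), ?_⟩⟩
  refine le_antisymm (le_iInf fun i => ?_) (iInf_le (kSeqOdd P) m)
  rcases le_total i m with h | h
  · exact kSeqOdd_anti h
  · obtain ⟨i, rfl⟩ : ∃ j, i = j + 1 := ⟨i - 1, by omega⟩
    obtain ⟨m, rfl⟩ : ∃ j, m = j + 1 := ⟨m - 1, by omega⟩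
    show sSup (kUpperStarFamily (kSeqEven P m)) ≤ sSup (kUpperStarFamily (kSeqEven P i))
    rw [hE m (by omega), hE i (by omega)]

theorem mem_classTwo_of_comm (A : Subgroup P) (hA : IsMulCommutative A) :
    A ∈ classTwoSubgroups P :=
  (commutator_le_self A).trans (le_centralizer A)

theorem normal_abelian_mem_upper (A : Subgroup P) [A.Normal] (hA : IsMulCommutative A)
    (Q : Subgroup P) : A ∈ kUpperStarFamily Q :=
  ⟨mem_classTwo_of_comm A hA, le_inf (commutator_le_left A Q)
    ((commutator_le_left A Q).trans (le_centralizer A))⟩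

theorem normal_abelian_mem_lower (A : Subgroup P) [A.Normal] (hA : IsMulCommutative A)
    (Q : Subgroup P) : A ∈ kLowerStarFamily Q :=
  ⟨mem_classTwo_of_comm A hA, by rw [normalizer_eq_top]; exact le_top, fun C _ _ _ _ _ =>
    le_inf (commutator_le_left A C) ((commutator_le_left A C).trans (le_centralizer A))⟩

theorem center_mem_upper (Q : Subgroup P) : center P ∈ kUpperStarFamily Q :=
  normal_abelian_mem_upper _ inferInstance Q

theorem center_mem_lower (Q : Subgroup P) : center P ∈ kLowerStarFamily Q :=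
  normal_abelian_mem_lower _ inferInstance Q

end basic

/-! ### Maximal members -/

section maximal

variable {P : Type*} [Group P] [Finite P] {p : ℕ} [hp : Fact p.Prime]

omit [Finite P] in
theorem le_normalizer_inf' {A B C : Subgroup P} (h₁ : A ≤ normalizer (B : Set P))
    (h₂ : A ≤ normalizer (C : Set P)) : A ≤ normalizer ((B ⊓ C : Subgroup P) : Set P) := by
  intro a ha
  refine mem_normalizer_iff.mpr fun x => ?_
  rw [mem_inf, mem_inf]
  exact and_congr (mem_normalizer_iff.mp (h₁ ha) x) (mem_normalizer_iff.mp (h₂ ha) x)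

/-- An element of `C(B) \ B` moved by `Q` only inside `Z(B)`. -/
theorem exists_central_step (hP : IsPGroup p P) {B Q : Subgroup P}
    (hQB : Q ≤ normalizer (B : Set P)) (hB : ¬ centralizer (B : Set P) ≤ B) :
    ∃ x ∈ centralizer (B : Set P), x ∉ B ∧
      ∀ q ∈ Q, ⁅x, q⁆ ∈ B ⊓ centralizer (B : Set P) := by
  set C := centralizer (B : Set P) with hC
  set Z := B ⊓ C
  have hQC : Q ≤ normalizer (C : Set P) := by
    intro q hq
    refine cj_eq_iff.mp (eq_of_le_of_card_ge ?_ (cj_card q C).ge)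
    rintro _ ⟨z, hz, rfl⟩
    refine mem_centralizer_iff.mpr fun u hu => ?_
    have h1 := mem_centralizer_iff.mp hz _ ((mem_normalizer_iff''.mp (hQB hq) u).mp hu)
    show u * (q * z * q⁻¹) = q * z * q⁻¹ * u
    calc u * (q * z * q⁻¹) = q * (q⁻¹ * u * q * z) * q⁻¹ := by group
      _ = q * (z * (q⁻¹ * u * q)) * q⁻¹ := by rw [h1]
      _ = q * z * q⁻¹ * u := by group
  obtain ⟨D, ⟨hDC, hDZ, hDQ⟩, hmin⟩ := wellFounded_lt.has_min
    {D : Subgroup P | D ≤ C ∧ ¬ D ≤ Z ∧ Q ≤ normalizer (D : Set P)}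
    ⟨C, le_rfl, fun h => hB (h.trans inf_le_left), hQC⟩
  by_cases hstep : ⁅D, Q⁆ ≤ Z
  · obtain ⟨x, hx, hxZ⟩ := SetLike.not_le_iff_exists.mp hDZ
    exact ⟨x, hDC hx, fun h => hxZ ⟨h, hDC hx⟩,
      fun q hq => hstep (commutator_mem_commutator hx hq)⟩
  exfalso
  have hle : ⁅D, Q⁆ ≤ D := le_normalizer_iff_commutator_le_left.mp hDQ
  have heq : ⁅D, Q⁆ = D := by
    by_contra hne
    exact hmin _ ⟨hle.trans hDC, hstep, normalizer_commutator_ge_right _ _⟩ (lt_of_le_of_ne hle hne)
  haveI : Group.IsNilpotent ↥(C ⊔ Q : Subgroup P) := (hP.to_subgroup _).isNilpotent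
  refine hDZ (Transfer.le_of_le_sup_commutator (S := C ⊔ Q) (hDC.trans le_sup_left) ?_
    (heq.ge.trans ((commutator_mono le_rfl le_sup_right).trans le_sup_right)))
  have hCB : C ≤ normalizer (B : Set P) := centralizer_le_normalizer _
  refine sup_le ?_ ?_
  · exact le_normalizer_inf' hCB le_normalizer
  · exact le_normalizer_inf' hQB hQC

omit [Finite P] in
/-- The elements centralizing `Z` whose commutators with `Q` lie in `Z`. -/
def commKer (Z Q : Subgroup P) : Subgroup P where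
  carrier := {a | a ∈ centralizer (Z : Set P) ∧ ∀ q ∈ Q, ⁅a, q⁆ ∈ Z}
  one_mem' := ⟨one_mem _, fun q _ => by rw [commutatorElement_one_left]; exact one_mem _⟩
  mul_mem' := fun {a b} ha hb => ⟨mul_mem ha.1 hb.1, fun q hq => by
    have h1 := mem_centralizer_iff.mp ha.1 _ (hb.2 q hq)
    rw [show ⁅a * b, q⁆ = a * ⁅b, q⁆ * a⁻¹ * ⁅a, q⁆ by
      simp only [commutatorElement_def]; group, ← h1, mul_inv_cancel_right]
    exact mul_mem (hb.2 q hq) (ha.2 q hq)⟩
  inv_mem' := fun {a} ha => ⟨inv_mem ha.1, fun q hq => by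
    have h1 := mem_centralizer_iff.mp ha.1 _ (inv_mem (ha.2 q hq))
    rw [show ⁅a⁻¹, q⁆ = a⁻¹ * ⁅a, q⁆⁻¹ * a by simp only [commutatorElement_def]; group,
      mul_assoc, h1, inv_mul_cancel_left]
    exact inv_mem (ha.2 q hq)⟩

theorem le_commKer {Z Q K : Subgroup P} (hK : K ≤ centralizer (Z : Set P)) (h : ⁅K, Q⁆ ≤ Z) :
    K ≤ commKer Z Q :=
  fun _ hk => ⟨hK hk, fun _ hq => h (commutator_mem_commutator hk hq)⟩

theorem commutator_le_of_le_commKer {Z Q K : Subgroup P} (h : K ≤ commKer Z Q) : ⁅K, Q⁆ ≤ Z :=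
  commutator_le.mpr fun _ hk q hq => (h hk).2 q hq

/-- Adjoining to a member of class at most two an element centralizing it. -/
theorem extend_facts {B : Subgroup P} {x : P} (hB : B ∈ classTwoSubgroups P)
    (hx : x ∈ centralizer (B : Set P)) :
    (B ⊔ zpowers x) ∈ classTwoSubgroups P ∧
      B ⊓ centralizer (B : Set P) ≤
        (B ⊔ zpowers x) ⊓ centralizer ((B ⊔ zpowers x : Subgroup P) : Set P) := by
  set Z := B ⊓ centralizer (B : Set P) with hZ
  have hBZ : B ≤ centralizer (Z : Set P) := le_centralizer_iff.mp inf_le_right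
  have hxZ : zpowers x ≤ centralizer (Z : Set P) :=
    zpowers_le.mpr (centralizer_le (by exact inf_le_left) hx)
  have hZc : Z ≤ centralizer ((B ⊔ zpowers x : Subgroup P) : Set P) :=
    le_centralizer_iff.mpr (sup_le hBZ hxZ)
  have hxc : zpowers x ≤ centralizer ((B ⊔ zpowers x : Subgroup P) : Set P) :=
    le_centralizer_iff.mpr (sup_le (le_centralizer_iff.mp (zpowers_le.mpr hx)) (le_centralizer _))
  refine ⟨?_, le_inf (inf_le_left.trans le_sup_left) hZc⟩
  show ⁅B ⊔ zpowers x, B ⊔ zpowers x⁆ ≤ _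
  have h1 : ⁅zpowers x, B ⊔ zpowers x⁆ = ⊥ := commutator_eq_bot_iff_le_centralizer.mpr hxc
  have h2 : ⁅B, B ⊔ zpowers x⁆ ≤ Z := by
    rw [Subgroup.commutator_comm]
    refine commutator_le_of_le_commKer (sup_le (le_commKer hBZ ?_) (le_commKer hxZ ?_))
    · exact le_inf (commutator_le_self B) hB
    · rw [commutator_eq_bot_iff_le_centralizer.mpr (zpowers_le.mpr hx)]
      exact bot_le
  refine le_trans (commutator_le_of_le_commKer ?_) hZc
  exact sup_le (le_commKer hBZ h2) (le_commKer hxZ (h1.le.trans bot_le))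

theorem centralizer_le_of_max_classTwo (hP : IsPGroup p P) {B : Subgroup P}
    (hB : B ∈ classTwoSubgroups P) (hmax : ∀ C ∈ classTwoSubgroups P, B ≤ C → C = B) :
    centralizer (B : Set P) ≤ B := by
  intro x hx
  rw [← hmax _ (extend_facts hB hx).1 le_sup_left]
  exact mem_sup_right (mem_zpowers x)

theorem centralizer_le_of_max_upper (hP : IsPGroup p P) {B Q : Subgroup P}
    (hB : B ∈ kUpperStarFamily Q) (hmax : ∀ C ∈ kUpperStarFamily Q, B ≤ C → C = B) :
    centralizer (B : Set P) ≤ B := by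
  by_contra hcon
  obtain ⟨x, hx, hxB, hxQ⟩ := exists_central_step hP
    (le_normalizer_iff_commutator_le_left.mpr (hB.2.trans inf_le_left)) hcon
  obtain ⟨hc, hz⟩ := extend_facts hB.1 hx
  refine hxB ?_
  rw [← hmax (B ⊔ zpowers x) ⟨hc, (commutator_le_of_le_commKer (sup_le
    (le_commKer (le_centralizer_iff.mp inf_le_right) hB.2)
    (zpowers_le.mpr ⟨centralizer_le (by exact inf_le_left) hx, hxQ⟩))).trans hz⟩ le_sup_left]
  exact mem_sup_right (mem_zpowers x)

theorem centralizer_le_of_max_lower (hP : IsPGroup p P) {B Q : Subgroup P}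
    (hB : B ∈ kLowerStarFamily Q) (hmax : ∀ C ∈ kLowerStarFamily Q, B ≤ C → C = B) :
    centralizer (B : Set P) ≤ B := by
  by_contra hcon
  obtain ⟨x, hx, hxB, hxQ⟩ := exists_central_step hP hB.2.1 hcon
  obtain ⟨hc, hz⟩ := extend_facts hB.1 hx
  have hxK : ∀ R ≤ Q, zpowers x ≤ commKer (B ⊓ centralizer (B : Set P)) R := fun R hR =>
    zpowers_le.mpr ⟨centralizer_le (by exact inf_le_left) hx, fun q hq => hxQ q (hR hq)⟩
  refine hxB ?_
  rw [← hmax (B ⊔ zpowers x) ⟨hc, ?_, fun A hA hAQ hBA h1 h2 => ?_⟩ le_sup_left]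
  · exact mem_sup_right (mem_zpowers x)
  · refine le_normalizer_iff_commutator_le_left.mpr (commutator_le.mpr fun a ha q hq => ?_)
    rw [commutatorElement_def, mul_assoc, mul_assoc]
    refine mul_mem ha ?_
    rw [← mul_assoc]
    suffices hle : cj q (B ⊔ zpowers x) ≤ B ⊔ zpowers x from hle (conj_mem_cj (inv_mem ha))
    rw [cj, Subgroup.map_sup, MonoidHom.map_zpowers]
    refine sup_le ((cj_eq_iff.mpr (hB.2.1 hq)).le.trans le_sup_left) (zpowers_le.mpr ?_)
    show q * x * q⁻¹ ∈ _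
    rw [show q * x * q⁻¹ = ⁅x, q⁆⁻¹ * x by simp only [commutatorElement_def]; group]
    exact mul_mem (inv_mem (mem_sup_left (hxQ q hq).1)) (mem_sup_right (mem_zpowers x))
  · refine (commutator_le_of_le_commKer (sup_le (le_commKer (le_centralizer_iff.mp inf_le_right)
      (hB.2.2 A hA hAQ (le_sup_left.trans hBA) ?_ ?_)) (hxK A hAQ))).trans hz
    · exact le_bot_iff.mp (h1 ▸ commutator_mono le_sup_left le_rfl)
    · exact le_bot_iff.mp (h2 ▸ commutator_mono (commutator_mono hz le_rfl) le_rfl)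

theorem centralizer_le_sSup {𝒦 : Set (Subgroup P)} (hne : 𝒦.Nonempty)
    (h : ∀ B ∈ 𝒦, (∀ C ∈ 𝒦, B ≤ C → C = B) → centralizer (B : Set P) ≤ B) :
    centralizer ((sSup 𝒦 : Subgroup P) : Set P) ≤ sSup 𝒦 := by
  obtain ⟨B, hB, hmax⟩ := wellFounded_gt.has_min 𝒦 hne
  refine (centralizer_le (SetLike.coe_subset_coe.mpr (le_sSup hB))).trans ((h B hB ?_).trans (le_sSup hB))
  intro C hC hBC
  rcases eq_or_lt_of_le hBC with e | e
  · exact e.symm
  · exact absurd e (hmax C hC)

theorem centralizer_kInf_le (hP : IsPGroup p P) :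
    centralizer (kInfLower P : Set P) ≤ kInfLower P ∧
      centralizer (kInfUpper P : Set P) ≤ kInfUpper P := by
  obtain ⟨n, hn⟩ := kSeq_stable (P := P)
  constructor
  · rw [← (hn n le_rfl).1]
    exact centralizer_le_sSup ⟨_, center_mem_lower _⟩ fun B hB hm =>
      centralizer_le_of_max_lower hP hB hm
  · rw [← (hn (n + 1) (by omega)).2]
    exact centralizer_le_sSup ⟨_, center_mem_upper _⟩ fun B hB hm =>
      centralizer_le_of_max_upper hP hB hm

omit [Finite P] in
theorem center_le_kInf [Finite P] : center P ≤ kInfLower P ∧ center P ≤ kInfUpper P := by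
  refine ⟨(le_sSup (center_mem_lower _)).trans (le_iSup (kSeqEven P) 0), le_iInf fun n => ?_⟩
  cases n with
  | zero => exact le_top
  | succ n => exact le_sSup (center_mem_upper _)

end maximal

/-! ### Injective homomorphisms -/

section hom

variable {Q : Type*} [Group Q] {P : Type*} [Group P]

theorem map_centralizer_inter (f : Q →* P) (hf : Function.Injective f) (B : Subgroup Q) :
    (B ⊓ centralizer (B : Set Q)).map f = B.map f ⊓ centralizer (B.map f : Set P) := by
  ext y
  constructor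
  · rintro ⟨x, hx, rfl⟩
    refine ⟨mem_map_of_mem f hx.1, mem_centralizer_iff.mpr ?_⟩
    rintro _ ⟨b, hb, rfl⟩
    rw [← map_mul, ← map_mul, mem_centralizer_iff.mp hx.2 b hb]
  · rintro ⟨⟨x, hx, rfl⟩, hy⟩
    refine mem_map_of_mem f ⟨hx, mem_centralizer_iff.mpr fun b hb => hf ?_⟩
    rw [map_mul, map_mul]
    exact mem_centralizer_iff.mp hy _ (mem_map_of_mem f hb)

theorem classTwo_iff {T : Type*} [Group T] (C : Subgroup T) :
    C ∈ classTwoSubgroups T ↔ ⁅C, C⁆ ≤ C ⊓ centralizer (C : Set T) :=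
  ⟨fun h => le_inf (commutator_le_self C) h, fun h => h.trans inf_le_right⟩

theorem classTwo_map_iff (f : Q →* P) (hf : Function.Injective f) (B : Subgroup Q) :
    B.map f ∈ classTwoSubgroups P ↔ B ∈ classTwoSubgroups Q := by
  rw [classTwo_iff, classTwo_iff, ← map_commutator, ← map_centralizer_inter f hf, map_le_map_iff_of_injective hf]

theorem normalizer_map_iff (f : Q →* P) (hf : Function.Injective f) (A B : Subgroup Q) :
    A.map f ≤ normalizer (B.map f : Set P) ↔ A ≤ normalizer (B : Set Q) := by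
  rw [le_normalizer_iff_commutator_le_left, le_normalizer_iff_commutator_le_left,
    ← map_commutator, map_le_map_iff_of_injective hf]

theorem exists_map_of_le_range (f : Q →* P) {B : Subgroup P} (h : B ≤ f.range) :
    ∃ B₀ : Subgroup Q, B₀.map f = B :=
  ⟨B.comap f, map_comap_eq_self h⟩

theorem upper_map (f : Q →* P) (hf : Function.Injective f) (R : Subgroup Q) :
    (sSup (kUpperStarFamily R)).map f =
      sSup {B | B ∈ kUpperStarFamily (R.map f) ∧ B ≤ f.range} := by
  have key : ∀ B : Subgroup Q, B.map f ∈ kUpperStarFamily (R.map f) ↔ B ∈ kUpperStarFamily R := by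
    intro B
    show (_ ∧ _) ↔ (_ ∧ _)
    rw [classTwo_map_iff f hf, ← map_centralizer_inter f hf, ← map_commutator,
      map_le_map_iff_of_injective hf]
  rw [sSup_eq_iSup, Subgroup.map_iSup]
  simp only [Subgroup.map_iSup]
  refine le_antisymm (iSup₂_le fun B hB => le_sSup ⟨(key B).mpr hB, map_le_range f B⟩)
    (sSup_le ?_)
  rintro _ ⟨hB, hr⟩
  obtain ⟨B₀, rfl⟩ := exists_map_of_le_range f hr
  exact le_iSup₂_of_le B₀ ((key B₀).mp hB) le_rfl

theorem lower_map (f : Q →* P) (hf : Function.Injective f) (R : Subgroup Q) :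
    (sSup (kLowerStarFamily R)).map f =
      sSup {B | B ∈ kLowerStarFamily (R.map f) ∧ B ≤ f.range} := by
  have key : ∀ B : Subgroup Q, B.map f ∈ kLowerStarFamily (R.map f) ↔ B ∈ kLowerStarFamily R := by
    intro B
    show (_ ∧ _ ∧ _) ↔ (_ ∧ _ ∧ _)
    rw [classTwo_map_iff f hf, normalizer_map_iff f hf]
    refine and_congr_right fun _ => and_congr_right fun _ => ⟨fun h A hA hAR hBA h1 h2 => ?_,
      fun h A hA hAR hBA h1 h2 => ?_⟩
    · have := h (A.map f) ((classTwo_map_iff f hf A).mpr hA) (map_mono hAR)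
        ((normalizer_map_iff f hf B A).mpr hBA)
        (by rw [← map_commutator, ← map_commutator, h1, Subgroup.map_bot])
        (by rw [← map_centralizer_inter f hf, ← map_commutator, ← map_commutator, h2,
          Subgroup.map_bot])
      rwa [← map_centralizer_inter f hf, ← map_commutator, map_le_map_iff_of_injective hf] at this
    · obtain ⟨A, rfl⟩ := exists_map_of_le_range f (hAR.trans (map_le_range f R))
      rw [← map_commutator, ← map_commutator, map_eq_bot_iff_of_injective _ hf] at h1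
      rw [← map_centralizer_inter f hf, ← map_commutator, ← map_commutator,
        map_eq_bot_iff_of_injective _ hf] at h2
      rw [← map_centralizer_inter f hf, ← map_commutator, map_le_map_iff_of_injective hf]
      exact h A ((classTwo_map_iff f hf A).mp hA) ((map_le_map_iff_of_injective hf).mp hAR)
        ((normalizer_map_iff f hf B A).mp hBA) h1 h2
  rw [sSup_eq_iSup, Subgroup.map_iSup]
  simp only [Subgroup.map_iSup]
  refine le_antisymm (iSup₂_le fun B hB => le_sSup ⟨(key B).mpr hB, map_le_range f B⟩)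
    (sSup_le ?_)
  rintro _ ⟨hB, hr⟩
  obtain ⟨B₀, rfl⟩ := exists_map_of_le_range f hr
  exact le_iSup₂_of_le B₀ ((key B₀).mp hB) le_rfl

/-- The terms of the K-sequence of a subgroup containing those of the group. -/
theorem kSeq_sandwich (f : Q →* P) (hf : Function.Injective f)
    (h : ∀ n, kSeqEven P n ≤ f.range ∧ kSeqOdd P (n + 1) ≤ f.range) (n : ℕ) :
    (kSeqOdd P (n + 1) ≤ (kSeqOdd Q n).map f ∧ (kSeqOdd Q n).map f ≤ kSeqOdd P n) ∧
      (kSeqEven P n ≤ (kSeqEven Q n).map f ∧ (kSeqEven Q n).map f ≤ kSeqEven P (n + 1)) := by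
  have stepE : ∀ n, kSeqOdd P (n + 1) ≤ (kSeqOdd Q n).map f ∧
      (kSeqOdd Q n).map f ≤ kSeqOdd P n →
      kSeqEven P n ≤ (kSeqEven Q n).map f ∧ (kSeqEven Q n).map f ≤ kSeqEven P (n + 1) := by
    intro n hn
    rw [show kSeqEven Q n = sSup (kLowerStarFamily (kSeqOdd Q n)) from rfl, lower_map f hf]
    exact ⟨sSup_le fun B hB => le_sSup ⟨kLowerStar_anti hn.2 hB, (le_sSup hB).trans (h n).1⟩,
      sSup_le fun B hB => le_sSup (kLowerStar_anti hn.1 hB.1)⟩
  suffices ∀ n, kSeqOdd P (n + 1) ≤ (kSeqOdd Q n).map f ∧ (kSeqOdd Q n).map f ≤ kSeqOdd P n from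
    ⟨this n, stepE n (this n)⟩
  intro n
  induction n with
  | zero =>
    rw [show kSeqOdd Q 0 = ⊤ from rfl, ← MonoidHom.range_eq_map]
    exact ⟨(h 0).2, le_top⟩
  | succ n ih =>
    have hE := stepE n ih
    rw [show kSeqOdd Q (n + 1) = sSup (kUpperStarFamily (kSeqEven Q n)) from rfl, upper_map f hf]
    exact ⟨sSup_le fun B hB => le_sSup ⟨kUpperStar_anti hE.2 hB,
        (le_sSup hB).trans (h (n + 1)).2⟩,
      sSup_le fun B hB => le_sSup (kUpperStar_anti hE.1 hB.1)⟩

theorem kInf_map [Finite Q] [Finite P] (f : Q →* P) (hf : Function.Injective f)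
    (h : ∀ n, kSeqEven P n ≤ f.range ∧ kSeqOdd P (n + 1) ≤ f.range) :
    (kInfLower Q).map f = kInfLower P ∧ (kInfUpper Q).map f = kInfUpper P := by
  obtain ⟨a, ha⟩ := kSeq_stable (P := Q)
  obtain ⟨b, hb⟩ := kSeq_stable (P := P)
  obtain ⟨⟨h1, h2⟩, h3, h4⟩ := kSeq_sandwich f hf h (max a b)
  rw [(hb (max a b + 1) (by omega)).2, (ha _ (le_max_left a b)).2] at h1
  rw [(hb _ (le_max_right a b)).2, (ha _ (le_max_left a b)).2] at h2
  rw [(hb _ (le_max_right a b)).1, (ha _ (le_max_left a b)).1] at h3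
  rw [(hb (max a b + 1) (by omega)).1, (ha _ (le_max_left a b)).1] at h4
  exact ⟨le_antisymm h4 h3, le_antisymm h2 h1⟩

end hom

universe u

theorem isCharPFunctor_kInf (p : ℕ) [Fact p.Prime] :
    IsCharPFunctor.{u} p kInfLower ∧ IsCharPFunctor.{u} p kInfUpper := by
  have hne : ∀ (Q : Type u) [Group Q] [Finite Q], IsPGroup p Q → Nontrivial Q →
      center Q ≠ ⊥ := fun Q _ _ hQ hn => by
    haveI := hQ.center_nontrivial
    exact (Subgroup.nontrivial_iff_ne_bot _).mp ‹_›
  have hmap : ∀ (Q R : Type u) [Group Q] [Group R] [Finite Q], IsPGroup p Q → ∀ φ : Q ≃* R,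
      (kInfLower Q).map φ.toMonoidHom = kInfLower R ∧
        (kInfUpper Q).map φ.toMonoidHom = kInfUpper R := by
    intro Q R _ _ _ hQ φ
    haveI : Finite R := Finite.of_equiv Q φ.toEquiv
    have ht : φ.toMonoidHom.range = ⊤ := MonoidHom.range_eq_top.mpr φ.surjective
    exact kInf_map φ.toMonoidHom φ.injective fun n => by rw [ht]; exact ⟨le_top, le_top⟩
  refine ⟨⟨fun Q _ _ hQ hn h => hne Q hQ hn ?_, fun Q R _ _ _ hQ φ => (hmap Q R hQ φ).1⟩,
    ⟨fun Q _ _ hQ hn h => hne Q hQ hn ?_, fun Q R _ _ _ hQ φ => (hmap Q R hQ φ).2⟩⟩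
  · exact le_bot_iff.mp (h ▸ center_le_kInf.1)
  · exact le_bot_iff.mp (h ▸ center_le_kInf.2)

end Cfsg.Agent.ConjFunctor
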