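import Cfsg.Agent.Lib.ConjFunctor.CoprimeAbelian
import Cfsg.Agent.Lib.ConjFunctor.Sections
import Cfsg.Agent.Lib.ConjFunctor.KConsequences
import Cfsg.Agent.Lib.Transfer.Thompson

/-!
# Normal p-complements from the normalizer of a functor value
-/

set_option autoImplicit false
set_option linter.style.haveILetI false
set_option linter.unusedSectionVars false
set_option linter.unusedVariables false

namespace Cfsg.Agent.ConjFunctor

open Subgroup Cfsg
open scoped commutatorElement

universe u

/-- The conclusion proved by induction over sections. -/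
def ComplementGoal (p : ℕ) (W : ∀ (Q : Type u) [Group Q], Subgroup Q) (X : Type u) [Group X] :
    Prop :=
  ∀ S : Sylow p X,
    HasNormalPComplement p ↥(normalizer ((inducedFunctor W (S : Subgroup X) : Subgroup X) : Set X)) →
      HasNormalPComplement p X

variable {p : ℕ} [hp : Fact p.Prime] {W : ∀ (Q : Type u) [Group Q], Subgroup Q}

section step

variable {X : Type u} [Group X] [Finite X]

/-- An embedding sends the normalizer of a functor value into the normalizer of its image. -/
theorem complement_normalizer_of_embedding (hW : IsCharPFunctor.{u} p W) {Y : Type u} [Group Y]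
    [Finite Y] (f : Y →* X) (hf : Function.Injective f) {T : Subgroup Y} (hT : IsPGroup p T)
    (h : HasNormalPComplement p
      ↥(normalizer ((inducedFunctor W (T.map f) : Subgroup X) : Set X))) :
    HasNormalPComplement p ↥(normalizer ((inducedFunctor W T : Subgroup Y) : Set Y)) := by
  refine Transfer.hasNormalPComplement_of_injective
    ((f.comp (Subgroup.subtype _)).codRestrict _ fun y => ?_) ?_ h
  · have h1 := le_normalizer_map f (mem_map_of_mem f y.2)
    rwa [← inducedFunctor_map hW f T hT hf.injOn] at h1
  · intro a b hab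
    exact Subtype.ext (hf (congrArg Subtype.val hab))

theorem complementGoal_congr (hW : IsCharPFunctor.{u} p W) {Y : Type u} [Group Y] (e : X ≃* Y)
    (h : ComplementGoal p W X) : ComplementGoal p W Y := by
  haveI : Finite Y := Finite.of_equiv X e.toEquiv
  intro S hS
  refine (Transfer.hasNormalPComplement_congr e).mp (h (S.mapSurjective (f := e.symm.toMonoidHom)
    e.symm.surjective) (complement_normalizer_of_embedding hW e.toMonoidHom e.injective
      (Sylow.isPGroup' _) ?_))
  show HasNormalPComplement p ↥(normalizer ((inducedFunctor W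
    (((S : Subgroup Y).map e.symm.toMonoidHom).map e.toMonoidHom) : Subgroup Y) : Set Y))
  rw [Subgroup.map_map,
    show e.toMonoidHom.comp e.symm.toMonoidHom = MonoidHom.id Y by ext y; simp, Subgroup.map_id]
  exact hS

theorem complement_of_subgroup (hW : IsCharPFunctor.{u} p W) {M : Subgroup X}
    (hM : ComplementGoal p W ↥M) {T : Subgroup X} (hTM : T ≤ M) (hT : IsPGroup p T)
    (hidx : ¬ p ∣ T.relIndex M)
    (h : HasNormalPComplement p ↥(normalizer ((inducedFunctor W T : Subgroup X) : Set X))) :
    HasNormalPComplement p ↥M := by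
  obtain ⟨S, hS⟩ : ∃ S : Sylow p ↥M, (S : Subgroup ↥M) = T.subgroupOf M :=
    ⟨(hT.comap_subtype (K := M)).toSylow hidx, rfl⟩
  refine hM S (complement_normalizer_of_embedding hW M.subtype M.subtype_injective S.2 ?_)
  rw [hS, subgroupOf_map_subtype, inf_eq_left.mpr hTM]
  exact h

/-- A nontrivial `p`-subgroup with normalizer `X` exists in a group where the goal fails. -/
theorem exists_pCore_ne_bot (hW : IsCharPFunctor.{u} p W) (S : Sylow p X)
    (hS : HasNormalPComplement p
      ↥(normalizer ((inducedFunctor W (S : Subgroup X) : Subgroup X) : Set X)))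
    (hX : ¬ HasNormalPComplement p X)
    (hsub : ∀ M : Subgroup X, M ≠ ⊤ → ComplementGoal p W ↥M) : pCore p X ≠ ⊥ := by
  classical
  have hWf := isConjugacyFunctor_induced (G := X) hW
  obtain ⟨U, ⟨hU, hU0, hUN⟩, hmax⟩ : ∃ U : Subgroup X, (IsPGroup p U ∧ U ≠ ⊥ ∧
      ¬ HasNormalPComplement p ↥(normalizer ((U : Subgroup X) : Set X))) ∧
      ∀ U' : Subgroup X, (IsPGroup p U' ∧ U' ≠ ⊥ ∧
        ¬ HasNormalPComplement p ↥(normalizer ((U' : Subgroup X) : Set X))) →
        (Nat.card ↥(normalizer ((U' : Subgroup X) : Set X))).factorization p ≤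
          (Nat.card ↥(normalizer ((U : Subgroup X) : Set X))).factorization p := by
    obtain ⟨U, hU, hmax⟩ := Set.exists_max_image {U : Subgroup X | IsPGroup p U ∧ U ≠ ⊥ ∧
      ¬ HasNormalPComplement p ↥(normalizer ((U : Subgroup X) : Set X))}
      (fun U => (Nat.card ↥(normalizer ((U : Subgroup X) : Set X))).factorization p)
      (Set.toFinite _) (by
        by_contra hemp
        rw [Set.not_nonempty_iff_eq_empty, Set.eq_empty_iff_forall_notMem] at hemp
        refine hX (Transfer.hasNormalPComplement_of_frobenius fun D hD g hg hgo => ?_)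
        intro y hy
        rcases eq_or_ne D ⊥ with rfl | hD0
        · rw [SetLike.mem_coe, mem_bot] at hy
          rw [hy, one_mul, mul_one]
        have hN : HasNormalPComplement p ↥(normalizer ((D : Subgroup X) : Set X)) := by
          by_contra hN
          exact hemp D ⟨hD, hD0, hN⟩
        have h1 := Transfer.centralizes_of_hasNormalPComplement hN (D.subgroupOf _)
          hD.comap_subtype ⟨g, hg⟩
          (mem_normalizer_iff.mpr fun z => mem_normalizer_iff.mp hg (z : X))
          (by rwa [Subgroup.orderOf_mk])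
        exact congrArg Subtype.val (h1 ⟨y, le_normalizer hy⟩ hy))
    exact ⟨U, hU, hmax⟩
  intro hcore
  set M := normalizer ((U : Subgroup X) : Set X)
  have hMtop : M ≠ ⊤ := fun h => hU0 (le_bot_iff.mp (hcore ▸ le_pCore_of_normalizer hU h))
  obtain ⟨T, hTM, hUT⟩ := exists_isSylIn_ge (p := p) (H := M) le_normalizer hU
  obtain ⟨S', hTS'⟩ := hTM.2.1.exists_le_sylow
  have hS' : HasNormalPComplement p
      ↥(normalizer ((inducedFunctor W (S' : Subgroup X) : Subgroup X) : Set X)) := by
    obtain ⟨g, hg⟩ := MulAction.exists_smul_eq X S' S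
    refine complement_normalizer_of_embedding hW (MulAut.conj g).toMonoidHom
      (MulAut.conj g).injective S'.2 ?_
    rw [show ((S' : Subgroup X).map (MulAut.conj g).toMonoidHom) = (S : Subgroup X) by
      rw [← hg, Sylow.coe_subgroup_smul]; rfl]
    exact hS
  refine hUN (complement_of_subgroup hW (hsub M hMtop) hTM.1 hTM.2.1 hTM.2.2 ?_)
  rcases eq_or_ne T (S' : Subgroup X) with rfl | hne
  · exact hS'
  by_contra hbad
  have hT0 : T ≠ ⊥ := fun h => hU0 (le_bot_iff.mp (h ▸ hUT))
  have h1 := hmax (inducedFunctor W T)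
    ⟨hTM.2.1.to_le (inducedFunctor_le T), functor_ne_bot hWf hTM.2.1 hT0, hbad⟩
  have hlt : T < nS (S' : Subgroup X) T := lt_nS S'.2 hTS' hne
  have hle : nS (S' : Subgroup X) T ≤ normalizer ((inducedFunctor W T : Subgroup X) : Set X) :=
    (inf_le_right).trans (normalizer_le_functor hWf hTM.2.1)
  obtain ⟨a, ha⟩ := hTM.2.1.exists_card_eq
  obtain ⟨b, hb⟩ := (S'.2.to_le (inf_le_left : nS (S' : Subgroup X) T ≤ _)).exists_card_eq
  have h2 := Transfer.exponent_le_factorization hle hb
  have h3 : (Nat.card ↥M).factorization p ≤ a := by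
    rw [← card_mul_index (T.subgroupOf M), Basics.card_subgroupOf hTM.1, ha,
      Nat.factorization_mul (pow_ne_zero _ hp.out.ne_zero) (FiniteIndex.index_ne_zero),
      Finsupp.add_apply, hp.out.factorization_pow, Finsupp.single_eq_same,
      Nat.factorization_eq_zero_of_not_dvd (show ¬ p ∣ (T.subgroupOf M).index from hTM.2.2)]
    rfl
  have h4 := Basics.card_lt_of_lt hlt
  rw [ha, hb, Nat.pow_lt_pow_iff_right hp.out.one_lt] at h4
  omega

end step

/-- Properties of a constrained section with `p`-nilpotent quotient by `O_p` and maximal Sylow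
subgroup. -/
structure MaximalShape (p : ℕ) [Fact p.Prime] (X : Type u) [Group X] where
  minimal : ∀ N : Subgroup X, N.Normal → pCore p X ≤ N →
    N ≤ (pResidual p (X ⧸ pCore p X)).comap (QuotientGroup.mk' _) →
      N = pCore p X ∨ N = (pResidual p (X ⧸ pCore p X)).comap (QuotientGroup.mk' _)
  abelian : ⁅(pResidual p (X ⧸ pCore p X)).comap (QuotientGroup.mk' _),
    (pResidual p (X ⧸ pCore p X)).comap (QuotientGroup.mk' _)⁆ ≤ pCore p X

theorem maximalShape {X : Type u} [Group X] [Finite X]
    (hnil : HasNormalPComplement p (X ⧸ pCore p X)) (T : Sylow p X)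
    (hT : IsCoatom (T : Subgroup X)) : MaximalShape p X := by
  haveI := LocalEvenA.pCore_normal' p X
  set q := QuotientGroup.mk' (pCore p X)
  have hq : Function.Surjective q := QuotientGroup.mk'_surjective _
  set P : Sylow p (X ⧸ pCore p X) := T.mapSurjective hq
  have hcm : (P : Subgroup (X ⧸ pCore p X)).comap q = (T : Subgroup X) := by
    rw [Sylow.coe_mapSurjective, comap_map_eq, QuotientGroup.ker_mk', sup_eq_left]
    exact pCore_le_sylow T
  have hP : IsCoatom (P : Subgroup (X ⧸ pCore p X)) := by
    refine ⟨fun h => hT.1 (by rw [← hcm, h, comap_top]), fun H hH => ?_⟩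
    apply comap_injective hq
    rw [comap_top]
    refine hT.2 _ (hcm ▸ ?_)
    exact (comap_lt_comap_of_surjective hq).mpr hH
  set K := pResidual p (X ⧸ pCore p X)
  have hKp : ¬ p ∣ Nat.card K := Transfer.hasNormalPComplement_iff.mp hnil
  have hKc : (Nat.card K).Coprime p := (hp.out.coprime_iff_not_dvd.mpr hKp).symm
  have hKP := Transfer.isComplement'_pResidual hKp P
  have hmin : ∀ N : Subgroup (X ⧸ pCore p X), N.Normal → N ≤ K → N = ⊥ ∨ N = K := by
    intro N hN hNK
    rcases eq_or_lt_of_le (le_sup_right : (P : Subgroup (X ⧸ pCore p X)) ≤ N ⊔ P) with e | e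
    · left
      rw [← le_bot_iff, ← Transfer.sylow_disjoint_of_coprime P _ hKp]
      rw [inf_comm]
      exact le_inf (le_sup_left.trans e.ge) hNK
    · right
      refine eq_of_le_of_card_ge hNK ?_
      have h1 := (Basics.card_mul_card_eq_card_sup_mul_card_inf (N := N)
        (H := (P : Subgroup (X ⧸ pCore p X))) le_normalizer_of_normal).ge
      rw [hP.2 _ e, card_top, ← hKP.card_mul] at h1
      have h2 : Nat.card ↥(N ⊓ (P : Subgroup (X ⧸ pCore p X))) ≥ 1 := Nat.card_pos
      exact Nat.le_of_mul_le_mul_right ((Nat.le_mul_of_pos_right _ h2).trans h1) Nat.card_pos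
  have hab : ⁅K, K⁆ = ⊥ := by
    by_contra hne
    have hKne : K ≠ ⊥ := fun h => hne (by rw [h, commutator_bot_left])
    obtain ⟨r, hr, hrK⟩ := Nat.exists_prime_and_dvd (fun h => hKne (card_eq_one.mp h))
    haveI := Fact.mk hr
    let R : Sylow r K := default
    have hfr := Sylow.normalizer_sup_eq_top R
    set R₀ := (R : Subgroup K).map K.subtype with hR₀
    set N := normalizer (R₀ : Set (X ⧸ pCore p X))
    have hR0 : R₀ ≠ ⊥ := fun h => R.ne_bot_of_dvd_card hrK
      ((map_eq_bot_iff_of_injective _ K.subtype_injective).mp h)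
    obtain ⟨T₀, hT₀⟩ := exists_isSylIn (p := p) N
    have hidx : ¬ p ∣ N.index := by
      rw [← relIndex_top_right, ← hfr]
      exact fun hd => hKp (hd.trans (Components.relIndex_self_sup_dvd N K))
    let T₁ : Sylow p (X ⧸ pCore p X) := hT₀.2.1.toSylow (by
      rw [← relIndex_mul_index hT₀.1]
      exact fun hd => (hp.out.dvd_mul.mp hd).elim hT₀.2.2 hidx)
    have hT₁ : IsCoatom (T₁ : Subgroup (X ⧸ pCore p X)) := by
      obtain ⟨g, hg⟩ := MulAction.exists_smul_eq (X ⧸ pCore p X) P T₁
      rw [← hg, Sylow.coe_subgroup_smul]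
      exact (OrderIso.isCoatom_iff (MulEquiv.mapSubgroup (MulAut.conj g)) _).mpr hP
    have hN : N = ⊤ := by
      rcases eq_or_lt_of_le (show (T₁ : Subgroup (X ⧸ pCore p X)) ≤ N from hT₀.1) with e | e
      · exfalso
        refine hR0 (le_bot_iff.mp ?_)
        rw [← Transfer.sylow_disjoint_of_coprime T₁ _ hKp]
        exact le_inf (map_subtype_le _) (le_normalizer.trans e.ge)
      · exact hT₁.2 _ e
    have hRK : R₀ = K :=
      (hmin R₀ (normalizer_eq_top_iff.mp hN) (map_subtype_le _)).resolve_left hR0
    have hlt : ⁅K, K⁆ < K := by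
      refine lt_of_le_of_ne (commutator_le_self K) fun h => ?_
      haveI : Group.IsNilpotent K := by
        refine IsPGroup.isNilpotent (p := r) ?_
        rw [← hRK]
        exact R.2.map _
      refine hKne (le_bot_iff.mp ?_)
      exact Transfer.le_of_le_sup_commutator le_rfl (by rw [normalizer_eq_top]; exact le_top)
        (h.ge.trans le_sup_right)
    exact hne ((hmin _ inferInstance hlt.le).resolve_right hlt.ne)
  constructor
  · intro N hN hle hNK
    have hNn : (N.map q).Normal := hN.map q hq
    have e : (N.map q).comap q = N := by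
      rw [comap_map_eq, QuotientGroup.ker_mk', sup_eq_left.mpr hle]
    rcases hmin _ hNn ((map_mono hNK).trans (map_comap_le _ _)) with h | h
    · left
      rw [← e, h, MonoidHom.comap_bot, QuotientGroup.ker_mk']
    · right
      rw [← e, h]
  · refine le_trans ?_ (QuotientGroup.ker_mk' (pCore p X)).le
    rw [← Subgroup.map_eq_bot_iff, map_commutator, map_comap_eq_self_of_surjective hq, hab]

set_option maxHeartbeats 1000000 in
/-- **Normal `p`-complements**: a reduction to constrained sections with maximal Sylow subgroup. -/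
theorem complement_of_local {G : Type u} [Group G] [Finite G] (hW : IsCharPFunctor.{u} p W)
    (hloc : ∀ (K R : Subgroup G) [hR : (R.subgroupOf K).Normal],
      centralizer ((pCore p (↥K ⧸ R.subgroupOf K) : Subgroup (↥K ⧸ R.subgroupOf K)) :
          Set (↥K ⧸ R.subgroupOf K)) ≤ pCore p (↥K ⧸ R.subgroupOf K) →
      HasNormalPComplement p ((↥K ⧸ R.subgroupOf K) ⧸ pCore p (↥K ⧸ R.subgroupOf K)) →
      ∀ T : Sylow p (↥K ⧸ R.subgroupOf K), IsCoatom (T : Subgroup (↥K ⧸ R.subgroupOf K)) →
        (inducedFunctor W (T : Subgroup (↥K ⧸ R.subgroupOf K))).Normal)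
    (S : Sylow p G)
    (hN : HasNormalPComplement p
      ↥(normalizer ((inducedFunctor W (S : Subgroup G) : Subgroup G) : Set G))) :
    HasNormalPComplement p G := by
  refine (section_induction (G := G) (fun X [Group X] => ComplementGoal p W X)
    (fun X Y _ _ _ e h => complementGoal_congr hW e h) ?_).2 S hN
  intro K R hR hsub hquot T hT
  by_contra hX
  set X := ↥K ⧸ R.subgroupOf K
  have hWf := isConjugacyFunctor_induced (G := X) hW
  have hQ0 := exists_pCore_ne_bot hW T hT hX hsub
  haveI := LocalEvenA.pCore_normal' p X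
  set Q := pCore p X with hQdef
  have hQp : IsPGroup p Q := LocalEvenA.pCore_isPGroup' p X
  -- subgroups over the Sylow subgroup
  have hup : ∀ M : Subgroup X, M ≠ ⊤ → (T : Subgroup X) ≤ M → HasNormalPComplement p ↥M :=
    fun M hM hTM => complement_of_subgroup hW (hsub M hM) hTM T.2
      (fun hd => T.not_dvd_index (hd.trans (relIndex_dvd_index_of_le hTM))) hT
  -- no normal p'-subgroup
  have hO : pPrimeCore p X = ⊥ := by
    by_contra hO
    apply hX
    have hcop := Basics.pPrimeCore_coprime (G := X) p
    refine Transfer.hasNormalPComplement_of_quotient _ (Basics.not_dvd_card_pPrimeCore p) ?_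
    refine hquot _ hO (T.mapSurjective (QuotientGroup.mk'_surjective _)) ?_
    rw [Sylow.coe_mapSurjective, inducedFunctor_map hW _ _ T.2 (injOn_mk'_of_coprime hcop T.2),
      ← map_normalizer_mk' hcop (T.2.to_le (inducedFunctor_le _))]
    exact Transfer.hasNormalPComplement_map _ hT
  set q := QuotientGroup.mk' Q
  have hq : Function.Surjective q := QuotientGroup.mk'_surjective _
  -- the quotient by `O_p` is p-nilpotent
  have hnil : HasNormalPComplement p (X ⧸ Q) := by
    set P : Sylow p (X ⧸ Q) := T.mapSurjective hq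
    set N := normalizer ((inducedFunctor W (P : Subgroup (X ⧸ Q)) : Subgroup (X ⧸ Q)) :
      Set (X ⧸ Q)) with hNdef
    have hTN : (T : Subgroup X) ≤ N.comap q := by
      rw [← map_le_iff_le_comap, ← Sylow.coe_mapSurjective hq T]
      exact self_le_normalizer_functor (isConjugacyFunctor_induced hW) P.2
    rcases eq_or_ne (N.comap q) ⊤ with hM | hM
    · exfalso
      have hN' : N = ⊤ := comap_injective hq (by rw [hM, comap_top])
      have hb : inducedFunctor W (P : Subgroup (X ⧸ Q)) = ⊥ := by
        rw [← le_bot_iff, ← pCore_quotient_pCore (X := X) (p := p)]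
        exact le_pCore_of_normalizer (P.2.to_le (inducedFunctor_le _)) hN'
      have hP : (P : Subgroup (X ⧸ Q)) = ⊥ := by
        by_contra hP
        exact functor_ne_bot (isConjugacyFunctor_induced hW) P.2 hP hb
      rw [Sylow.coe_mapSurjective, Subgroup.map_eq_bot_iff, QuotientGroup.ker_mk'] at hP
      apply hX
      refine Transfer.hasNormalPComplement_of_eq_top ?_ hT
      rw [← top_le_iff, ← normalizer_eq_top_iff.mpr
        (show (T : Subgroup X).Normal from le_antisymm (pCore_le_sylow T) hP ▸ inferInstance)]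
      exact normalizer_le_functor hWf T.2
    · refine hquot Q hQ0 P ?_
      rw [← hNdef, ← map_comap_eq_self_of_surjective hq N]
      exact Transfer.hasNormalPComplement_map q (hup _ hM hTN)
  -- the group is constrained
  have hC : centralizer (Q : Set X) ≤ Q := by
    set C := centralizer (Q : Set X)
    set M := (pResidual p (X ⧸ Q)).comap q
    haveI : (M ⊓ C).Normal := inferInstance
    have hp' : HasNormalPComplement p ↥(M ⊓ C : Subgroup X) := by
      obtain ⟨P⟩ := (inferInstance : Nonempty (Sylow p ↥(M ⊓ C : Subgroup X)))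
      refine Transfer.hasNormalPComplement_of_normalizer_le P fun n _ x hx => ?_
      refine Subtype.ext ?_
      refine n.2.2 (x : X) ?_
      -- a p-element of `M` lies in `Q`
      show (x : X) ∈ Q
      rw [← QuotientGroup.eq_one_iff, ← QuotientGroup.mk'_apply]
      obtain ⟨k, hk⟩ := P.2 ⟨x, hx⟩
      refine LocalEvenA.eq_one_of_pPow_of_coprime (p := p) (k := k) ?_ ?_
      · rw [← map_pow]
        exact (congrArg q (congrArg (fun z => ((z : ↥(M ⊓ C : Subgroup X)) : X))
          (congrArg Subtype.val hk))).trans (map_one q)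
      · exact (hp.out.coprime_iff_not_dvd.mpr (Transfer.hasNormalPComplement_iff.mp hnil)).symm
          |>.coprime_dvd_left (by
            rw [← Subgroup.orderOf_mk (q (x : X)) (show q (x : X) ∈ pResidual p (X ⧸ Q) from x.2.1)]
            exact orderOf_dvd_natCard _)
    have hbot : pResidual p ↥(M ⊓ C : Subgroup X) = ⊥ := by
      haveI := Transfer.pResidual_characteristic ↥(M ⊓ C : Subgroup X) p
      rw [← map_eq_bot_iff_of_injective _ (M ⊓ C : Subgroup X).subtype_injective, ← le_bot_iff,
        ← hO]
      refine Basics.le_pPrimeCore ?_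
      rw [card_map_of_injective (M ⊓ C : Subgroup X).subtype_injective]
      exact (hp.out.coprime_iff_not_dvd.mpr (Transfer.hasNormalPComplement_iff.mp hp')).symm
    have hMC : M ⊓ C ≤ Q := by
      refine LocalEvenA.le_pCore_of_normal inferInstance fun y => ?_
      obtain ⟨k, hk⟩ := Transfer.isPGroup_quotient_pResidual (p := p)
        (G := ↥(M ⊓ C : Subgroup X)) (QuotientGroup.mk y)
      refine ⟨k, ?_⟩
      rwa [← QuotientGroup.mk_pow, QuotientGroup.eq_one_iff, hbot, mem_bot] at hk
    refine LocalEvenA.le_pCore_of_normal inferInstance fun y => ?_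
    obtain ⟨k, hk⟩ := Transfer.isPGroup_quotient_pResidual (p := p) (G := X ⧸ Q)
      (QuotientGroup.mk (q (y : X)))
    rw [← QuotientGroup.mk_pow, QuotientGroup.eq_one_iff, ← map_pow] at hk
    obtain ⟨l, hl⟩ := hQp ⟨_, hMC ⟨hk, C.pow_mem y.2 _⟩⟩
    refine ⟨k + l, Subtype.ext ?_⟩
    rw [pow_add, SubgroupClass.coe_pow, pow_mul]
    simpa using congrArg Subtype.val hl
  -- the Sylow subgroup is maximal
  have hcoat : IsCoatom (T : Subgroup X) := by
    refine ⟨fun h => hX ?_, fun M hM => ?_⟩
    · refine Transfer.hasNormalPComplement_of_normal ⊥ (by simp [hp.out.ne_one]) ?_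
      exact (T.2.of_equiv ((MulEquiv.subgroupCongr h).trans topEquiv)).to_quotient _
    · by_contra hMtop
      have hc := hup M hMtop hM.le
      have hQM : Q ≤ M := (pCore_le_sylow T).trans hM.le
      have hres : pResidual p ↥M = ⊥ := by
        have h1 : ∀ x ∈ pResidual p ↥M, (x : X) ∈ Q := by
          intro x hx
          refine hC fun y hy => ?_
          have ho : (orderOf x).Coprime p := by
            refine ((hp.out.coprime_iff_not_dvd.mpr
              (Transfer.hasNormalPComplement_iff.mp hc)).symm).coprime_dvd_left ?_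
            have := orderOf_dvd_natCard (⟨x, hx⟩ : ↥(pResidual p ↥M))
            rwa [Subgroup.orderOf_mk] at this
          have h2 := Transfer.centralizes_of_hasNormalPComplement hc (Q.subgroupOf M)
            hQp.comap_subtype x (by
              rw [normalizer_eq_top_iff.mpr (inferInstance : (Q.subgroupOf M).Normal)]
              exact mem_top _) ho
          exact congrArg Subtype.val (h2 ⟨y, hQM hy⟩ (mem_subgroupOf.mpr hy))
        refine card_eq_one.mp (Nat.eq_one_of_dvd_coprimes
          ((hp.out.coprime_iff_not_dvd.mpr (Transfer.hasNormalPComplement_iff.mp hc)).symm.pow_right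
            ((hQp.exists_card_eq).choose)) dvd_rfl ?_)
        rw [← hQp.exists_card_eq.choose_spec, ← card_map_of_injective M.subtype_injective]
        exact card_dvd_of_le (by rintro _ ⟨x, hx, rfl⟩; exact h1 x hx)
      have hMp : IsPGroup p M :=
        (Transfer.isPGroup_quotient_pResidual (p := p) (G := ↥M)).of_equiv
          ((QuotientGroup.quotientMulEquivOfEq hres).trans QuotientGroup.quotientBot)
      exact hM.ne' (T.is_maximal' hMp hM.le)
  haveI := hloc K R hC hnil T hcoat
  exact hX (Transfer.hasNormalPComplement_of_eq_top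
    (normalizer_eq_top (H := inducedFunctor W (T : Subgroup X))) hT)

end Cfsg.Agent.ConjFunctor
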