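import Cfsg.Agent.Lib.ConjFunctor.Sections
import Mathlib.GroupTheory.Transfer

/-!
# Reduction of transfer control to constrained groups
-/

set_option autoImplicit false
set_option linter.style.haveILetI false
set_option linter.unusedSectionVars false
set_option linter.unusedVariables false

namespace Cfsg.Agent.ConjFunctor

open Subgroup
open scoped commutatorElement Pointwise

universe u

/-- The transfer of an element fixing every coset. -/
theorem transfer_of_fixed {G : Type*} [Group G] {H : Subgroup G} [Finite G] [inst : Fintype (G ⧸ H)]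
    {A : Type*} [CommGroup A] (ϕ : H →* A) (x : G) (hx : ∀ t : G, t⁻¹ * x * t ∈ H) :
    MonoidHom.transfer ϕ x = ∏ q : G ⧸ H, ϕ ⟨q.out⁻¹ * x * q.out, hx _⟩ := by
  let T : H.LeftTransversal :=
    ⟨Set.range fun q : G ⧸ H => q.out, isComplement_range_left fun q => q.out_eq'⟩
  have hT : ∀ q : G ⧸ H, (T.2.leftQuotientEquiv q : G) = q.out := fun q =>
    IsComplement.leftQuotientEquiv_apply (f := fun q : G ⧸ H => q.out) (fun q => q.out_eq') q
  have hfix : ∀ q : G ⧸ H, x⁻¹ • q = q := by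
    intro q
    induction q using QuotientGroup.induction_on with
    | H z =>
      show ((x⁻¹ * z : G) : G ⧸ H) = z
      rw [QuotientGroup.eq]
      simpa [mul_assoc] using hx z
  obtain rfl : inst = H.fintypeQuotientOfFiniteIndex := Subsingleton.elim _ _
  letI := H.fintypeQuotientOfFiniteIndex
  rw [MonoidHom.transfer_def ϕ T, leftTransversals.diff]
  refine Fintype.prod_equiv (Equiv.refl _) _ _ fun q => ?_
  congr 1
  refine Subtype.ext ?_
  show (T.2.leftQuotientEquiv q : G)⁻¹ * ((x • T).2.leftQuotientEquiv q : G) = _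
  rw [smul_apply_eq_smul_apply_inv_smul, hfix, hT, smul_eq_mul, ← mul_assoc]
  rfl

variable {X : Type u} [Group X] [Finite X] {p : ℕ} [hp : Fact p.Prime]
  {𝒲 : Set (∀ (Q : Type u) [Group Q], Subgroup Q)}

/-- Transfer into `S ⧸ D`: an element of `S ∩ X'` fixing all cosets and moved only inside `D`
lies in `D`. -/
theorem mem_of_transfer (S : Sylow p X) (D : Subgroup X)
    (hDn : (S : Subgroup X) ≤ normalizer (D : Set X))
    (hS : ⁅(S : Subgroup X), (S : Subgroup X)⁆ ≤ D) (x : X) (hxS : x ∈ (S : Subgroup X))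
    (hxc : x ∈ _root_.commutator X) (hfix : ∀ t : X, t⁻¹ * x * t ∈ (S : Subgroup X))
    (hmod : ∀ t : X, x⁻¹ * (t⁻¹ * x * t) ∈ D) : x ∈ D := by
  let D' : Subgroup ↥(S : Subgroup X) := D.subgroupOf (S : Subgroup X)
  haveI : D'.Normal := normal_subgroupOf_of_le_normalizer hDn
  haveI : IsMulCommutative (↥(S : Subgroup X) ⧸ D') := by
    refine Normal.quotient_commutative_iff_commutator_le.mpr ?_
    rw [← map_le_map_iff_of_injective (S : Subgroup X).subtype_injective, map_subtype_commutator,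
      subgroupOf_map_subtype]
    exact le_inf hS ((commutator_le_self _).trans le_rfl)
  open scoped IsMulCommutative in
  let ϕ : ↥(S : Subgroup X) →* ↥(S : Subgroup X) ⧸ D' := QuotientGroup.mk' D'
  haveI : Fintype (X ⧸ (S : Subgroup X)) := Fintype.ofFinite _
  open scoped IsMulCommutative in
  have h1 : MonoidHom.transfer ϕ x = 1 :=
    MonoidHom.mem_ker.mp (Abelianization.commutator_subset_ker (MonoidHom.transfer ϕ) hxc)
  open scoped IsMulCommutative in
  have h2 : ∀ t : X, ϕ ⟨t⁻¹ * x * t, hfix t⟩ = ϕ ⟨x, hxS⟩ := by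
    intro t
    symm
    refine QuotientGroup.eq.mpr ?_
    simpa [D', mem_subgroupOf] using hmod t
  open scoped IsMulCommutative in
  have h3 : (ϕ ⟨x, hxS⟩) ^ (S : Subgroup X).index = 1 := by
    rw [transfer_of_fixed ϕ x hfix, Finset.prod_congr rfl (fun q _ => h2 _), Finset.prod_const,
      Finset.card_univ, ← Nat.card_eq_fintype_card] at h1
    exact h1
  have h4 : (QuotientGroup.mk' D' ⟨x, hxS⟩ : ↥(S : Subgroup X) ⧸ D') = 1 := by
    obtain ⟨k, hk⟩ := (S.2.to_quotient D') (QuotientGroup.mk' D' ⟨x, hxS⟩)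
    exact Components.eq_one_of_pow_prime_pow_of_coprime
      (hp.out.coprime_iff_not_dvd.mpr S.not_dvd_index).symm hk h3
  exact (QuotientGroup.eq_one_iff (N := D') _).mp h4

/-- Control of transfer at a chosen Sylow subgroup of a proper subgroup. -/
theorem xfer_move_sub (h𝒲 : ∀ W ∈ 𝒲, Cfsg.IsCharPFunctor.{u} p W) {M T : Subgroup X}
    (hT : IsSylIn p T M) (h : Cfsg.FamilyControlsTransferIn p (indFam 𝒲 ↥M) ⊤) :
    XferAt (indFam 𝒲 X) M T := by
  obtain ⟨T₀, hT₀, h₀⟩ := at_of_familyTransfer h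
  have h1 := h₀.map h𝒲 M.subtype M.subtype_injective hT₀.2.1
  have h2 := isSylIn_map_injective M.subtype M.subtype_injective hT₀
  rw [← MonoidHom.range_eq_map, range_subtype] at h1 h2
  exact h1.move (isConjugacyFunctor_indFam h𝒲) h2 hT

/-- A proper overgroup of `S` only contributes the controlled part. -/
theorem proper_le_xCtl (S : Sylow p X) {M : Subgroup X} (hSM : (S : Subgroup X) ≤ M)
    (h : XferAt (indFam 𝒲 X) M (S : Subgroup X)) :
    (S : Subgroup X) ⊓ ⁅M, M⁆ ≤ xCtl (indFam 𝒲 X) ⊤ (S : Subgroup X) :=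
  le_trans h (iSup₂_mono fun _ _ => inf_le_inf_left _
    (commutator_mono (inf_le_inf_right _ le_top) (inf_le_inf_right _ le_top)))

theorem xfer_commutator_le (S : Sylow p X)
    (hsub : ∀ M : Subgroup X, M ≠ ⊤ → (S : Subgroup X) ≤ M →
      XferAt (indFam 𝒲 X) M (S : Subgroup X))
    (hne : (S : Subgroup X) ≠ ⊤) :
    ⁅(S : Subgroup X), (S : Subgroup X)⁆ ≤ xCtl (indFam 𝒲 X) ⊤ (S : Subgroup X) :=
  le_trans (le_inf (commutator_le_self _) le_rfl)
    (proper_le_xCtl S le_rfl (hsub _ hne le_rfl))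

theorem xCtl_normalized (S : Sylow p X)
    (h : ⁅(S : Subgroup X), (S : Subgroup X)⁆ ≤ xCtl (indFam 𝒲 X) ⊤ (S : Subgroup X)) :
    (S : Subgroup X) ≤ normalizer (xCtl (indFam 𝒲 X) ⊤ (S : Subgroup X) : Set X) :=
  le_normalizer_iff_commutator_le_left.mpr
    ((commutator_mono (xCtl_le.trans inf_le_left) le_rfl).trans h)

/-- Modulo `O_p`, only the controlled part occurs. -/
theorem xfer_mod_pCore (h𝒲 : ∀ W ∈ 𝒲, Cfsg.IsCharPFunctor.{u} p W) (S : Sylow p X)
    (hsub : ∀ M : Subgroup X, M ≠ ⊤ → (S : Subgroup X) ≤ M →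
      XferAt (indFam 𝒲 X) M (S : Subgroup X))
    (hquot : Cfsg.FamilyControlsTransferIn p (indFam 𝒲 (X ⧸ Cfsg.pCore p X)) ⊤) :
    (S : Subgroup X) ⊓ ⁅(⊤ : Subgroup X), ⊤⁆ ≤
      xCtl (indFam 𝒲 X) ⊤ (S : Subgroup X) ⊔ Cfsg.pCore p X := by
  haveI := LocalEvenA.pCore_normal' p X
  set q := QuotientGroup.mk' (Cfsg.pCore p X)
  set D := xCtl (indFam 𝒲 X) ⊤ (S : Subgroup X)
  have hq : Function.Surjective q := QuotientGroup.mk'_surjective _
  let S' : Sylow p (X ⧸ Cfsg.pCore p X) := S.mapSurjective hq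
  have hS' : (S' : Subgroup (X ⧸ Cfsg.pCore p X)) = (S : Subgroup X).map q :=
    Sylow.coe_mapSurjective hq S
  obtain ⟨T₀, hT₀, h₀⟩ := at_of_familyTransfer hquot
  have hctl := h₀.move (isConjugacyFunctor_indFam h𝒲) hT₀ (isSylIn_top S')
  have key : xCtl (indFam 𝒲 (X ⧸ Cfsg.pCore p X)) ⊤ (S' : Subgroup _) ≤ D.map q := by
    refine iSup₂_le ?_
    rintro _ ⟨W, hW, rfl⟩
    rw [top_inf_eq, hS']
    set V := Cfsg.inducedFunctor W ((S : Subgroup X).map q)
    by_cases hS1 : (S : Subgroup X).map q = ⊥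
    · rw [hS1, bot_inf_eq]; exact bot_le
    have hVne : V ≠ ⊥ := functor_ne_bot (isConjugacyFunctor_induced (h𝒲 W hW)) (S.2.map q) hS1
    set M := (normalizer (V : Set (X ⧸ Cfsg.pCore p X))).comap q
    have hMmap : M.map q = normalizer (V : Set (X ⧸ Cfsg.pCore p X)) :=
      map_comap_eq_self_of_surjective hq _
    have hM : M ≠ ⊤ := by
      intro hM
      refine hVne (le_bot_iff.mp ?_)
      rw [← pCore_quotient_pCore (X := X) (p := p)]
      refine le_pCore_of_normalizer ((S.2.map q).to_le (inducedFunctor_le _)) ?_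
      rw [← hMmap, hM, map_top_of_surjective q hq]
    have hSM : (S : Subgroup X) ≤ M := by
      intro s hs
      exact self_le_normalizer_functor (isConjugacyFunctor_induced (h𝒲 W hW)) (S.2.map q)
        (mem_map_of_mem q hs)
    have hMD := proper_le_xCtl S hSM (hsub M hM hSM)
    rw [← hMmap, ← map_commutator]
    rintro y ⟨⟨s, hs, rfl⟩, m, hm, hms⟩
    have hk : s⁻¹ * m ∈ Cfsg.pCore p X := QuotientGroup.eq.mp hms.symm
    have hmS : m ∈ (S : Subgroup X) := by
      have := mul_mem hs (pCore_le_sylow S hk)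
      simpa using this
    exact ⟨m, hMD ⟨hmS, hm⟩, hms⟩
  intro x hx
  have hqx : q x ∈ xCtl (indFam 𝒲 (X ⧸ Cfsg.pCore p X)) ⊤ (S' : Subgroup _) := by
    refine hctl ⟨?_, ?_⟩
    · rw [hS']; exact mem_map_of_mem q hx.1
    · rw [← map_top_of_surjective q hq, ← map_commutator]
      exact mem_map_of_mem q hx.2
  obtain ⟨d, hd, hdx⟩ := key hqx
  have hk : d⁻¹ * x ∈ Cfsg.pCore p X := QuotientGroup.eq.mp hdx
  simpa using mul_mem (mem_sup_left (T := Cfsg.pCore p X) hd) (mem_sup_right (S := D) hk)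

/-- Passing up through a quotient by a normal `p'`-subgroup. -/
theorem xfer_of_quotient (h𝒲 : ∀ W ∈ 𝒲, Cfsg.IsCharPFunctor.{u} p W) (S : Sylow p X)
    (R : Subgroup X) [R.Normal] (hR : (Nat.card R).Coprime p)
    (hquot : Cfsg.FamilyControlsTransferIn p (indFam 𝒲 (X ⧸ R)) ⊤) :
    XferAt (indFam 𝒲 X) ⊤ (S : Subgroup X) := by
  set q := QuotientGroup.mk' R
  have hq : Function.Surjective q := QuotientGroup.mk'_surjective _
  let S' : Sylow p (X ⧸ R) := S.mapSurjective hq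
  have hS' : (S' : Subgroup (X ⧸ R)) = (S : Subgroup X).map q := Sylow.coe_mapSurjective hq S
  obtain ⟨T₀, hT₀, h₀⟩ := at_of_familyTransfer hquot
  have hctl := h₀.move (isConjugacyFunctor_indFam h𝒲) hT₀ (isSylIn_top S')
  have hinj : Set.InjOn q ((S : Subgroup X) : Set X) := injOn_mk'_of_coprime hR S.2
  have key : xCtl (indFam 𝒲 (X ⧸ R)) ⊤ (S' : Subgroup _) ≤
      (xCtl (indFam 𝒲 X) ⊤ (S : Subgroup X)).map q := by
    refine iSup₂_le ?_
    rintro _ ⟨W, hW, rfl⟩
    simp only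
    rw [top_inf_eq, hS', inducedFunctor_map (h𝒲 W hW) q _ S.2 hinj,
      ← map_normalizer_mk' hR (S.2.to_le (inducedFunctor_le _)), ← map_commutator]
    set N := normalizer ((Cfsg.inducedFunctor W (S : Subgroup X) : Subgroup X) : Set X)
    rintro y ⟨⟨s, hs, rfl⟩, n, hn, hns⟩
    refine ⟨s, inf_le_xCtl_top (𝒲 := indFam 𝒲 X) (W := Cfsg.inducedFunctor W) ⟨W, hW, rfl⟩ (mem_inf.mpr ⟨hs, ?_⟩), rfl⟩
    have hSN : (S : Subgroup X) ≤ N :=
      self_le_normalizer_functor (isConjugacyFunctor_induced (h𝒲 W hW)) S.2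
    let N' : Subgroup ↥N := ⁅(⊤ : Subgroup ↥N), ⊤⁆
    haveI : N'.Normal := inferInstance
    have hN' : ∀ z : ↥N, z ∈ N' ↔ (z : X) ∈ ⁅N, N⁆ := by
      intro z
      have e : N'.map N.subtype = ⁅N, N⁆ := by
        rw [map_commutator, ← MonoidHom.range_eq_map, range_subtype]
      rw [← e]
      exact (mem_map_iff_mem N.subtype_injective).symm
    have hnN : n ∈ N := commutator_le_self _ hn
    have hr : n⁻¹ * s ∈ R := QuotientGroup.eq.mp hns
    let s₀ : ↥N := ⟨s, hSN hs⟩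
    let n₀ : ↥N := ⟨n, hnN⟩
    have e : QuotientGroup.mk' N' (n₀⁻¹ * s₀) = QuotientGroup.mk' N' s₀ := by
      rw [map_mul, map_inv, show QuotientGroup.mk' N' n₀ = 1 from
        (QuotientGroup.eq_one_iff _).mpr ((hN' n₀).mpr hn), inv_one, one_mul]
    obtain ⟨k, hk⟩ := S.2 ⟨s, hs⟩
    have h1 : (QuotientGroup.mk' N' s₀) ^ p ^ k = 1 := by
      rw [← map_pow, show s₀ ^ p ^ k = 1 from Subtype.ext (by simpa [s₀] using congrArg Subtype.val hk), map_one]
    have h2 : (QuotientGroup.mk' N' s₀) ^ Nat.card R = 1 := by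
      rw [← e, ← map_pow,
        show (n₀⁻¹ * s₀) ^ Nat.card R = 1 from Subtype.ext (by
          rw [SubgroupClass.coe_pow]
          exact orderOf_dvd_iff_pow_eq_one.mp (Subgroup.orderOf_dvd_natCard R hr))]
      exact map_one _
    exact (hN' s₀).mp ((QuotientGroup.eq_one_iff _).mp
      (Components.eq_one_of_pow_prime_pow_of_coprime hR h1 h2))
  intro x hx
  have hqx : q x ∈ xCtl (indFam 𝒲 (X ⧸ R)) ⊤ (S' : Subgroup _) := by
    refine hctl ⟨?_, ?_⟩
    · rw [hS']; exact mem_map_of_mem q hx.1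
    · rw [← map_top_of_surjective q hq, ← map_commutator]
      exact mem_map_of_mem q hx.2
  obtain ⟨d, hd, hdx⟩ := key hqx
  exact hinj (xCtl_le hd).1 hx.1 hdx ▸ hd

/-- The step: control in proper subgroups and proper quotients, and in `X` if it is constrained,
gives control in `X`. -/
theorem xfer_step (h𝒲 : ∀ W ∈ 𝒲, Cfsg.IsCharPFunctor.{u} p W) (S : Sylow p X)
    (hsub : ∀ M : Subgroup X, M ≠ ⊤ → Cfsg.FamilyControlsTransferIn p (indFam 𝒲 ↥M) ⊤)
    (hquot : ∀ (N : Subgroup X) [N.Normal], N ≠ ⊥ →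
      Cfsg.FamilyControlsTransferIn p (indFam 𝒲 (X ⧸ N)) ⊤)
    (hcon : centralizer ((Cfsg.pCore p X : Subgroup X) : Set X) ≤ Cfsg.pCore p X →
      Cfsg.pCore p X ≠ ⊥ ∨ (S : Subgroup X) = ⊤ → XferAt (indFam 𝒲 X) ⊤ (S : Subgroup X)) :
    XferAt (indFam 𝒲 X) ⊤ (S : Subgroup X) := by
  haveI := LocalEvenA.pCore_normal' p X
  set Q := Cfsg.pCore p X with hQdef
  set C := centralizer ((Q : Subgroup X) : Set X) with hCdef
  by_cases hST : (S : Subgroup X) = ⊤
  · refine hcon ?_ (Or.inr hST)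
    refine le_trans le_top (LocalEvenA.le_pCore_of_normal inferInstance ?_)
    exact hST ▸ S.2
  by_cases hQ : Q = ⊥
  · refine xfer_of_locals S (isConjugacyFunctor_indFam h𝒲) fun T hT hfn => ?_
    refine xfer_move_sub h𝒲 (hfn.sylIn S.2) (hsub _ fun h => hT ?_)
    exact le_bot_iff.mp (hQ ▸ le_pCore_of_normalizer (S.2.to_le hfn.1) h)
  set D := xCtl (indFam 𝒲 X) ⊤ (S : Subgroup X)
  have hsubS : ∀ M : Subgroup X, M ≠ ⊤ → (S : Subgroup X) ≤ M →
      XferAt (indFam 𝒲 X) M (S : Subgroup X) := fun M hM hSM =>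
    xfer_move_sub h𝒲 (isSylIn_of_le (isSylIn_top S) hSM le_top) (hsub M hM)
  have hSD := xfer_commutator_le S hsubS hST
  have hmod := xfer_mod_pCore h𝒲 S hsubS (hquot Q hQ)
  set N₀ := normalizer ((((S : Subgroup X) ⊓ (Q ⊔ C) : Subgroup X)) : Set X) with hN₀
  by_cases hN : N₀ = ⊤
  · obtain ⟨R, hRn, hRc, hR0⟩ := exists_pPrime_part S hN
    by_cases hR : R = ⊥
    · exact hcon (hR0 hR) (Or.inl hQ)
    · haveI := hRn
      exact xfer_of_quotient h𝒲 S R hRc (hquot R hR)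
  have hSN : (S : Subgroup X) ≤ N₀ := by
    intro s hs
    refine mem_normalizer_iff.mpr fun x => ?_
    rw [mem_inf, mem_inf]
    refine and_congr (mem_normalizer_iff.mp (le_normalizer hs) x) ?_
    exact mem_normalizer_iff.mp (by rw [normalizer_eq_top]; trivial) x
  have hQD : ∀ x ∈ Q, x ∈ _root_.commutator X → x ∈ D := by
    intro x hxQ hxc
    refine mem_of_transfer S D (xCtl_normalized S hSD) hSD x (pCore_le_sylow S hxQ) hxc
      (fun t => pCore_le_sylow S ?_) fun t => ?_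
    · simpa using ‹Q.Normal›.conj_mem x hxQ t⁻¹
    have hxt : t ∈ (C : Set X) * (N₀ : Set X) := by
      rw [← normal_mul, centralizer_sup_normalizer S]
      trivial
    obtain ⟨c, hc, n, hn, rfl⟩ := Set.mem_mul.mp hxt
    have hcx : c⁻¹ * x * c = x := by
      have := mem_centralizer_iff.mp hc x hxQ
      rw [mul_assoc, this, inv_mul_cancel_left]
    rw [show (c * n)⁻¹ * x * (c * n) = n⁻¹ * (c⁻¹ * x * c) * n by group, hcx]
    refine proper_le_xCtl S hSN (hsubS _ hN hSN) ⟨?_, ?_⟩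
    · refine Subgroup.mul_mem _ (Subgroup.inv_mem _ (pCore_le_sylow S hxQ)) (pCore_le_sylow S ?_)
      simpa using ‹Q.Normal›.conj_mem x hxQ n⁻¹
    · have := commutator_mem_commutator (H₁ := N₀) (H₂ := N₀)
        (inv_mem (hSN (pCore_le_sylow S hxQ))) (inv_mem hn)
      simpa [commutatorElement_def, mul_assoc] using this
  intro x hx
  obtain ⟨d, hd, k, hk, rfl⟩ : ∃ d ∈ D, ∃ k ∈ Q, x = d * k := by
    have := hmod hx
    rw [← SetLike.mem_coe, mul_normal, Set.mem_mul] at this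
    obtain ⟨d, hd, k, hk, e⟩ := this
    exact ⟨d, hd, k, hk, e.symm⟩
  refine mul_mem hd (hQD k hk ?_)
  rw [_root_.commutator_def]
  have h1 := Subgroup.mul_mem _ (Subgroup.inv_mem _ (xCtl_le hd).2) hx.2
  rwa [inv_mul_cancel_left] at h1

/-- Control of transfer from the constrained sections. -/
theorem xfer_of_sections {G : Type u} [Group G] [Finite G]
    (h𝒲 : ∀ W ∈ 𝒲, Cfsg.IsCharPFunctor.{u} p W)
    (hcon : ∀ (K R : Subgroup G) [hR : (R.subgroupOf K).Normal],
      centralizer ((Cfsg.pCore p (↥K ⧸ R.subgroupOf K) : Subgroup _) : Set _) ≤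
        Cfsg.pCore p (↥K ⧸ R.subgroupOf K) →
      (∀ M : Subgroup (↥K ⧸ R.subgroupOf K), M ≠ ⊤ →
        Cfsg.FamilyControlsTransferIn p (indFam 𝒲 ↥M) ⊤) →
      (∀ (N : Subgroup (↥K ⧸ R.subgroupOf K)) [N.Normal], N ≠ ⊥ →
        Cfsg.FamilyControlsTransferIn p (indFam 𝒲 ((↥K ⧸ R.subgroupOf K) ⧸ N)) ⊤) →
      ∀ S : Sylow p (↥K ⧸ R.subgroupOf K),
        XferAt (indFam 𝒲 (↥K ⧸ R.subgroupOf K)) ⊤ (S : Subgroup _)) :
    (∀ (K R : Subgroup G) [hR : (R.subgroupOf K).Normal],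
      Cfsg.FamilyControlsTransferIn p (indFam 𝒲 (↥K ⧸ R.subgroupOf K)) ⊤) ∧
      Cfsg.FamilyControlsTransferIn p (indFam 𝒲 G) ⊤ := by
  refine section_induction (fun X _ => Cfsg.FamilyControlsTransferIn p (indFam 𝒲 X) ⊤) ?_ ?_
  · intro X Y _ _ _ e h
    haveI : Finite Y := Finite.of_equiv X e.toEquiv
    obtain ⟨T, hT, h1⟩ := at_of_familyTransfer h
    have h2 := isSylIn_map_injective e.toMonoidHom e.injective hT
    have h3 := h1.map h𝒲 e.toMonoidHom e.injective hT.2.1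
    rw [map_top_of_surjective _ (by exact e.surjective)] at h2 h3
    exact familyTransfer_of_at h2 h3
  · intro K R hR hsub hquot
    obtain ⟨S⟩ : Nonempty (Sylow p (↥K ⧸ R.subgroupOf K)) := inferInstance
    exact familyTransfer_of_at (isSylIn_top S)
      (xfer_step h𝒲 S hsub hquot fun hc _ => hcon K R hc hsub hquot S)

end Cfsg.Agent.ConjFunctor

namespace Cfsg.Agent.ConjFunctor

open Subgroup
open scoped Pointwise

universe v

variable {X : Type v} [Group X] [Finite X] {p : ℕ} [hp : Fact p.Prime]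
  {𝒲 : Set (∀ (Q : Type v) [Group Q], Subgroup Q)}

/-- In a constrained group, control inside `O_p` suffices. -/
theorem xfer_constrained (h𝒲 : ∀ W ∈ 𝒲, Cfsg.IsCharPFunctor.{v} p W) (S : Sylow p X)
    (hsub : ∀ M : Subgroup X, M ≠ ⊤ → Cfsg.FamilyControlsTransferIn p (indFam 𝒲 ↥M) ⊤)
    (hquot : ∀ (N : Subgroup X) [N.Normal], N ≠ ⊥ →
      Cfsg.FamilyControlsTransferIn p (indFam 𝒲 (X ⧸ N)) ⊤)
    (hc : centralizer ((Cfsg.pCore p X : Subgroup X) : Set X) ≤ Cfsg.pCore p X)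
    (hQ : Cfsg.pCore p X ⊓ ⁅(⊤ : Subgroup X), ⊤⁆ ≤ xCtl (indFam 𝒲 X) ⊤ (S : Subgroup X)) :
    XferAt (indFam 𝒲 X) ⊤ (S : Subgroup X) := by
  haveI := LocalEvenA.pCore_normal' p X
  by_cases hb : Cfsg.pCore p X = ⊥
  · have htop : (⊤ : Subgroup X) = ⊥ := by
      rw [eq_bot_iff]
      intro x _
      refine hb.le (hc (mem_centralizer_iff.mpr fun y hy => ?_))
      rw [hb] at hy
      rw [mem_bot.mp hy, one_mul, mul_one]
    intro x hx
    have : x ∈ (⊥ : Subgroup X) := htop ▸ mem_top x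
    rw [mem_bot.mp this]
    exact one_mem _
  refine fun x hx => ?_
  have hsubS : ∀ M : Subgroup X, M ≠ ⊤ → (S : Subgroup X) ≤ M →
      XferAt (indFam 𝒲 X) M (S : Subgroup X) := fun M hM hSM =>
    xfer_move_sub h𝒲 (isSylIn_of_le (isSylIn_top S) hSM le_top) (hsub M hM)
  have := xfer_mod_pCore h𝒲 S hsubS (hquot _ hb) hx
  rw [← SetLike.mem_coe, mul_normal, Set.mem_mul] at this
  obtain ⟨d, hd, k, hk, rfl⟩ := this
  refine Subgroup.mul_mem _ hd (hQ ⟨hk, ?_⟩)
  have h1 := Subgroup.mul_mem _ (Subgroup.inv_mem _ (xCtl_le hd).2) hx.2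
  rwa [inv_mul_cancel_left] at h1

end Cfsg.Agent.ConjFunctor
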